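import Mathlib
import Cfsg.Agent.Lib.Transfer.Tate

/-!
An elementary abelian 2-group `E` acting on a `p`-group `W` together with an element `c` normalising `E`
whose norm vanishes on `W/W'`: the elements `e * c e c⁻¹` centralise `W`.
-/

set_option autoImplicit false

namespace Cfsg.Agent.Lib.TwoPEven

open Subgroup

universe u v

theorem fixed_pow_of_norm {V : Type v} [CommGroup V] {L : Type u} [Group L] (ρ : L →* MulAut V)
    {E : Subgroup L} [Fintype E] (hcomm : ∀ a ∈ E, ∀ b ∈ E, a * b = b * a)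
    (hsq : ∀ a ∈ E, a * a = 1) {c : L} (hcE : ∀ a ∈ E, ∀ i : ℕ, c ^ i * a * (c ^ i)⁻¹ ∈ E)
    {r : ℕ} (hr : r ≠ 0) (hsum : ∀ v, ∏ i ∈ Finset.range r, ρ (c ^ i) v = 1) {f : L}
    (hf : ∀ i ∈ Finset.range r, i ≠ 0 → ∃ a ∈ E, a * (c ^ i * a * (c ^ i)⁻¹) = f) (v : V) :
    ρ f (v ^ Fintype.card E) = v ^ Fintype.card E := by
  have hg : ∀ (a : E) (i : ℕ), (a : L) * (c ^ i * a * (c ^ i)⁻¹) ∈ E := fun a i =>
    E.mul_mem a.2 (hcE a a.2 i)
  set Y : ℕ → V := fun i => ∏ a : E, ρ ((a : L) * c ^ i) (ρ (a : L) v) with hY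
  have h0 : Y 0 = v ^ Fintype.card E := by
    rw [hY, ← Finset.card_univ]
    refine Finset.prod_eq_pow_card fun a _ => ?_
    rw [← MulAut.mul_apply, ← map_mul, pow_zero, mul_one, hsq a a.2, map_one, MulAut.one_apply]
  have htot : ∏ i ∈ Finset.range r, Y i = 1 := by
    rw [hY, Finset.prod_comm]
    refine Finset.prod_eq_one fun a _ => ?_
    simp only [map_mul, MulAut.mul_apply]
    rw [← map_prod, hsum, map_one]
  have hfix : ∀ i ∈ Finset.range r, i ≠ 0 → ρ f (Y i) = Y i := by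
    intro i hi hi0
    obtain ⟨a₀, ha₀, rfl⟩ := hf i hi hi0
    have e : ∀ a : E, ρ ((a : L) * c ^ i) (ρ (a : L) v) =
        ρ ((a : L) * (c ^ i * a * (c ^ i)⁻¹)) (ρ (c ^ i) v) := fun a => by
      rw [← MulAut.mul_apply, ← map_mul, ← MulAut.mul_apply, ← map_mul]
      congr 2; group
    rw [hY]
    simp only [e, map_prod]
    refine Fintype.prod_equiv (Equiv.mulLeft (⟨a₀, ha₀⟩ : E)) _ _ fun a => ?_
    have h1 : a₀ * (c ^ i * a₀ * (c ^ i)⁻¹) * ((a : L) * (c ^ i * a * (c ^ i)⁻¹)) =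
        a₀ * a * (c ^ i * (a₀ * a) * (c ^ i)⁻¹) := by
      calc _ = a₀ * ((c ^ i * a₀ * (c ^ i)⁻¹) * a) * (c ^ i * a * (c ^ i)⁻¹) := by group
        _ = a₀ * (a * (c ^ i * a₀ * (c ^ i)⁻¹)) * (c ^ i * a * (c ^ i)⁻¹) := by
          rw [hcomm _ (hcE a₀ ha₀ i) a a.2]
        _ = _ := by group
    rw [← MulAut.mul_apply, ← map_mul, h1]
    rfl
  obtain ⟨k, rfl⟩ := Nat.exists_eq_succ_of_ne_zero hr
  rw [Finset.prod_range_succ'] at htot
  have hv : v ^ Fintype.card E = (∏ i ∈ Finset.range k, Y (i + 1))⁻¹ := by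
    rw [← h0]; exact eq_inv_of_mul_eq_one_right htot
  rw [hv, map_inv, map_prod, Finset.prod_congr rfl fun i hi => hfix (i + 1)
    (Finset.mem_range.2 (by have := Finset.mem_range.1 hi; omega)) (Nat.succ_ne_zero i)]

variable {G : Type u} [Group G]

theorem exists_mul_conj_eq {E : Subgroup G} {c : G} {r j i : ℕ} (hcomm : ∀ a ∈ E, ∀ b ∈ E, a * b = b * a)
    (hsq : ∀ a ∈ E, a * a = 1) (hcE : ∀ a ∈ E, ∀ i : ℕ, c ^ i * a * (c ^ i)⁻¹ ∈ E)
    (hcr : ∀ a ∈ E, c ^ r * a = a * c ^ r) (hij : i * j % r = 1) {e : G} (he : e ∈ E) :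
    ∃ a ∈ E, a * (c ^ i * a * (c ^ i)⁻¹) = e * (c * e * c⁻¹) := by
  have key : ∀ m : ℕ, ∃ a ∈ E, a * (c ^ i * a * (c ^ i)⁻¹) = e * (c ^ (i * m) * e * (c ^ (i * m))⁻¹) := by
    intro m
    induction m with
    | zero => exact ⟨1, E.one_mem, by simp [hsq e he]⟩
    | succ m ih =>
      obtain ⟨a, ha, h⟩ := ih
      set x := c ^ (i * m) * e * (c ^ (i * m))⁻¹ with hx
      have hxE : x ∈ E := hcE e he _
      set y := c ^ i * x * (c ^ i)⁻¹ with hy
      refine ⟨a * x, E.mul_mem ha hxE, ?_⟩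
      calc a * x * (c ^ i * (a * x) * (c ^ i)⁻¹)
          = a * (x * (c ^ i * a * (c ^ i)⁻¹)) * y := by rw [hy]; group
        _ = a * ((c ^ i * a * (c ^ i)⁻¹) * x) * y := by rw [hcomm x hxE _ (hcE a ha i)]
        _ = e * (x * x) * y := by rw [← mul_assoc a, h]; group
        _ = e * y := by rw [hsq x hxE, mul_one]
        _ = _ := by rw [hy, hx, Nat.mul_succ, add_comm, pow_add]; group
  obtain ⟨a, ha, h⟩ := key j
  refine ⟨a, ha, h.trans ?_⟩
  obtain ⟨q, hq⟩ : ∃ q, i * j = 1 + r * q := ⟨i * j / r, by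
    have := Nat.mod_add_div (i * j) r; rw [hij] at this; omega⟩
  have hq' : ∀ q : ℕ, c ^ (r * q) * e = e * c ^ (r * q) := fun q => by
    rw [pow_mul]; exact (Commute.pow_left (hcr e he : Commute (c ^ r) e) q).eq
  rw [hq, pow_add, pow_one, mul_assoc c _ e, hq' q]
  group

/-- Conjugation on `W / W'`. -/
noncomputable def abAction (W : Subgroup G) :
    normalizer (W : Set G) →* MulAut (Abelianization W) where
  toFun n := (W.normalizerMonoidHom n).abelianizationCongr
  map_one' := by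
    ext a
    obtain ⟨a, rfl⟩ := QuotientGroup.mk_surjective a
    simp
    rfl
  map_mul' m n := by
    ext a
    obtain ⟨a, rfl⟩ := QuotientGroup.mk_surjective a
    simp
    rfl

theorem abAction_of (W : Subgroup G) (n : normalizer (W : Set G)) (w : W) :
    abAction W n (Abelianization.of w) = Abelianization.of (W.normalizerMonoidHom n w) := rfl

theorem coe_normalizerMonoidHom (W : Subgroup G) (n : normalizer (W : Set G)) (w : W) :
    ((W.normalizerMonoidHom n w : W) : G) = (n : G) * w * (n : G)⁻¹ := rfl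

/-- If the norm of `c` vanishes on `W / W'` then `e * c e c⁻¹` centralises `W`. -/
theorem mem_centralizer_of_norm [Finite G] {p : ℕ} [hp : Fact p.Prime] (hp2 : p ≠ 2)
    {W E : Subgroup G} (hW : IsPGroup p W) (hcomm : ∀ a ∈ E, ∀ b ∈ E, a * b = b * a)
    (hsq : ∀ a ∈ E, a * a = 1) (hEW : E ≤ normalizer (W : Set G))
    (c : normalizer (W : Set G)) (hcE : (c : G) ∈ normalizer (E : Set G)) {r : ℕ} (hr : r.Prime)
    (hcr : ∀ a ∈ E, (c : G) ^ r * a = a * (c : G) ^ r)
    (hnorm : ∀ v, ∏ i ∈ Finset.range r, abAction W (c ^ i) v = 1)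
    {e : G} (he : e ∈ E) : e * ((c : G) * e * (c : G)⁻¹) ∈ centralizer (W : Set G) := by
  classical
  let EL : Subgroup (normalizer (W : Set G)) := E.subgroupOf (normalizer (W : Set G))
  letI := Fintype.ofFinite EL
  have hconj : ∀ a ∈ E, ∀ i : ℕ, (c : G) ^ i * a * ((c : G) ^ i)⁻¹ ∈ E := fun a ha i =>
    (mem_normalizer_iff.1 (pow_mem hcE i) a).1 ha
  set f : normalizer (W : Set G) := ⟨e * ((c : G) * e * (c : G)⁻¹),
    Subgroup.mul_mem _ (hEW he) (hEW (by simpa using hconj e he 1))⟩ with hfdef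
  have hfE : (f : G) ∈ E := E.mul_mem he (by simpa using hconj e he 1)
  have hfix : ∀ v, abAction W f (v ^ Fintype.card EL) = v ^ Fintype.card EL := by
    refine fixed_pow_of_norm (abAction W) (c := c) (E := EL) (fun a ha b hb => Subtype.ext (hcomm _ ha _ hb))
      (fun a ha => Subtype.ext (hsq _ ha)) (fun a ha i => ?_) hr.pos.ne' hnorm (fun i hi hi0 => ?_)
    · show ((c ^ i * a * (c ^ i)⁻¹ : normalizer (W : Set G)) : G) ∈ E
      simpa using hconj _ ha i
    · obtain ⟨j, hj⟩ : ∃ j : ℕ, i * j % r = 1 := by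
        haveI := Fact.mk hr
        have hne : (i : ZMod r) ≠ 0 := fun h => hi0 (Nat.eq_zero_of_dvd_of_lt
          ((ZMod.natCast_eq_zero_iff _ _).1 h) (Finset.mem_range.1 hi))
        refine ⟨((i : ZMod r)⁻¹).val, ?_⟩
        have h2 : ((i * ((i : ZMod r)⁻¹).val : ℕ) : ZMod r) = 1 := by
          rw [Nat.cast_mul, ZMod.natCast_zmod_val, mul_inv_cancel₀ hne]
        have h3 := congrArg ZMod.val h2
        rwa [ZMod.val_natCast, ZMod.val_one] at h3
      obtain ⟨a, ha, h⟩ := exists_mul_conj_eq hcomm hsq hconj hcr hj he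
      exact ⟨⟨a, hEW ha⟩, ha, Subtype.ext (by simpa [hfdef] using h)⟩
  -- the card of `EL` is prime to the order of the abelianisation
  have hcop : (Nat.card (Abelianization W)).Coprime (Fintype.card EL) := by
    have h2 : IsPGroup 2 EL := fun x => ⟨1, Subtype.ext (Subtype.ext (by
      simpa [pow_two] using hsq _ x.2))⟩
    have hV : IsPGroup p (Abelianization W) := hW.to_quotient _
    obtain ⟨k, hk⟩ := IsPGroup.iff_card.1 hV
    haveI := Fact.mk Nat.prime_two
    obtain ⟨l, hl⟩ := IsPGroup.iff_card.1 h2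
    rw [hk, ← Nat.card_eq_fintype_card, hl]
    exact Nat.Coprime.pow k l ((Nat.coprime_primes hp.out Nat.prime_two).2 hp2)
  have hfix' : ∀ v, abAction W f v = v := fun v => by
    obtain ⟨w, rfl⟩ := (powCoprime hcop).surjective v
    exact hfix w
  set g : MulAut W := W.normalizerMonoidHom f with hg
  have hgg : ∀ w : W, g (g w) = w := fun w => by
    have : f * f = 1 := Subtype.ext (hsq _ hfE)
    rw [hg, ← MulAut.mul_apply, ← map_mul, this, map_one, MulAut.one_apply]
  set C : Subgroup W := (g.toMonoidHom).eqLocus (MonoidHom.id W) with hC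
  have hCmem : ∀ w : W, w ∈ C ↔ g w = w := fun w => Iff.rfl
  have hsup : C ⊔ commutator W = ⊤ := by
    rw [eq_top_iff]
    intro z _
    set y := z⁻¹ * g z with hy
    have hyc : y ∈ commutator W := by
      rw [← Abelianization.ker_of, MonoidHom.mem_ker, hy, map_mul, map_inv, ← abAction_of, hfix',
        inv_mul_cancel]
    have hgy : g y = y⁻¹ := by rw [hy, map_mul, map_inv, hgg, mul_inv_rev, inv_inv]
    obtain ⟨k, hk⟩ : ∃ k, orderOf y + 1 = k + k := by
      obtain ⟨a, ha⟩ := (IsPGroup.iff_orderOf.1 hW) y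
      have : Odd (orderOf y) := by rw [ha]; exact (hp.out.odd_of_ne_two hp2).pow
      obtain ⟨b, hb⟩ := this
      exact ⟨b + 1, by omega⟩
    have hs : y ^ k * y ^ k = y := by
      rw [← pow_add, ← hk, pow_succ, pow_orderOf_eq_one, one_mul]
    have hzs : z * y ^ k ∈ C := by
      rw [hCmem, map_mul, map_pow, hgy, show g z = z * y by rw [hy, mul_inv_cancel_left], mul_assoc]
      congr 1
      rw [inv_pow, mul_inv_eq_iff_eq_mul, hs]
    have := mul_mem_sup hzs (inv_mem (pow_mem hyc k))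
    rwa [mul_inv_cancel_right] at this
  have hCtop : C = ⊤ := frattini_nongenerating (top_le_iff.1 (hsup.symm.le.trans
    (sup_le_sup_left (Transfer.commutator_le_frattini_of_isPGroup hW) C)))
  rw [mem_centralizer_iff]
  intro w hw
  have h1 : g ⟨w, hw⟩ = ⟨w, hw⟩ := (hCmem _).1 (hCtop ▸ mem_top _)
  have h2 : (f : G) * w * (f : G)⁻¹ = w := congrArg Subtype.val h1
  have h3 : (f : G) * w = w * (f : G) := mul_inv_eq_iff_eq_mul.1 h2
  exact h3.symm.trans rfl

end Cfsg.Agent.Lib.TwoPEven
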