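import Mathlib
import Cfsg.Agent.Lib.TwoPEven.Norm
import Cfsg.Agent.Lib.SECount.TransferMod
import Cfsg.Agent.Lib.SmallGroups.Basic
import Cfsg.Agent.Lib.Burnside.Paqb
import Cfsg.Agent.Lib.SolvableCore.Basic
import Cfsg.Agent.Lib.PSolvable.Core
import Cfsg.Agent.Lib.Transfer.Fusion
import Cfsg.Agent.Lib.Coprime.Sylow
import Cfsg.Agent.Lib.Signalizer.Family

/-!
Finite groups in which every element of even order, or of order divisible by the odd prime `p`, has
order 2, `p` or `2p`: first properties, cores of the local subgroups and the centralisation lemma.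
-/

set_option autoImplicit false

namespace Cfsg.Agent.Lib.TwoPEven

open Subgroup

universe u

variable {G : Type u} [Group G]

/-- Every element of order divisible by `2` or `p` has order `2`, `p` or `2p`. -/
structure Hyp (G : Type u) [Group G] (p : ℕ) : Prop where
  prime : p.Prime
  ne_two : p ≠ 2
  ord : ∀ x : G, 2 ∣ orderOf x ∨ p ∣ orderOf x → orderOf x = 2 ∨ orderOf x = p ∨ orderOf x = 2 * p

variable {p : ℕ}

theorem Hyp.fact (h : Hyp G p) : Fact p.Prime := ⟨h.prime⟩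

theorem Hyp.odd (h : Hyp G p) : Odd p := h.prime.odd_of_ne_two h.ne_two

theorem Hyp.coprime_two (h : Hyp G p) : Nat.Coprime 2 p :=
  (Nat.coprime_primes Nat.prime_two h.prime).2 (Ne.symm h.ne_two)

theorem Hyp.pow_eq (h : Hyp G p) {x : G} (hx : 2 ∣ orderOf x ∨ p ∣ orderOf x) :
    x ^ (2 * p) = 1 := by
  rw [← orderOf_dvd_iff_pow_eq_one]
  rcases h.ord x hx with e | e | e <;> rw [e]
  exacts [Dvd.intro _ rfl, Dvd.intro_left _ rfl]

theorem Hyp.pow_of_primes (h : Hyp G p) {x : G}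
    (hx : ∀ r : ℕ, r.Prime → r ∣ orderOf x → r = 2 ∨ r = p) : x ^ (2 * p) = 1 := by
  by_cases h1 : orderOf x = 1
  · rw [orderOf_eq_one_iff.1 h1, one_pow]
  · refine h.pow_eq ?_
    obtain ⟨r, hr, hrd⟩ := Nat.exists_prime_and_dvd h1
    rcases hx r hr hrd with rfl | rfl
    exacts [Or.inl hrd, Or.inr hrd]

theorem Hyp.eq_or_eq_of_dvd (h : Hyp G p) {x : G} (hx : x ^ (2 * p) = 1) {r : ℕ} (hr : r.Prime)
    (hrx : r ∣ orderOf x) : r = 2 ∨ r = p :=
  (hr.dvd_mul.1 (hrx.trans (orderOf_dvd_of_pow_eq_one hx))).imp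
    (fun e => (Nat.prime_dvd_prime_iff_eq hr Nat.prime_two).1 e)
    (fun e => (Nat.prime_dvd_prime_iff_eq hr h.prime).1 e)

theorem Hyp.cent_pow [Finite G] (h : Hyp G p) {x y : G} (hx : 2 ∣ orderOf x ∨ p ∣ orderOf x)
    (hc : Commute x y) : y ^ (2 * p) = 1 := by
  refine h.pow_of_primes fun r hr hrd => ?_
  by_contra hne
  push Not at hne
  obtain ⟨q, hq, hq2, hqx⟩ : ∃ q : ℕ, q.Prime ∧ (q = 2 ∨ q = p) ∧ q ∣ orderOf x := by
    rcases hx with e | e
    exacts [⟨2, Nat.prime_two, Or.inl rfl, e⟩, ⟨p, h.prime, Or.inr rfl, e⟩]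
  have hox : orderOf (x ^ (orderOf x / q)) = q := orderOf_pow_orderOf_div (orderOf_pos x).ne' hqx
  have hoy : orderOf (y ^ (orderOf y / r)) = r := orderOf_pow_orderOf_div (orderOf_pos y).ne' hrd
  have hqr : q ≠ r := by
    rcases hq2 with rfl | rfl
    exacts [fun e => hne.1 e.symm, fun e => hne.2 e.symm]
  have ho := (hc.pow_pow (orderOf x / q) (orderOf y / r)).orderOf_mul_eq_mul_orderOf_of_coprime
    (by rw [hox, hoy]; exact (Nat.coprime_primes hq hr).2 hqr)
  rw [hox, hoy] at ho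
  have h2 : (x ^ (orderOf x / q) * y ^ (orderOf y / r)) ^ (2 * p) = 1 := h.pow_eq (by
    rw [ho]
    rcases hq2 with rfl | rfl
    exacts [Or.inl (dvd_mul_right _ _), Or.inr (dvd_mul_right _ _)])
  rcases h.eq_or_eq_of_dvd h2 hr (ho ▸ dvd_mul_left _ _) with e | e
  exacts [hne.1 e, hne.2 e]

theorem Hyp.cent_mem [Finite G] (h : Hyp G p) {x : G} (hx : 2 ∣ orderOf x ∨ p ∣ orderOf x) :
    ∀ y ∈ centralizer ({x} : Set G), y ^ (2 * p) = 1 := fun _ hy =>
  h.cent_pow hx (mem_centralizer_singleton_iff.1 hy).symm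

theorem Hyp.cent_mem_two [Finite G] (h : Hyp G p) {x : G} (h1 : x ≠ 1) (h2 : x * x = 1) :
    ∀ y ∈ centralizer ({x} : Set G), y ^ (2 * p) = 1 :=
  h.cent_mem (Or.inl (by rw [orderOf_eq_prime (p := 2) (by rwa [pow_two]) h1]))

theorem Hyp.cent_mem_p [Finite G] (h : Hyp G p) {x : G} (h1 : x ≠ 1) (h2 : x ^ p = 1) :
    ∀ y ∈ centralizer ({x} : Set G), y ^ (2 * p) = 1 :=
  h.cent_mem (Or.inr (by haveI := h.fact; rw [orderOf_eq_prime h2 h1]))

theorem Hyp.eq_one_of_prime_order [Finite G] (h : Hyp G p) {r : ℕ} (hr : r.Prime) (h2 : r ≠ 2)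
    (hp : r ≠ p) {x y : G} (hy : y ^ r = 1) (hx : x ^ (2 * p) = 1) (hc : Commute x y) :
    x = 1 ∨ y = 1 := by
  by_contra hne
  push Not at hne
  haveI := Fact.mk hr
  have hy' : orderOf y = r := orderOf_eq_prime hy hne.2
  obtain ⟨s, hs, hsd⟩ := Nat.exists_prime_and_dvd (mt orderOf_eq_one_iff.1 hne.1)
  have := h.cent_pow (x := x) (y := y) (by
    rcases h.eq_or_eq_of_dvd hx hs hsd with rfl | rfl
    exacts [Or.inl hsd, Or.inr hsd]) hc
  rcases h.eq_or_eq_of_dvd this hr (hy' ▸ dvd_rfl) with e | e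
  exacts [h2 e, hp e]

theorem Hyp.mul_self (h : Hyp G p) {x : G} {k : ℕ} (hx : x ^ 2 ^ k = 1) : x * x = 1 := by
  obtain ⟨j, -, hj⟩ := (Nat.dvd_prime_pow Nat.prime_two).1 (orderOf_dvd_of_pow_eq_one hx)
  rcases j.eq_zero_or_pos with rfl | hj0
  · rw [show x = 1 from orderOf_eq_one_iff.1 (by simpa using hj), one_mul]
  · have h2 : 2 ∣ orderOf x := hj ▸ dvd_pow_self 2 (by omega)
    rw [← pow_two, ← orderOf_dvd_iff_pow_eq_one]
    rcases h.ord x (Or.inl h2) with e | e | e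
    · rw [e]
    · exact absurd ((Nat.prime_dvd_prime_iff_eq Nat.prime_two h.prime).1 (e ▸ h2)) (Ne.symm h.ne_two)
    · exact absurd ((Nat.prime_dvd_prime_iff_eq h.prime Nat.prime_two).1
        (h.prime.dvd_of_dvd_pow (hj ▸ e ▸ dvd_mul_left p 2))) h.ne_two

theorem Hyp.pow_p (h : Hyp G p) {K : Subgroup G} (hK : IsPGroup p K) {x : G} (hx : x ∈ K) :
    x ^ p = 1 := by
  obtain ⟨k, hk⟩ := hK ⟨x, hx⟩
  have hk' : x ^ p ^ k = 1 := congrArg Subtype.val hk
  obtain ⟨j, -, hj⟩ := (Nat.dvd_prime_pow h.prime).1 (orderOf_dvd_of_pow_eq_one hk')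
  rw [← orderOf_dvd_iff_pow_eq_one, hj]
  rcases j.eq_zero_or_pos with rfl | hj0
  · simp
  · rcases h.ord x (Or.inr (hj ▸ dvd_pow_self p (by omega))) with e | e | e
    · exact absurd ((Nat.prime_dvd_prime_iff_eq h.prime Nat.prime_two).1
        (e ▸ hj ▸ dvd_pow_self p (by omega : j ≠ 0))) h.ne_two
    · rw [← hj, e]
    · exact absurd ((Nat.prime_dvd_prime_iff_eq Nat.prime_two h.prime).1
        (Nat.prime_two.dvd_of_dvd_pow (hj ▸ e ▸ dvd_mul_right 2 p))) (Ne.symm h.ne_two)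

theorem Hyp.pow_p_of_odd (h : Hyp G p) {x : G} (hodd : Odd (orderOf x)) (hx : x ^ (2 * p) = 1) :
    x ^ p = 1 := by
  rw [← orderOf_dvd_iff_pow_eq_one]
  exact (Nat.Coprime.dvd_of_dvd_mul_left (Nat.coprime_two_right.2 hodd)
    (orderOf_dvd_of_pow_eq_one hx))

theorem Hyp.isPGroup_of_odd [Finite G] (h : Hyp G p) {K : Subgroup G} (hK : ¬ 2 ∣ Nat.card K)
    (he : ∀ x ∈ K, x ^ (2 * p) = 1) : IsPGroup p K := fun x => ⟨1, Subtype.ext (by
  rw [pow_one]
  refine h.pow_p_of_odd ?_ (he x x.2)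
  rw [Nat.odd_iff, ← Nat.two_dvd_ne_zero]
  exact fun hd => hK (hd.trans (Subgroup.orderOf_dvd_natCard K x.2)))⟩

theorem Hyp.isSolvable_of_exp [Finite G] (h : Hyp G p) {K : Subgroup G}
    (he : ∀ x ∈ K, x ^ (2 * p) = 1) : Group.IsSolvable K := by
  haveI := Fact.mk Nat.prime_two
  haveI := h.fact
  refine Burnside.isSolvable_of_card_eq_prime_pow_mul (p := 2) (q := p)
    (a := (Nat.card K).factorization 2) (b := (Nat.card K).factorization p) Nat.prime_two h.prime ?_
  conv_lhs => rw [← Nat.prod_factorization_pow_eq_self (n := Nat.card K) Nat.card_pos.ne']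
  have hsub : (Nat.card K).factorization.support ⊆ {2, p} := by
    intro r hr
    rw [Nat.support_factorization, Nat.mem_primeFactors] at hr
    haveI := Fact.mk hr.1
    obtain ⟨x, hx⟩ := exists_prime_orderOf_dvd_card' (G := K) r hr.2.1
    rw [← Subgroup.orderOf_coe] at hx
    simpa using h.eq_or_eq_of_dvd (he x x.2) hr.1 hx.symm.dvd
  rw [Finsupp.prod_of_support_subset _ hsub _ (by simp), Finset.prod_pair (Ne.symm h.ne_two)]

/-! ### The Sylow 2-subgroup -/

theorem Hyp.sylow_mul_self (h : Hyp G p) (E : Sylow 2 G) {a : G} (ha : a ∈ (E : Subgroup G)) :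
    a * a = 1 := by
  obtain ⟨k, hk⟩ := E.isPGroup' ⟨a, ha⟩
  exact h.mul_self (k := k) (congrArg Subtype.val hk)

theorem Hyp.sylow_comm (h : Hyp G p) (E : Sylow 2 G) :
    ∀ a ∈ (E : Subgroup G), ∀ b ∈ (E : Subgroup G), a * b = b * a := fun a ha b hb => by
  have h1 := h.sylow_mul_self E (E.toSubgroup.mul_mem ha hb)
  calc a * b = a * ((a * b) * (a * b)) * b := by rw [h1, mul_one]
    _ = (a * a) * (b * a) * (b * b) := by group
    _ = b * a := by rw [h.sylow_mul_self E ha, h.sylow_mul_self E hb, one_mul, mul_one]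

theorem Hyp.elemAb (h : Hyp G p) (E : Sylow 2 G) : Cfsg.IsElementaryAbelian 2 (E : Subgroup G) :=
  ⟨⟨⟨fun a b => Subtype.ext (h.sylow_comm E a a.2 b b.2)⟩⟩,
    fun a ha => by rw [pow_two]; exact h.sylow_mul_self E ha⟩

theorem Hyp.sylow_le_centralizer (h : Hyp G p) (E : Sylow 2 G) {t : G} (ht : t ∈ (E : Subgroup G)) :
    (E : Subgroup G) ≤ centralizer ({t} : Set G) :=
  fun a ha => mem_centralizer_singleton_iff.2 (h.sylow_comm E a ha t ht)

theorem mem_sylow_of_sq (E : Sylow 2 G) {n : G} (hn : n ∈ normalizer ((E : Subgroup G) : Set G))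
    (h2 : n * n = 1) : n ∈ (E : Subgroup G) := by
  haveI := Fact.mk Nat.prime_two
  have hz : IsPGroup 2 (zpowers n) := fun x => ⟨1, Subtype.ext (by
    obtain ⟨i, hi⟩ := mem_zpowers_iff.1 x.2
    rw [SubmonoidClass.coe_pow, ← hi, pow_one, pow_two, ← (Commute.refl n).mul_zpow, h2, one_zpow]
    rfl)⟩
  have h1 := E.isPGroup'.to_sup_of_normal_left' hz (zpowers_le.2 hn)
  have h3 := E.is_maximal' h1 le_sup_left
  exact h3 ▸ mem_sup_right (mem_zpowers n)

theorem Hyp.invo_mem_sylow (h : Hyp G p) (E : Sylow 2 G) {n : G}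
    (hn : n ∈ normalizer ((E : Subgroup G) : Set G)) {k : ℕ} (hk : n ^ 2 ^ k = 1) :
    n ∈ (E : Subgroup G) :=
  mem_sylow_of_sq E hn (h.mul_self hk)

/-! ### Invariant subgroups of odd order -/

theorem four_not_cyclic [Finite G] {A : Subgroup G} (hsq : ∀ a ∈ A, a * a = 1)
    (h4 : 4 ≤ Nat.card A) : ¬ IsCyclic A := by
  intro hA
  obtain ⟨a, ha⟩ := hA.exists_generator
  have h1 : orderOf a = Nat.card A := orderOf_eq_card_of_forall_mem_zpowers ha
  have h2 : orderOf a ∣ 2 := orderOf_dvd_of_pow_eq_one (Subtype.ext (by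
    simpa [pow_two] using hsq a a.2))
  have := Nat.le_of_dvd two_pos h2
  omega

theorem isPGroup_of_sq {A : Subgroup G} (hsq : ∀ a ∈ A, a * a = 1) : IsPGroup 2 A := fun x =>
  ⟨1, Subtype.ext (by simpa [pow_two] using hsq x x.2)⟩

theorem coprime_of_sq [Finite G] {A K : Subgroup G} (hsq : ∀ a ∈ A, a * a = 1)
    (hK : ¬ 2 ∣ Nat.card K) : (Nat.card A).Coprime (Nat.card K) := by
  haveI := Fact.mk Nat.prime_two
  obtain ⟨k, hk⟩ := IsPGroup.iff_card.1 (isPGroup_of_sq hsq)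
  rw [hk]
  exact ((Nat.Prime.coprime_iff_not_dvd Nat.prime_two).2 hK).pow_left k

/-- Generation by centralisers of involutions. -/
theorem le_of_invos [Finite G] {A K L : Subgroup G} (hcomm : ∀ a ∈ A, ∀ b ∈ A, a * b = b * a)
    (hsq : ∀ a ∈ A, a * a = 1) (h4 : 4 ≤ Nat.card A) (hAK : A ≤ normalizer (K : Set G))
    (hK : ¬ 2 ∣ Nat.card K) (hL : ∀ a ∈ A, a ≠ 1 → K ⊓ centralizer {a} ≤ L) : K ≤ L :=
  haveI : IsMulCommutative A := ⟨⟨fun a b => Subtype.ext (hcomm a a.2 b b.2)⟩⟩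
  Coprime.le_of_noncyclic (four_not_cyclic hsq h4) hAK (coprime_of_sq hsq hK) hL

theorem Hyp.isPGroup_invariant [Finite G] (h : Hyp G p) {A K : Subgroup G}
    (hcomm : ∀ a ∈ A, ∀ b ∈ A, a * b = b * a) (hsq : ∀ a ∈ A, a * a = 1) (h4 : 4 ≤ Nat.card A)
    (hAK : A ≤ normalizer (K : Set G)) (hK : ¬ 2 ∣ Nat.card K) : IsPGroup p K := by
  haveI := h.fact
  rw [IsPGroup.iff_card]
  refine ⟨_, Nat.eq_prime_pow_of_unique_prime_dvd Nat.card_pos.ne' ?_⟩
  intro r hr hrd
  by_contra hne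
  haveI := Fact.mk hr
  have hA : Group.IsSolvable A := Group.isSolvable_of_comm fun a b => Subtype.ext (hcomm a a.2 b b.2)
  obtain ⟨R, hR⟩ := Coprime.exists_invariant_sylow (p := r) hAK (coprime_of_sq hsq hK) (Or.inl hA)
  have hr2 : r ≠ 2 := fun e => hK (e ▸ hrd)
  have hRr : IsPGroup r ((R : Subgroup K).map K.subtype) := R.isPGroup'.map _
  have hR1 : (R : Subgroup K).map K.subtype ≤ ⊥ := by
    refine le_of_invos hcomm hsq h4 hR (fun hd => hK (hd.trans ?_)) fun a ha ha1 => ?_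
    · exact Subgroup.card_dvd_of_le (map_subtype_le _)
    rintro x ⟨hxR, hxa⟩
    obtain ⟨k, hk⟩ := hRr ⟨x, hxR⟩
    have hk' : x ^ r ^ k = 1 := congrArg Subtype.val hk
    have hxp := h.cent_mem_two ha1 (hsq a ha) x hxa
    rw [mem_bot, ← orderOf_eq_one_iff]
    refine Nat.eq_one_of_dvd_coprimes (Nat.Coprime.pow_left k
      (Nat.Coprime.mul_right ((Nat.coprime_primes hr Nat.prime_two).2 hr2)
        ((Nat.coprime_primes hr h.prime).2 hne))) (orderOf_dvd_of_pow_eq_one hk')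
      (orderOf_dvd_of_pow_eq_one hxp)
  rw [le_bot_iff, map_eq_bot_iff_of_injective _ K.subtype_injective] at hR1
  exact R.ne_bot_of_dvd_card hrd hR1

theorem exists_mem_of_sup {N P : Subgroup G} [N.Normal] {x : G} (hx : x ∈ N ⊔ P) :
    ∃ o ∈ N, ∃ n ∈ P, x = o * n := by
  obtain ⟨o, ho, n, hn, rfl⟩ := mem_sup_of_normal_left.1 hx
  exact ⟨o, ho, n, hn, rfl⟩

/-- The Frattini decomposition of a `{2,p}`-subgroup with abelian Sylow 2-subgroup `A`. -/
theorem Hyp.exists_core [Finite G] (h : Hyp G p) {H A : Subgroup G}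
    (he : ∀ x ∈ H, x ^ (2 * p) = 1) (hA : A ≤ H) (hcomm : ∀ a ∈ A, ∀ b ∈ A, a * b = b * a)
    (hsq : ∀ a ∈ A, a * a = 1) (hidx : ¬ 2 ∣ A.relIndex H) :
    ∃ O : Subgroup G, O ≤ H ∧ IsPGroup p O ∧ H ≤ normalizer (O : Set G) ∧
      (∀ K ≤ H, IsPGroup p K → H ≤ normalizer (K : Set G) → K ≤ O) ∧
      ∀ x ∈ H, ∃ o ∈ O, ∃ n ∈ H, n ∈ normalizer (A : Set G) ∧ x = o * n := by
  classical
  haveI := Fact.mk Nat.prime_two
  haveI := h.fact
  haveI hs : Group.IsSolvable H := h.isSolvable_of_exp he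
  set N : Subgroup H := Cfsg.pPrimeCore 2 H with hN
  set A' : Subgroup H := A.subgroupOf H with hA'
  have hA'p : IsPGroup 2 A' := (isPGroup_of_sq hsq).comap_subtype
  set P : Sylow 2 H := hA'p.toSylow hidx with hP
  have hPA : (P : Subgroup H) = A' := IsPGroup.toSylow_coe _ _
  have hNp : IsPGroup p (N.map H.subtype) := h.isPGroup_of_odd
    (by rw [card_map_of_injective H.subtype_injective]; exact PSolvable.pPrimeCore_not_dvd)
    fun x hx => he x (map_subtype_le _ hx)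
  refine ⟨N.map H.subtype, map_subtype_le _, hNp, ?_, ?_, ?_⟩
  · intro x hx
    have h1 : (⟨x, hx⟩ : H) ∈ normalizer (N : Set H) := by
      rw [normalizer_eq_top]; trivial
    have h2 := le_normalizer_map H.subtype (mem_map_of_mem H.subtype h1)
    exact h2
  · intro K hKH hK hKn
    haveI : (K.subgroupOf H).Normal := normal_subgroupOf_of_le_normalizer hKn
    have hle : K.subgroupOf H ≤ N := by
      refine PSolvable.le_pPrimeCore ?_
      obtain ⟨k, hk⟩ := IsPGroup.iff_card.1 hK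
      rw [Nat.card_congr (subgroupOfEquivOfLe hKH).toEquiv, hk]
      exact h.coprime_two.symm.pow_left k
    intro x hx
    exact ⟨⟨x, hKH hx⟩, hle hx, rfl⟩
  · set Q := H ⧸ N
    let f : H →* Q := QuotientGroup.mk' N
    have hf : Function.Surjective f := QuotientGroup.mk'_surjective N
    set P' : Sylow 2 Q := P.mapSurjective hf with hP'
    have hP'c : (P' : Subgroup Q) = A'.map f := by rw [hP', Sylow.coe_mapSurjective, hPA]
    have h1 : Cfsg.pCore 2 Q ≤ A'.map f := hP'c ▸ PSolvable.pCore_le_sylow P'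
    have h2 : A'.map f ≤ centralizer (Cfsg.pCore 2 Q : Set Q) := by
      rintro _ ⟨a, ha, rfl⟩
      rw [mem_centralizer_iff]
      intro y hy
      obtain ⟨b, hb, rfl⟩ := h1 hy
      rw [← map_mul, ← map_mul]
      exact congrArg f (Subtype.ext (hcomm _ hb _ ha))
    have h3 : A'.map f = Cfsg.pCore 2 Q := le_antisymm (h2.trans
      (SolvableCore.centralizer_pCore_le inferInstance PSolvable.pPrimeCore_quotient_eq_bot)) h1
    haveI h4 : (N ⊔ A').Normal := by
      have h5 : (A'.map f).comap f = N ⊔ A' := by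
        rw [comap_map_eq, QuotientGroup.ker_mk', sup_comm]
      rw [← h5, h3]
      haveI := PSolvable.pCore_characteristic (p := 2) (G := Q)
      infer_instance
    intro x hx
    have h6 := Sylow.normalizer_sup_eq_top' P (N := N ⊔ A') (hPA ▸ le_sup_right)
    have h7 : normalizer ((P : Subgroup H) : Set H) ⊔ (N ⊔ A') =
        N ⊔ normalizer ((P : Subgroup H) : Set H) := by
      rw [← hPA, sup_left_comm]
      exact congrArg (N ⊔ ·) (sup_eq_left.2 le_normalizer)
    have h8 : (⟨x, hx⟩ : H) ∈ N ⊔ normalizer ((P : Subgroup H) : Set H) := by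
      exact h7.le (h6.ge (mem_top _))
    obtain ⟨o, ho, n, hn, e⟩ := exists_mem_of_sup h8
    refine ⟨o, mem_map_of_mem _ ho, n, n.2, ?_, congrArg Subtype.val e⟩
    rw [hPA] at hn
    rw [mem_normalizer_iff] at hn ⊢
    intro z
    constructor
    · intro hz
      exact (hn ⟨z, hA hz⟩).1 hz
    · intro hz
      have hzH : z ∈ H := by
        have := H.mul_mem (H.mul_mem (H.inv_mem n.2) (hA hz)) n.2
        simpa [mul_assoc] using this
      exact (hn ⟨z, hzH⟩).2 hz

/-- The core of a subgroup containing a Sylow 2-subgroup. -/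
theorem Hyp.exists_core_sylow [Finite G] (h : Hyp G p) (E : Sylow 2 G) {H : Subgroup G}
    (he : ∀ x ∈ H, x ^ (2 * p) = 1) (hE : (E : Subgroup G) ≤ H) :
    ∃ O : Subgroup G, O ≤ H ∧ IsPGroup p O ∧ H ≤ normalizer (O : Set G) ∧
      (∀ K ≤ H, IsPGroup p K → H ≤ normalizer (K : Set G) → K ≤ O) ∧
      ∀ x ∈ H, ∃ o ∈ O, ∃ n ∈ H, n ∈ normalizer ((E : Subgroup G) : Set G) ∧ x = o * n := by
  haveI := Fact.mk Nat.prime_two
  exact h.exists_core he hE (h.sylow_comm E) (fun a ha => h.sylow_mul_self E ha) fun hd =>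
    E.not_dvd_index (hd.trans (relIndex_dvd_index_of_le hE))

/-! ### The centraliser of the Sylow 2-subgroup -/

theorem Hyp.exists_centP [Finite G] (h : Hyp G p) (E : Sylow 2 G) (hE : (E : Subgroup G) ≠ ⊥) :
    ∃ X : Subgroup G, X ≤ centralizer ((E : Subgroup G) : Set G) ∧ IsPGroup p X ∧
      (∀ x ∈ centralizer ((E : Subgroup G) : Set G), x ^ p = 1 → x ∈ X) ∧
      (∀ x ∈ centralizer ((E : Subgroup G) : Set G), ∃ a ∈ (E : Subgroup G), ∃ y ∈ X, x = a * y) ∧
      normalizer ((E : Subgroup G) : Set G) ≤ normalizer (X : Set G) := by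
  classical
  haveI := Fact.mk Nat.prime_two
  obtain ⟨⟨t, htE⟩, ht1⟩ := (E : Subgroup G).ne_bot_iff_exists_ne_one.1 hE
  set C := centralizer ((E : Subgroup G) : Set G) with hC
  have hexp : ∀ x ∈ C, x ^ (2 * p) = 1 := fun x hx => h.cent_mem_two (x := t)
    (fun e => ht1 (Subtype.ext e)) (h.sylow_mul_self E htE) x
    (mem_centralizer_singleton_iff.2 (mem_centralizer_iff.1 hx t htE).symm)
  have hEC : (E : Subgroup G) ≤ C := fun a ha =>
    mem_centralizer_iff.2 fun b hb => h.sylow_comm E b hb a ha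
  set P : Sylow 2 C := E.subtype hEC
  have hPC : normalizer ((P : Subgroup C) : Set C) ≤ centralizer ((P : Subgroup C) : Set C) :=
    fun x _ => mem_centralizer_iff.2 fun a ha => Subtype.ext (mem_centralizer_iff.1 x.2 a ha)
  set f := MonoidHom.transferSylow P hPC
  have hK := MonoidHom.ker_transferSylow_isComplement' P hPC
  set X := f.ker.map C.subtype with hX
  have hodd : ¬ 2 ∣ Nat.card X := by
    rw [hX, card_map_of_injective C.subtype_injective]
    exact MonoidHom.not_dvd_card_ker_transferSylow P hPC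
  have hXC : X ≤ C := map_subtype_le _
  have hXp := h.isPGroup_of_odd hodd fun x hx => hexp x (hXC hx)
  have hmem : ∀ x ∈ C, x ^ p = 1 → x ∈ X := by
    intro x hx hxp
    refine ⟨⟨x, hx⟩, ?_, rfl⟩
    show f ⟨x, hx⟩ = 1
    have h1 : f ⟨x, hx⟩ ^ p = 1 := by
      rw [← map_pow, show (⟨x, hx⟩ : C) ^ p = 1 from Subtype.ext hxp, map_one]
    have h2 : f ⟨x, hx⟩ ^ 2 = 1 := by
      apply Subtype.ext
      apply Subtype.ext
      simpa [pow_two] using h.sylow_mul_self E (f ⟨x, hx⟩).2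
    simpa [h.coprime_two.symm.gcd_eq_one] using pow_gcd_eq_one.2 ⟨h1, h2⟩
  refine ⟨X, hXC, hXp, hmem, ?_, ?_⟩
  · intro x hx
    obtain ⟨⟨k, a⟩, hka, -⟩ := hK.existsUnique (⟨x, hx⟩ : C)
    refine ⟨(a : C), a.2, (k : C), mem_map_of_mem _ k.2, ?_⟩
    have h1 : ((k : C) : G) * ((a : C) : G) = x := congrArg Subtype.val hka
    rw [← h1]
    exact (mem_centralizer_iff.1 (k : C).2 _ a.2).symm
  · intro n hn
    have hCn : ∀ m ∈ normalizer ((E : Subgroup G) : Set G), ∀ x ∈ X, m * x * m⁻¹ ∈ X := by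
      intro m hm x hx
      refine hmem _ (mem_centralizer_iff.2 fun a ha => ?_) ?_
      · have h1 := mem_centralizer_iff.1 (hXC hx) (m⁻¹ * a * m) ((mem_normalizer_iff''.1 hm a).1 ha)
        calc a * (m * x * m⁻¹) = m * (m⁻¹ * a * m * x) * m⁻¹ := by group
          _ = m * x * m⁻¹ * a := by rw [h1]; group
      · rw [conj_pow, h.pow_p hXp hx, mul_one, mul_inv_cancel]
    rw [mem_normalizer_iff]
    intro x
    refine ⟨hCn n hn x, fun hx => ?_⟩
    have := hCn n⁻¹ (inv_mem hn) _ hx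
    simpa [mul_assoc] using this

/-! ### The centralisation lemma -/

theorem Hyp.inj_of_prime_order [Finite G] (h : Hyp G p) {E : Subgroup G}
    (hcomm : ∀ a ∈ E, ∀ b ∈ E, a * b = b * a) (hsq : ∀ a ∈ E, a * a = 1) {g : G}
    (hg : g ∈ normalizer (E : Set G)) {r : ℕ} (hr : r.Prime) (h2 : r ≠ 2) (hp : r ≠ p)
    (hgr : g ^ r = 1) (hg1 : g ≠ 1) {x : G} (hx : x ∈ E) : ∃ a ∈ E, a * (g * a * g⁻¹) = x := by
  let f : E → E := fun a =>
    ⟨(a : G) * (g * a * g⁻¹), E.mul_mem a.2 ((mem_normalizer_iff.1 hg a).1 a.2)⟩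
  have hf : Function.Injective f := by
    intro a b e
    have e' : (a : G) * (g * a * g⁻¹) = b * (g * b * g⁻¹) := congrArg Subtype.val e
    have e2 : (b : G) * a = g * (b * a) * g⁻¹ := by
      calc (b : G) * a = b * ((a : G) * (g * a * g⁻¹)) * (g * a * g⁻¹)⁻¹ := by group
        _ = (b * b) * (g * b * g⁻¹) * (g * a * g⁻¹)⁻¹ := by rw [e']; group
        _ = g * (b * (a : G)⁻¹) * g⁻¹ := by rw [hsq b b.2]; group
        _ = _ := by rw [inv_eq_of_mul_eq_one_right (hsq a a.2)]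
    rcases h.eq_one_of_prime_order hr h2 hp hgr (x := (b : G) * a) (by
        rw [pow_mul, pow_two, hsq _ (E.mul_mem b.2 a.2), one_pow])
      (show (b : G) * a * g = g * ((b : G) * a) from
        eq_mul_inv_iff_mul_eq.1 e2) with e3 | e3
    · exact Subtype.ext (mul_left_cancel (a := (b : G)) (e3.trans (hsq b b.2).symm))
    · exact absurd e3 hg1
  obtain ⟨a, ha⟩ := (Finite.injective_iff_surjective.1 hf) ⟨x, hx⟩
  exact ⟨a, a.2, congrArg Subtype.val ha⟩

/-- `e * g e g⁻¹` centralises an invariant `p`-group. -/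
theorem Hyp.mem_centralizer_conj [Finite G] (h : Hyp G p) {E W : Subgroup G}
    (hcomm : ∀ a ∈ E, ∀ b ∈ E, a * b = b * a) (hsq : ∀ a ∈ E, a * a = 1)
    (hW : IsPGroup p W) (hEW : E ≤ normalizer (W : Set G)) {g : G}
    (hgE : g ∈ normalizer (E : Set G)) (hgW : g ∈ normalizer (W : Set G)) {r : ℕ} (hr : r.Prime)
    (h2 : r ≠ 2) (hgr : g ^ r = 1) {e : G} (he : e ∈ E) :
    e * (g * e * g⁻¹) ∈ centralizer (W : Set G) := by
  classical
  haveI := h.fact
  by_cases hg1 : g = 1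
  · subst hg1
    rw [one_mul, inv_one, mul_one, hsq e he]
    exact one_mem _
  refine mem_centralizer_of_norm (p := p) h.ne_two hW hcomm hsq hEW ⟨g, hgW⟩ hgE hr
    (fun a _ => by show g ^ r * a = a * g ^ r; rw [hgr, one_mul, mul_one]) ?_ he
  set c : normalizer (W : Set G) := ⟨g, hgW⟩
  have hcr : c ^ r = 1 := Subtype.ext (by simpa [c] using hgr)
  intro v
  by_cases hrp : r = p
  · -- a group of exponent `p`
    subst hrp
    obtain ⟨w, rfl⟩ := QuotientGroup.mk_surjective v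
    have hWc : IsPGroup r ↥(W ⊔ zpowers g) := by
      refine hW.to_sup_of_normal_left' (fun x => ⟨1, Subtype.ext ?_⟩) (zpowers_le.2 hgW)
      obtain ⟨i, hi⟩ := mem_zpowers_iff.1 x.2
      rw [SubmonoidClass.coe_pow, pow_one, ← hi, ← zpow_natCast, ← zpow_mul, mul_comm, zpow_mul,
        zpow_natCast, hgr, one_zpow]
      rfl
    have key : ∀ n : ℕ, ∃ w' : W, ((w : G) * g) ^ n = (w' : G) * g ^ n ∧
        Abelianization.of w' =
          ∏ i ∈ Finset.range n, abAction W (c ^ i) (Abelianization.of w) := by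
      intro n
      induction n with
      | zero => exact ⟨1, by simp, by simp⟩
      | succ n ih =>
        obtain ⟨w', h1, h3⟩ := ih
        refine ⟨w' * W.normalizerMonoidHom (c ^ n) w, ?_, ?_⟩
        · rw [pow_succ, h1, Subgroup.coe_mul, coe_normalizerMonoidHom, SubmonoidClass.coe_pow,
            pow_succ g, show ((c : normalizer (W : Set G)) : G) = g from rfl]
          group
        · rw [map_mul, h3, Finset.prod_range_succ, ← abAction_of]
    obtain ⟨w', h1, h3⟩ := key r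
    rw [hgr, mul_one, h.pow_p hWc (mul_mem_sup w.2 (mem_zpowers g))] at h1
    rw [show w' = 1 from Subtype.ext h1.symm, map_one] at h3
    exact h3.symm
  · -- no fixed points
    let f : W → W := fun d => d⁻¹ * W.normalizerMonoidHom c d
    have hf : Function.Injective f := by
      intro a b e
      have e1 : W.normalizerMonoidHom c (b * a⁻¹) = b * a⁻¹ := by
        have e' : a⁻¹ * W.normalizerMonoidHom c a = b⁻¹ * W.normalizerMonoidHom c b := e
        rw [map_mul, map_inv, mul_inv_eq_iff_eq_mul, mul_assoc, e', mul_inv_cancel_left]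
      have e2 : g * ((b * a⁻¹ : W) : G) * g⁻¹ = (b * a⁻¹ : W) := congrArg Subtype.val e1
      have e3 : Commute ((b * a⁻¹ : W) : G) g := (mul_inv_eq_iff_eq_mul.1 e2).symm
      rcases h.eq_one_of_prime_order hr h2 hrp hgr
        (by rw [pow_mul', h.pow_p hW (b * a⁻¹).2, one_pow]) e3 with e4 | e4
      · exact (mul_inv_eq_one.1 (Subtype.ext e4 : b * a⁻¹ = 1)).symm
      · exact absurd e4 hg1
    obtain ⟨w, rfl⟩ := QuotientGroup.mk_surjective v
    obtain ⟨d, rfl⟩ := (Finite.injective_iff_surjective.1 hf) w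
    show ∏ i ∈ Finset.range r, abAction W (c ^ i)
      (Abelianization.of (d⁻¹ * W.normalizerMonoidHom c d)) = 1
    rw [map_mul, map_inv, ← abAction_of]
    simp only [map_mul, map_inv, ← MulAut.mul_apply, ← map_mul (abAction W), ← pow_succ]
    rw [Finset.prod_mul_distrib, Finset.prod_inv_distrib, inv_mul_eq_one]
    obtain ⟨k, rfl⟩ := Nat.exists_eq_succ_of_ne_zero hr.pos.ne'
    rw [Finset.prod_range_succ', Finset.prod_range_succ, hcr, pow_zero]

theorem Hyp.odd_pow_p [Finite G] (h : Hyp G p) {g : G}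
    (hg : ∀ r : ℕ, r.Prime → r ∣ orderOf g → r = 2 ∨ r = p) :
    g = g ^ p * g ^ (p + 1) ∧ g ^ p * g ^ p = 1 ∧ (g ^ (p + 1)) ^ p = 1 := by
  have h1 := h.pow_of_primes hg
  refine ⟨?_, ?_, ?_⟩
  · rw [← pow_add, show p + (p + 1) = 2 * p + 1 by omega, pow_succ, h1, one_mul]
  · rw [← pow_add, ← two_mul, h1]
  · obtain ⟨k, hk⟩ := h.odd
    rw [← pow_mul, show (p + 1) * p = 2 * p * (k + 1) by rw [hk]; ring, pow_mul, h1, one_pow]

/-- In a simple group `E` centralises every `p`-group normalised by `N(E)`. -/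
theorem Hyp.le_centralizer [Finite G] [IsSimpleGroup G] (h : Hyp G p) (hG : ¬ IsMulCommutative G)
    (E : Sylow 2 G) {W : Subgroup G} (hW : IsPGroup p W)
    (hN : normalizer ((E : Subgroup G) : Set G) ≤ normalizer (W : Set G)) :
    (E : Subgroup G) ≤ centralizer (W : Set G) := by
  classical
  haveI := Fact.mk Nat.prime_two
  set N := normalizer ((E : Subgroup G) : Set G)
  have hcomm := h.sylow_comm E
  have hsq : ∀ a ∈ (E : Subgroup G), a * a = 1 := fun a ha => h.sylow_mul_self E ha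
  have hEW := le_normalizer.trans hN
  by_cases hr : ∃ r : ℕ, r.Prime ∧ r ≠ 2 ∧ r ≠ p ∧ r ∣ Nat.card N
  · obtain ⟨r, hr, hr2, hrp, hrN⟩ := hr
    haveI := Fact.mk hr
    obtain ⟨g, hg⟩ := exists_prime_orderOf_dvd_card' (G := N) r hrN
    rw [← Subgroup.orderOf_coe] at hg
    intro x hx
    have hgr : (g : G) ^ r = 1 := by rw [← hg]; exact pow_orderOf_eq_one _
    have hg1 : (g : G) ≠ 1 := fun e => hr.ne_one (by rw [← hg, e, orderOf_one])
    obtain ⟨a, ha, rfl⟩ := h.inj_of_prime_order hcomm hsq g.2 hr hr2 hrp hgr hg1 hx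
    exact h.mem_centralizer_conj hcomm hsq hW hEW g.2 (hN g.2) hr hr2 hgr ha
  push Not at hr
  have key : ∀ n ∈ N, ∀ e ∈ (E : Subgroup G), e * (n * e * n⁻¹) ∈ centralizer (W : Set G) := by
    intro n hn e he
    obtain ⟨h1, h2, h3⟩ := h.odd_pow_p (g := n) fun r hr' hrd => by
      by_contra hne
      push Not at hne
      exact hr r hr' hne.1 hne.2 (hrd.trans (Subgroup.orderOf_dvd_natCard N hn))
    have ha : n ^ p ∈ (E : Subgroup G) := mem_sylow_of_sq E (pow_mem hn p) h2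
    have h4 := h.mem_centralizer_conj hcomm hsq hW hEW (pow_mem hn (p + 1))
      (hN (pow_mem hn (p + 1))) h.prime h.ne_two h3 he
    have hb : n ^ (p + 1) * e * (n ^ (p + 1))⁻¹ ∈ (E : Subgroup G) :=
      (mem_normalizer_iff.1 (pow_mem hn (p + 1)) e).1 he
    have h5 : n * e * n⁻¹ = n ^ (p + 1) * e * (n ^ (p + 1))⁻¹ := by
      calc n * e * n⁻¹ = n ^ p * (n ^ (p + 1) * e * (n ^ (p + 1))⁻¹) * (n ^ p)⁻¹ := by
            conv_lhs => rw [h1]
            group
        _ = _ := by rw [hcomm _ ha _ hb, mul_inv_cancel_right]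
    rwa [h5]
  -- transfer
  haveI : IsMulCommutative (E : Subgroup G) := (h.elemAb E).1
  letI : CommGroup (E : Subgroup G) :=
    { (inferInstance : Group (E : Subgroup G)) with mul_comm := fun a b => Subtype.ext (hcomm a a.2 b b.2) }
  set E₁ : Subgroup (E : Subgroup G) := (centralizer (W : Set G)).subgroupOf (E : Subgroup G)
  let φ : (E : Subgroup G) →* (E : Subgroup G) ⧸ E₁ := QuotientGroup.mk' E₁
  intro x hx
  have hsqx : ∀ a : (E : Subgroup G), φ a * φ a = 1 := fun a => by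
    rw [← map_mul, show a * a = 1 from Subtype.ext (hsq a a.2), map_one]
  have h1 : MonoidHom.transfer φ x = φ ⟨x, hx⟩ ^ (E : Subgroup G).index := by
    refine SECount.transfer_eq_map_pow φ hx fun k g₀ hk => ?_
    obtain ⟨n, hn, hn'⟩ := Transfer.exists_normalizer_conj_of_le_centralizer E {x ^ k} g₀⁻¹
      (fun a ha => mem_centralizer_iff.2 fun y hy => by
        rw [Set.mem_singleton_iff.1 hy]
        exact hcomm _ (pow_mem hx k) a ha)
      (fun a ha => mem_centralizer_iff.2 fun y hy => by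
        obtain ⟨z, hz, rfl⟩ := hy
        rw [Set.mem_singleton_iff.1 hz]
        simpa using hcomm _ hk a ha)
    have h2 := hn' (x ^ k) rfl
    rw [inv_inv] at h2
    rw [← map_pow]
    refine QuotientGroup.eq.2 (mem_subgroupOf.2 ?_)
    have h3 := key n hn _ (pow_mem hx k)
    have h4 : x ^ k * (n * x ^ k * n⁻¹) = (g₀⁻¹ * x ^ k * g₀)⁻¹ * x ^ k := by
      rw [h2, inv_eq_of_mul_eq_one_right (hsq _ hk), hcomm _ hk _ (pow_mem hx k)]
    rw [h4] at h3
    simpa using h3
  rw [SmallGroups.hom_commGroup_eq_one hG] at h1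
  obtain ⟨k, hk⟩ : Odd (E : Subgroup G).index := by
    rw [Nat.odd_iff, ← Nat.two_dvd_ne_zero]; exact E.not_dvd_index
  have h5 : φ ⟨x, hx⟩ = 1 := by
    rw [hk, pow_succ, pow_mul, pow_two, hsqx, one_pow, one_mul] at h1
    exact h1.symm
  exact (QuotientGroup.eq_one_iff (⟨x, hx⟩ : (E : Subgroup G))).1 h5

/-- An element of odd order normalising an invariant `p`-group moves no element of `E` unless
`E` centralises the group, for `|E| = 4`. -/
theorem Hyp.le_centralizer_four [Finite G] (h : Hyp G p) (E : Sylow 2 G)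
    (h4 : Nat.card (E : Subgroup G) = 4) {W : Subgroup G} (hW : IsPGroup p W)
    (hEW : (E : Subgroup G) ≤ normalizer (W : Set G)) {n : G}
    (hn : n ∈ normalizer ((E : Subgroup G) : Set G)) (hnW : n ∈ normalizer (W : Set G))
    (hne : n ∉ centralizer ((E : Subgroup G) : Set G)) :
    (E : Subgroup G) ≤ centralizer (W : Set G) := by
  classical
  haveI := Fact.mk Nat.prime_two
  set N := normalizer ((E : Subgroup G) : Set G)
  have hcomm := h.sylow_comm E
  have hsq : ∀ a ∈ (E : Subgroup G), a * a = 1 := fun a ha => h.sylow_mul_self E ha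
  by_cases hr : ∃ r : ℕ, r.Prime ∧ r ≠ 2 ∧ r ≠ p ∧ r ∣ orderOf n
  · obtain ⟨r, hr, hr2, hrp, hrn⟩ := hr
    haveI := Fact.mk hr
    have ho : orderOf (n ^ (orderOf n / r)) = r := orderOf_pow_orderOf_div (orderOf_pos n).ne' hrn
    intro x hx
    have hgr : (n ^ (orderOf n / r)) ^ r = 1 :=
      orderOf_dvd_iff_pow_eq_one.1 (dvd_of_eq ho)
    have hg1 : n ^ (orderOf n / r) ≠ 1 := fun e => hr.ne_one (by rw [← ho, e, orderOf_one])
    obtain ⟨a, ha, rfl⟩ := h.inj_of_prime_order hcomm hsq (pow_mem hn _) hr hr2 hrp hgr hg1 hx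
    exact h.mem_centralizer_conj hcomm hsq hW hEW (pow_mem hn _) (pow_mem hnW _) hr hr2 hgr ha
  push Not at hr
  obtain ⟨h1, h2, h3⟩ := h.odd_pow_p (g := n) fun r hr' hrd => by
    by_contra hne
    push Not at hne
    exact hr r hr' hne.1 hne.2 hrd
  set b := n ^ (p + 1) with hb
  have hbN : b ∈ N := pow_mem hn _
  have ha : n ^ p ∈ (E : Subgroup G) := mem_sylow_of_sq E (pow_mem hn p) h2
  -- `b` moves an element
  obtain ⟨e, he, hbe⟩ : ∃ e ∈ (E : Subgroup G), b * e * b⁻¹ ≠ e := by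
    by_contra hc
    push Not at hc
    refine hne (mem_centralizer_iff.2 fun e he => ?_)
    have h5 : n * e * n⁻¹ = e := by
      calc n * e * n⁻¹ = n ^ p * (b * e * b⁻¹) * (n ^ p)⁻¹ := by
            conv_lhs => rw [h1]
            rw [hb]; group
        _ = e := by rw [hc e he, hcomm _ ha _ he, mul_inv_cancel_right]
    exact (mul_inv_eq_iff_eq_mul.1 h5).symm
  set E₁ := (E : Subgroup G) ⊓ centralizer (W : Set G)
  have hE₁ : ∀ a ∈ (E : Subgroup G), a * (b * a * b⁻¹) ∈ E₁ := fun a ha' =>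
    ⟨mul_mem ha' ((mem_normalizer_iff.1 hbN a).1 ha'),
      h.mem_centralizer_conj hcomm hsq hW hEW hbN (pow_mem hnW _) h.prime h.ne_two h3 ha'⟩
  by_contra hcon
  have hlt : Nat.card E₁ < 4 := by
    rw [← h4]
    refine lt_of_le_of_ne (card_le_of_le inf_le_left) fun heq => hcon ?_
    exact (eq_of_le_of_card_ge (inf_le_left : E₁ ≤ E) heq.ge) ▸ inf_le_right
  have hdvd : Nat.card E₁ ∣ 4 := h4 ▸ card_dvd_of_le inf_le_left
  have hcard : Nat.card E₁ ≤ 2 := by
    have h6 : Nat.card E₁ ≠ 3 := fun e => by norm_num [e] at hdvd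
    omega
  set s := e * (b * e * b⁻¹) with hs
  have hs1 : s ≠ 1 := fun e1 => hbe (by
    have := congrArg (e * ·) e1
    simpa [hs, ← mul_assoc, hsq e he] using this)
  have htwo : ∀ z ∈ E₁, z = 1 ∨ z = s := by
    intro z hz
    by_contra hz'
    push Not at hz'
    have h7 : ({1, s, z} : Finset G).card = 3 := by
      rw [Finset.card_eq_three]
      exact ⟨1, s, z, hs1.symm, hz'.1.symm, hz'.2.symm, rfl⟩
    have h8 : ({1, s, z} : Finset G).card ≤ Nat.card E₁ := by
      rw [← Set.ncard_coe_finset, show Nat.card E₁ = (E₁ : Set G).ncard from Nat.card_coe_set_eq (E₁ : Set G)]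
      refine Set.ncard_le_ncard (fun w hw => ?_) (Set.toFinite _)
      simp only [Finset.coe_insert, Finset.coe_singleton, Set.mem_insert_iff,
        Set.mem_singleton_iff] at hw
      rcases hw with rfl | rfl | rfl
      exacts [one_mem _, hE₁ e he, hz]
    omega
  have hsb : b * s * b⁻¹ = s := by
    rcases htwo _ (hE₁ s (hE₁ e he).1) with e1 | e1
    · have := congrArg (s * ·) e1
      simpa [← mul_assoc, hsq s (hE₁ e he).1] using this
    · exfalso
      have h9 := congrArg (s⁻¹ * ·) e1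
      simp only [inv_mul_cancel, inv_mul_cancel_left] at h9
      exact hs1 (mul_left_cancel ((mul_inv_eq_one.1 h9).trans (mul_one b).symm))
  have hbe1 : b * e * b⁻¹ = e * s := by rw [hs, ← mul_assoc, hsq e he, one_mul]
  have hbb : b * b * e * (b * b)⁻¹ = e := by
    calc b * b * e * (b * b)⁻¹ = b * (b * e * b⁻¹) * b⁻¹ := by group
      _ = (b * e * b⁻¹) * (b * s * b⁻¹) := by rw [hbe1]; group; rw [← hbe1]; group
      _ = e := by rw [hsb, hbe1, mul_assoc, hsq s (hE₁ e he).1, mul_one]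
  obtain ⟨k, hk⟩ := h.odd
  have hc2 : Commute (b * b) e := mul_inv_eq_iff_eq_mul.1 hbb
  have hb' : b = (b * b) ^ (k + 1) := by
    rw [← pow_two, ← pow_mul, show 2 * (k + 1) = p + 1 by omega, pow_succ, h3, one_mul]
  exact hbe (mul_inv_eq_iff_eq_mul.2 (hb' ▸ (hc2.pow_left (k + 1)).eq))

end Cfsg.Agent.Lib.TwoPEven
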