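import Mathlib
import Cfsg.Agent.Lib.TwoPEven.Basic
import Cfsg.Agent.Lib.Signalizer.Solvable
import Cfsg.Agent.Lib.Components.BalanceBasic
import Cfsg.Agent.Lib.CoreSeparated.Basic
import Cfsg.Agent.Lib.OddLocal.Invariant
import Cfsg.Agent.S0508

/-!
Local analysis: either `N(E)` contains all the centralisers of involutions of the Sylow 2-subgroup
`E`, or the hypotheses of the Brauer-Suzuki-Wall theorem hold.
-/

set_option autoImplicit false

namespace Cfsg.Agent.Lib.TwoPEven

open Subgroup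

universe u

variable {G : Type u} [Group G] [Finite G] {p : ℕ}

theorem pCore_map_normalized (H : Subgroup G) {q : ℕ} {n : G}
    (hn : n ∈ H) : n ∈ normalizer (((Cfsg.pCore q H).map H.subtype : Subgroup G) : Set G) := by
  haveI := PSolvable.pCore_characteristic (p := q) (G := H)
  exact le_normalizer_map H.subtype (mem_map_of_mem H.subtype
    (show (⟨n, hn⟩ : H) ∈ normalizer ((Cfsg.pCore q H : Subgroup H) : Set H) by
      rw [normalizer_eq_top]; trivial))

/-- An element of `N(E)` and a `p`-group normalised by `E`. -/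
theorem Hyp.mem_centralizer_of_mem (h : Hyp G p) (E : Sylow 2 G) {K : Subgroup G} (hK : IsPGroup p K)
    (hEK : (E : Subgroup G) ≤ normalizer (K : Set G)) {y : G} (hy : y ∈ K)
    (hyE : y ∈ normalizer ((E : Subgroup G) : Set G)) :
    y ∈ centralizer ((E : Subgroup G) : Set G) := by
  haveI := h.fact
  rw [mem_centralizer_iff]
  intro e he
  have h1 : y * e * y⁻¹ * e⁻¹ ∈ (E : Subgroup G) :=
    mul_mem ((mem_normalizer_iff.1 hyE e).1 he) (inv_mem he)
  have h2 : y * e * y⁻¹ * e⁻¹ ∈ K := by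
    rw [show y * e * y⁻¹ * e⁻¹ = y * (e * y⁻¹ * e⁻¹) by group]
    exact K.mul_mem hy ((mem_normalizer_iff.1 (hEK he) _).1 (inv_mem hy))
  have h3 : y * e * y⁻¹ * e⁻¹ = 1 := by
    have e2 := h.sylow_mul_self E h1
    have ep := h.pow_p hK h2
    obtain ⟨k, hk⟩ := h.odd
    rw [hk, pow_succ, pow_mul, pow_two, e2, one_pow, one_mul] at ep
    exact ep
  rw [mul_inv_eq_one, mul_inv_eq_iff_eq_mul] at h3
  exact h3.symm

/-- When `C(E)` has odd order elements. -/
theorem Hyp.centralizer_le_of_centP [IsSimpleGroup G] (h : Hyp G p) (hG : ¬ IsMulCommutative G)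
    (E : Sylow 2 G) {X : Subgroup G} (hX1 : X ≠ ⊥)
    (hXC : X ≤ centralizer ((E : Subgroup G) : Set G)) (hXp : IsPGroup p X)
    (hXmem : ∀ x ∈ centralizer ((E : Subgroup G) : Set G), x ^ p = 1 → x ∈ X)
    (hXN : normalizer ((E : Subgroup G) : Set G) ≤ normalizer (X : Set G))
    {t : G} (ht : t ∈ (E : Subgroup G)) (ht1 : t ≠ 1) :
    centralizer ({t} : Set G) ≤ normalizer ((E : Subgroup G) : Set G) := by
  classical
  haveI := Fact.mk Nat.prime_two
  haveI := h.fact
  set N := normalizer (X : Set G)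
  set O := (Cfsg.pCore p N).map N.subtype with hO
  have hOp : IsPGroup p O := PSolvable.pCore_isPGroup.map _
  have hEN : (E : Subgroup G) ≤ N := le_normalizer.trans hXN
  have hON : N ≤ normalizer (O : Set G) := fun n hn => pCore_map_normalized N hn
  have hEO := h.le_centralizer hG E hOp (hXN.trans hON)
  have hOX : O ≤ X := fun o ho => hXmem o (mem_centralizer_iff.2 fun e he =>
    (mem_centralizer_iff.1 (hEO he) o ho).symm) (h.pow_p hOp ho)
  -- `C(X)`
  obtain ⟨⟨x, hx⟩, hx1⟩ := X.ne_bot_iff_exists_ne_one.1 hX1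
  set H := centralizer (X : Set G) with hH
  have hexp : ∀ y ∈ H, y ^ (2 * p) = 1 := fun y hy =>
    h.cent_mem_p (fun e => hx1 (Subtype.ext e)) (h.pow_p hXp hx) y
      (mem_centralizer_singleton_iff.2 (mem_centralizer_iff.1 hy x hx).symm)
  have hEH : (E : Subgroup G) ≤ H := fun e he =>
    mem_centralizer_iff.2 fun y hy => (mem_centralizer_iff.1 (hXC hy) e he).symm
  obtain ⟨O', hO'H, hO'p, hO'n, hO'max, hfr⟩ := h.exists_core_sylow E hexp hEH
  have hHN : H ≤ N := centralizer_le_normalizer _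
  have hconjH : ∀ n ∈ N, ∀ y ∈ H, n * y * n⁻¹ ∈ H := by
    intro n hn y hy
    rw [mem_centralizer_iff]
    intro w hw
    have := mem_centralizer_iff.1 hy (n⁻¹ * w * n) ((mem_normalizer_iff''.1 hn w).1 hw)
    calc w * (n * y * n⁻¹) = n * (n⁻¹ * w * n * y) * n⁻¹ := by group
      _ = n * y * n⁻¹ * w := by rw [this]; group
  have hO'N : N ≤ normalizer (O' : Set G) := by
    have key : ∀ n ∈ N, ∀ o ∈ O', n * o * n⁻¹ ∈ O' := by
      intro n hn o ho
      refine hO'max (O'.map (MulAut.conj n).toMonoidHom) ?_ (hO'p.map _) ?_ ⟨o, ho, rfl⟩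
      · rintro _ ⟨z, hz, rfl⟩
        exact hconjH n hn z (hO'H hz)
      · intro y hy
        rw [← Transfer.map_conj_eq_iff, Transfer.map_conj_map_conj,
          show y * n = n * (n⁻¹ * y * n) by group, ← Transfer.map_conj_map_conj,
          Transfer.map_conj_eq_iff.2 (hO'n (by simpa using hconjH n⁻¹ (inv_mem hn) y hy))]
    intro n hn
    rw [mem_normalizer_iff]
    exact fun z => ⟨key n hn z, fun hz => by simpa [mul_assoc] using key n⁻¹ (inv_mem hn) _ hz⟩
  have hO'X : O' ≤ X := by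
    intro o ho
    haveI : (O'.subgroupOf N).Normal := normal_subgroupOf_of_le_normalizer hO'N
    have h1 := PSolvable.le_pCore (N := O'.subgroupOf N) (p := p) hO'p.comap_subtype
    exact hOX ⟨⟨o, hHN (hO'H ho)⟩, h1 ho, rfl⟩
  have hNEX : ∀ o ∈ X, o ∈ normalizer ((E : Subgroup G) : Set G) := fun o ho =>
    centralizer_le_normalizer _ (hXC ho)
  have hHNE : H ≤ normalizer ((E : Subgroup G) : Set G) := fun y hy => by
    obtain ⟨o, ho, n, -, hn, rfl⟩ := hfr y hy
    exact mul_mem (hNEX o (hO'X ho)) hn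
  have hNX : N ≤ normalizer ((E : Subgroup G) : Set G) := by
    have key : ∀ n ∈ N, ∀ e ∈ (E : Subgroup G), n * e * n⁻¹ ∈ (E : Subgroup G) := fun n hn e he =>
      mem_sylow_of_sq E (hHNE (hconjH n hn e (hEH he))) (by
        rw [show n * e * n⁻¹ * (n * e * n⁻¹) = n * (e * e) * n⁻¹ by group, h.sylow_mul_self E he,
          mul_one, mul_inv_cancel])
    intro n hn
    rw [mem_normalizer_iff]
    exact fun z => ⟨key n hn z, fun hz => by simpa [mul_assoc] using key n⁻¹ (inv_mem hn) _ hz⟩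
  -- `X` is a maximal invariant `p`-subgroup
  have hmax : ∀ K : Subgroup G, X ≤ K → IsPGroup p K →
      (E : Subgroup G) ≤ normalizer (K : Set G) → K ≤ X := by
    intro K hXK hK hEK
    by_contra hne
    haveI := hK.isNilpotent
    have hlt := OddLocal.lt_inf_normalizer hXK (fun e => hne e.ge)
    obtain ⟨y, ⟨hyK, hyN⟩, hyX⟩ := SetLike.exists_of_lt hlt
    exact hyX (hXmem y (h.mem_centralizer_of_mem E hK hEK hyK (hNX hyN)) (h.pow_p hK hyK))
  -- the centraliser of `t`
  have hexpt := h.cent_mem_two ht1 (h.sylow_mul_self E ht)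
  have hEt := h.sylow_le_centralizer E ht
  obtain ⟨Ot, hOtC, hOtp, hOtn, -, hfrt⟩ := h.exists_core_sylow E hexpt hEt
  have hXt : X ≤ centralizer ({t} : Set G) := fun y hy =>
    mem_centralizer_singleton_iff.2 (mem_centralizer_iff.1 (hXC hy) t ht).symm
  have hle : Ot ⊔ X ≤ X := by
    refine hmax _ le_sup_right (hOtp.to_sup_of_normal_left' hXp (hXt.trans hOtn)) ?_
    refine (le_inf (hEt.trans hOtn) (le_normalizer.trans hXN)).trans ?_
    exact Components.normalizer_inf_le_normalizer_sup Ot X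
  intro y hy
  obtain ⟨o, ho, n, -, hn, rfl⟩ := hfrt y hy
  exact mul_mem (hNEX o (hle (mem_sup_left ho))) hn

/-- Rank at least three and `C(E) = E`. -/
theorem Hyp.centralizer_le_of_rank [IsSimpleGroup G] (h : Hyp G p) (hG : ¬ IsMulCommutative G)
    (E : Sylow 2 G) (h8 : 8 ≤ Nat.card (E : Subgroup G))
    (hX : ∀ x ∈ centralizer ((E : Subgroup G) : Set G), x ^ p = 1 → x = 1)
    {t : G} (ht : t ∈ (E : Subgroup G)) (ht1 : t ≠ 1) :
    centralizer ({t} : Set G) ≤ normalizer ((E : Subgroup G) : Set G) := by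
  classical
  haveI := Fact.mk Nat.prime_two
  haveI := h.fact
  let θ : G → Subgroup G := fun a => Cfsg.centralizerPPrimeCore 2 a
  have hA := h.elemAb E
  have hθodd : ∀ a : G, ¬ 2 ∣ Nat.card (θ a) := fun a =>
    (Nat.Prime.coprime_iff_not_dvd Nat.prime_two).mp
      (Components.centralizerPPrimeCore_coprime a).symm
  have hsolv : ∀ a ∈ (E : Subgroup G), a ≠ 1 → Group.IsSolvable ↥(centralizer ({a} : Set G)) :=
    fun a ha ha1 => h.isSolvable_of_exp (h.cent_mem_two ha1 (h.sylow_mul_self E ha))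
  have hθconj : ∀ a g : G, ∀ y ∈ θ a, g * y * g⁻¹ ∈ θ (g * a * g⁻¹) := fun a g y hy =>
    CoreSeparated.mem_centralizerPPrimeCore_of_injective (MulAut.conj g⁻¹).toMonoidHom
      (MulAut.conj g⁻¹).injective (by simpa [mul_assoc] using hy)
  have hθ : Cfsg.IsSolvableSignalizerFunctor 2 (E : Subgroup G) θ := by
    refine ⟨⟨fun a _ _ => Components.centralizerPPrimeCore_le_centralizer a, fun a _ _ => hθodd a,
      fun a ha _ b hb x hx => ?_, fun a ha _ b hb hb1 => ?_⟩, fun a ha ha1 => ?_⟩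
    · have := hθconj a b x hx
      rwa [h.sylow_comm E b hb a ha, mul_inv_cancel_right] at this
    · exact Components.centralizerPPrimeCore_inf_le
        (Components.pLayer_eq_bot_of_isSolvable (hsolv b hb hb1))
        ((E.isPGroup').to_le (zpowers_le.2 ha)) (h.sylow_comm E a ha b hb)
    · exact Components.isSolvable_subgroup_mono
        (Components.centralizerPPrimeCore_le_centralizer a) (hsolv a ha ha1)
  have hcl := SignalizerSolvable.closure_of_solvable hA (by simpa using h8) hθ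
  set W := Cfsg.signalizerClosure (E : Subgroup G) θ with hWdef
  have hWp : IsPGroup p W := h.isPGroup_invariant (h.sylow_comm E)
    (fun a ha => h.sylow_mul_self E ha) (by omega) hcl.2.2.1 hcl.1
  have hNW : normalizer ((E : Subgroup G) : Set G) ≤ normalizer (W : Set G) := by
    have key : ∀ n ∈ normalizer ((E : Subgroup G) : Set G), ∀ w ∈ W, n * w * n⁻¹ ∈ W := by
      intro n hn w hw
      have hle : W.map (MulAut.conj n).toMonoidHom ≤ W := by
        rw [hWdef, Cfsg.signalizerClosure, Subgroup.map_iSup]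
        refine iSup_le fun a => ?_
        rintro _ ⟨y, hy, rfl⟩
        refine le_iSup (fun b : {b : G // b ∈ (E : Subgroup G) ∧ b ≠ 1} => θ b.1)
          ⟨n * a.1 * n⁻¹, (mem_normalizer_iff.1 hn a.1).1 a.2.1, fun e => a.2.2 (conj_eq_one_iff.1 e)⟩ ?_
        exact hθconj a.1 n y hy
      exact hle ⟨w, hw, rfl⟩
    intro n hn
    rw [mem_normalizer_iff]
    exact fun z => ⟨key n hn z, fun hz => by simpa [mul_assoc] using key n⁻¹ (inv_mem hn) _ hz⟩
  have hEW := h.le_centralizer hG E hWp hNW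
  obtain ⟨Ot, hOtC, hOtp, hOtn, -, hfrt⟩ :=
    h.exists_core_sylow E (h.cent_mem_two ht1 (h.sylow_mul_self E ht)) (h.sylow_le_centralizer E ht)
  intro y hy
  obtain ⟨o, ho, n, -, hn, rfl⟩ := hfrt y hy
  have hoW : o ∈ θ t := by
    haveI : (Ot.subgroupOf (centralizer ({t} : Set G))).Normal :=
      normal_subgroupOf_of_le_normalizer hOtn
    refine ⟨⟨o, hOtC ho⟩, PSolvable.le_pPrimeCore (N := Ot.subgroupOf (centralizer ({t} : Set G))) ?_ ho,
      rfl⟩
    obtain ⟨k, hk⟩ := IsPGroup.iff_card.1 hOtp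
    rw [Nat.card_congr (subgroupOfEquivOfLe hOtC).toEquiv, hk]
    exact h.coprime_two.symm.pow_left k
  have hoW' : o ∈ W :=
    le_iSup (fun b : {b : G // b ∈ (E : Subgroup G) ∧ b ≠ 1} => θ b.1) ⟨t, ht, ht1⟩ hoW
  have h1 : o = 1 := hX o (mem_centralizer_iff.2 fun e he =>
    (mem_centralizer_iff.1 (hEW he) o hoW').symm) (h.pow_p hWp hoW')
  rw [h1, one_mul]
  exact hn

/-- An element of `N(E)` fixing one involution centralises a four-group `E`. -/
theorem Hyp.mem_centralizer_four (h : Hyp G p) (E : Sylow 2 G) (h4 : Nat.card (E : Subgroup G) = 4)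
    {t n : G} (ht : t ∈ (E : Subgroup G)) (ht1 : t ≠ 1)
    (hn : n ∈ normalizer ((E : Subgroup G) : Set G)) (hnt : n * t = t * n) :
    n ∈ centralizer ((E : Subgroup G) : Set G) := by
  classical
  haveI := Fact.mk Nat.prime_two
  have h1 := h.cent_mem_two ht1 (h.sylow_mul_self E ht) n (mem_centralizer_singleton_iff.2 hnt)
  obtain ⟨e1, e2, e3⟩ := h.odd_pow_p (g := n) fun r hr hrd => h.eq_or_eq_of_dvd h1 hr hrd
  set b := n ^ (p + 1) with hb
  have ha : n ^ p ∈ (E : Subgroup G) := mem_sylow_of_sq E (pow_mem hn p) e2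
  rw [mem_centralizer_iff]
  intro e he
  by_contra hne
  -- `b` moves `e`
  have hbe : b * e * b⁻¹ ≠ e := fun e4 => hne (by
    have h5 : n * e * n⁻¹ = e := by
      calc n * e * n⁻¹ = n ^ p * (b * e * b⁻¹) * (n ^ p)⁻¹ := by
            conv_lhs => rw [e1]
            group
        _ = e := by rw [e4, h.sylow_comm E _ ha _ he, mul_inv_cancel_right]
    exact (mul_inv_eq_iff_eq_mul.1 h5).symm)
  have hbt : b * t * b⁻¹ = t := mul_inv_eq_iff_eq_mul.2 ((Commute.pow_left hnt (p + 1)).eq)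
  have hf : b * e * b⁻¹ ∈ (E : Subgroup G) := (mem_normalizer_iff.1 (pow_mem hn _) e).1 he
  have he1 : e ≠ 1 := fun e4 => hbe (by simp [e4])
  have het : e ≠ t := fun e4 => hbe (by rw [e4, hbt])
  -- the elements of `E`
  have hall : ∀ z ∈ (E : Subgroup G), z = 1 ∨ z = t ∨ z = e ∨ z = t * e := by
    intro z hz
    by_contra hc
    push Not at hc
    have hte1 : t * e ≠ 1 := fun e4 => het (by
      rw [← inv_eq_of_mul_eq_one_right e4, inv_eq_of_mul_eq_one_right (h.sylow_mul_self E ht)])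
    have hsub : ({1, t, e, t * e, z} : Finset G) ⊆
        (Set.toFinite ((E : Subgroup G) : Set G)).toFinset := by
      intro w hw
      simp only [Finset.mem_insert, Finset.mem_singleton] at hw
      rw [Set.Finite.mem_toFinset]
      rcases hw with rfl | rfl | rfl | rfl | rfl
      exacts [one_mem _, ht, he, mul_mem ht he, hz]
    have := Finset.card_le_card hsub
    rw [← Set.ncard_eq_toFinset_card, ← Nat.card_coe_set_eq,
      show Nat.card ↥((E : Subgroup G) : Set G) = 4 from h4] at this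
    rw [Finset.card_insert_of_notMem, Finset.card_insert_of_notMem, Finset.card_insert_of_notMem,
      Finset.card_insert_of_notMem, Finset.card_singleton] at this
    · omega
    · simp [Ne.symm hc.2.2.2]
    · simp [Ne.symm hc.2.2.1, ht1]
    · simp [Ne.symm het, Ne.symm hc.2.1, he1]
    · simp [Ne.symm ht1, Ne.symm he1, Ne.symm hte1, Ne.symm hc.1]
  have hfe : b * e * b⁻¹ = t * e := by
    rcases hall _ hf with e4 | e4 | e4 | e4
    · exact absurd (conj_eq_one_iff.1 e4) he1
    · exact absurd (mul_left_cancel (mul_right_cancel (e4.trans hbt.symm))) het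
    · exact absurd e4 hbe
    · exact e4
  have hbb : b * b * e * (b * b)⁻¹ = e := by
    calc b * b * e * (b * b)⁻¹ = b * (b * e * b⁻¹) * b⁻¹ := by group
      _ = b * (t * e) * b⁻¹ := by rw [hfe]
      _ = (b * t * b⁻¹) * (b * e * b⁻¹) := by group
      _ = e := by rw [hbt, hfe, ← mul_assoc, h.sylow_mul_self E ht, one_mul]
  obtain ⟨k, hk⟩ := h.odd
  have hb' : b = (b * b) ^ (k + 1) := by
    rw [← pow_two, ← pow_mul, show 2 * (k + 1) = p + 1 by omega, pow_succ, e3, one_mul]
  exact hbe (mul_inv_eq_iff_eq_mul.2 (hb' ▸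
    ((show Commute (b * b) e from mul_inv_eq_iff_eq_mul.1 hbb).pow_left (k + 1)).eq))

/-- The four-group case with `C(E) = E`. -/
theorem Hyp.psl_of_four [IsSimpleGroup G] (h : Hyp G p) (hG : ¬ IsMulCommutative G)
    (hex : ∃ x : G, orderOf x = 2 * p) (E : Sylow 2 G) (h4 : Nat.card (E : Subgroup G) = 4)
    (hX : ∀ x ∈ centralizer ((E : Subgroup G) : Set G), x ^ p = 1 → x = 1) :
    ∃ (F : Type) (_ : Field F) (_ : Fintype F), Odd (Fintype.card F) ∧
      Nonempty (G ≃* Matrix.ProjectiveSpecialLinearGroup (Fin 2) F) := by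
  classical
  haveI := Fact.mk Nat.prime_two
  haveI := h.fact
  set N := normalizer ((E : Subgroup G) : Set G)
  have hsq : ∀ a ∈ (E : Subgroup G), a * a = 1 := fun a ha => h.sylow_mul_self E ha
  have hcomm := h.sylow_comm E
  have hoddp : ∀ x : G, x ^ p = 1 → x * x = 1 → x = 1 := fun x hxp hx2 => by
    obtain ⟨k, hk⟩ := h.odd
    rwa [hk, pow_succ, pow_mul, pow_two, hx2, one_pow, one_mul] at hxp
  -- `C(E) = E`
  have hCE : ∀ x ∈ centralizer ((E : Subgroup G) : Set G), x ∈ (E : Subgroup G) := by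
    intro x hx
    obtain ⟨X, hXC, hXp, -, hdec, -⟩ := h.exists_centP E (fun e => by simp [e] at h4)
    obtain ⟨a, ha, y, hy, rfl⟩ := hdec x hx
    rwa [hX y (hXC hy) (h.pow_p hXp hy), mul_one]
  -- invariant `p`-groups have no normaliser moving `E`
  have hmove : ∀ D : Subgroup G, IsPGroup p D → D ≠ ⊥ →
      (E : Subgroup G) ≤ normalizer (D : Set G) → ∀ n ∈ N, n ∈ normalizer (D : Set G) →
      n ∈ centralizer ((E : Subgroup G) : Set G) := by
    intro D hD hD1 hED n hn hnD
    by_contra hne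
    refine hD1 ((Subgroup.eq_bot_iff_forall _).2 fun d hd => hX d ?_ (h.pow_p hD hd))
    exact mem_centralizer_iff.2 fun e he =>
      (mem_centralizer_iff.1 (h.le_centralizer_four E h4 hD hED hn hnD hne he) d hd).symm
  -- local subgroups
  have hloc : ∀ D : Subgroup G, IsPGroup p D → D ≠ ⊥ →
      (E : Subgroup G) ≤ normalizer (D : Set G) →
      ∃ K : Subgroup G, IsPGroup p K ∧ (E : Subgroup G) ≤ normalizer (K : Set G) ∧
        (∀ x ∈ normalizer (D : Set G), x ^ p = 1 → x ∈ K) ∧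
        ∀ x ∈ normalizer (D : Set G), ∃ k ∈ K, ∃ e ∈ (E : Subgroup G), x = k * e := by
    intro D hD hD1 hED
    set L := normalizer (D : Set G)
    set P : Sylow 2 L := E.subtype hED
    have hPC : normalizer ((P : Subgroup L) : Set L) ≤ centralizer ((P : Subgroup L) : Set L) := by
      intro x hx
      have hxN : (x : G) ∈ N := by
        rw [mem_normalizer_iff]
        intro z
        constructor
        · intro hz
          exact ((mem_normalizer_iff.1 hx) ⟨z, hED hz⟩).1 hz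
        · intro hz
          have hzL : z ∈ L := by
            have := L.mul_mem (L.mul_mem (L.inv_mem x.2) (hED hz)) x.2
            simpa [mul_assoc] using this
          exact ((mem_normalizer_iff.1 hx) ⟨z, hzL⟩).2 hz
      have h1 := hmove D hD hD1 hED x hxN x.2
      exact mem_centralizer_iff.2 fun e he => Subtype.ext (mem_centralizer_iff.1 h1 e he)
    set f := MonoidHom.transferSylow P hPC
    have hK := MonoidHom.ker_transferSylow_isComplement' P hPC
    have hodd : ¬ 2 ∣ Nat.card (f.ker.map L.subtype) := by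
      rw [card_map_of_injective L.subtype_injective]
      exact MonoidHom.not_dvd_card_ker_transferSylow P hPC
    have hEK : (E : Subgroup G) ≤ normalizer ((f.ker.map L.subtype : Subgroup G) : Set G) := by
      intro e he
      exact le_normalizer_map L.subtype (mem_map_of_mem L.subtype
        (show (⟨e, hED he⟩ : L) ∈ normalizer ((f.ker : Subgroup L) : Set L) by
          rw [normalizer_eq_top]; trivial))
    refine ⟨f.ker.map L.subtype, h.isPGroup_invariant hcomm hsq (by omega) hEK hodd, hEK, ?_, ?_⟩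
    · intro x hx hxp
      refine ⟨⟨x, hx⟩, ?_, rfl⟩
      show f ⟨x, hx⟩ = 1
      have h1 : f ⟨x, hx⟩ ^ p = 1 := by
        rw [← map_pow, show (⟨x, hx⟩ : L) ^ p = 1 from Subtype.ext hxp, map_one]
      have h2 : f ⟨x, hx⟩ ^ 2 = 1 := by
        apply Subtype.ext
        apply Subtype.ext
        simpa [pow_two] using hsq _ (f ⟨x, hx⟩).2
      simpa [h.coprime_two.symm.gcd_eq_one] using pow_gcd_eq_one.2 ⟨h1, h2⟩
    · intro x hx
      obtain ⟨⟨k, a⟩, hka, -⟩ := hK.existsUnique (⟨x, hx⟩ : L)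
      exact ⟨(k : L), mem_map_of_mem _ k.2, (a : L), a.2, (congrArg Subtype.val hka).symm⟩
  -- maximal invariant `p`-groups
  let Inv : Set (Subgroup G) := {D | IsPGroup p D ∧ (E : Subgroup G) ≤ normalizer (D : Set G)}
  have hext : ∀ D ∈ Inv, ∃ P : Subgroup G, Maximal (· ∈ Inv) P ∧ D ≤ P := fun D hD => by
    obtain ⟨P, hDP, hP⟩ := (Set.toFinite Inv).exists_le_maximal hD
    exact ⟨P, hP, hDP⟩
  have huniq : ∀ k : ℕ, ∀ P Q : Subgroup G, Maximal (· ∈ Inv) P → Maximal (· ∈ Inv) Q →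
      P ⊓ Q ≠ ⊥ → Nat.card G - Nat.card ↥(P ⊓ Q) ≤ k → P = Q := by
    intro k
    induction k using Nat.strong_induction_on with
    | _ k ih =>
      intro P Q hP hQ hne hk
      by_contra hPQ
      set D := P ⊓ Q with hD
      have hDP : D ≠ P := fun e => hPQ (hP.eq_of_le hQ.prop (e ▸ inf_le_right))
      have hDQ : D ≠ Q := fun e => hPQ (hQ.eq_of_le hP.prop (e ▸ inf_le_left)).symm
      have hED : (E : Subgroup G) ≤ normalizer (D : Set G) :=
        (le_inf hP.prop.2 hQ.prop.2).trans Subgroup.inf_normalizer_le_normalizer_inf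
      have hDp : IsPGroup p D := hP.prop.1.to_le inf_le_left
      obtain ⟨K, hKp, hEK, hKmem, -⟩ := hloc D hDp hne hED
      obtain ⟨R, hR, hKR⟩ := hext K ⟨hKp, hEK⟩
      have key : ∀ P' : Subgroup G, Maximal (· ∈ Inv) P' → D ≤ P' → D ≠ P' → P' = R := by
        intro P' hP' hle hne'
        haveI := hP'.prop.1.isNilpotent
        have hlt := OddLocal.lt_inf_normalizer hle hne'
        have h1 : P' ⊓ normalizer (D : Set G) ≤ P' ⊓ R := le_inf inf_le_left fun x hx =>
          hKR (hKmem x hx.2 (h.pow_p hP'.prop.1 hx.1))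
        have h2 : Nat.card D < Nat.card ↥(P' ⊓ R) :=
          Set.Finite.card_lt_card (Set.toFinite _) (lt_of_lt_of_le hlt h1)
        refine ih (Nat.card G - Nat.card ↥(P' ⊓ R)) ?_ P' R hP' hR (fun e => ?_) le_rfl
        · have := (P' ⊓ R).card_le_card_group
          omega
        · rw [e, Subgroup.card_bot] at h2
          have := Nat.card_pos (α := D)
          omega
      exact hPQ ((key P hP inf_le_left hDP).trans (key Q hQ inf_le_right hDQ).symm)
  -- centralisers
  have hct : ∀ t ∈ (E : Subgroup G), t ≠ 1 → ∃ O : Subgroup G, O ≤ centralizer ({t} : Set G) ∧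
      IsPGroup p O ∧ centralizer ({t} : Set G) ≤ normalizer (O : Set G) ∧
      (∀ K ≤ centralizer ({t} : Set G), IsPGroup p K →
        centralizer ({t} : Set G) ≤ normalizer (K : Set G) → K ≤ O) ∧
      ∀ x ∈ centralizer ({t} : Set G), x ^ p = 1 → x ∈ O := by
    intro t ht ht1
    obtain ⟨O, hOC, hOp, hOn, hOmax, hfr⟩ := h.exists_core_sylow E
      (h.cent_mem_two ht1 (hsq t ht)) (h.sylow_le_centralizer E ht)
    refine ⟨O, hOC, hOp, hOn, hOmax, fun x hx hxp => ?_⟩
    obtain ⟨o, ho, n, hnC, hn, e⟩ := hfr x hx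
    have hnE := hCE n (h.mem_centralizer_four E h4 ht ht1 hn (mem_centralizer_singleton_iff.1 hnC))
    have hxz : IsPGroup p (zpowers x) := fun y => ⟨1, Subtype.ext (by
      obtain ⟨i, hi⟩ := mem_zpowers_iff.1 y.2
      rw [SubmonoidClass.coe_pow, pow_one, ← hi, ← zpow_natCast, ← zpow_mul, mul_comm, zpow_mul,
        zpow_natCast, hxp, one_zpow]
      rfl)⟩
    have hsupp := hOp.to_sup_of_normal_left' hxz (zpowers_le.2 (hOn hx))
    have hnp : n ^ p = 1 := h.pow_p hsupp (by
      rw [show n = o⁻¹ * x by rw [e, inv_mul_cancel_left]]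
      exact mul_mem (mem_sup_left (inv_mem ho)) (mem_sup_right (mem_zpowers x)))
    rw [e, hoddp n hnp (hsq n hnE), mul_one]
    exact ho
  -- a rotation
  obtain ⟨n₀, hn₀, hn₀C⟩ : ∃ n ∈ N, n ∉ centralizer ((E : Subgroup G) : Set G) := by
    by_contra hc
    push Not at hc
    exact SmallGroups.not_normalizer_le_centralizer hG
      ((dvd_trans (by norm_num : 2 ∣ 4) (h4 ▸ Subgroup.card_subgroup_dvd_card _))) E fun n hn =>
        hc n hn
  have hrot : ∀ t ∈ (E : Subgroup G), t ≠ 1 → n₀ * t * n₀⁻¹ ≠ t := fun t ht ht1 e =>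
    hn₀C (h.mem_centralizer_four E h4 ht ht1 hn₀ (mul_inv_eq_iff_eq_mul.1 e))
  have hcj : ∀ z ∈ (E : Subgroup G), n₀ * z * n₀⁻¹ ∈ (E : Subgroup G) := fun z hz =>
    (mem_normalizer_iff.1 hn₀ z).1 hz
  -- the three involutions form one orbit
  have horb : ∀ t ∈ (E : Subgroup G), t ≠ 1 → ∀ s ∈ (E : Subgroup G), s ≠ 1 →
      ∃ g ∈ N, g * t * g⁻¹ = s := by
    intro t ht ht1 s hs hs1
    set t₁ := n₀ * t * n₀⁻¹ with ht₁
    set t₂ := n₀ * t₁ * n₀⁻¹ with ht₂
    have ht₁m := hcj t ht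
    have ht₂m := hcj _ ht₁m
    have ht₁1 : t₁ ≠ 1 := fun e => ht1 (conj_eq_one_iff.1 e)
    have ht₂1 : t₂ ≠ 1 := fun e => ht₁1 (conj_eq_one_iff.1 e)
    have h21 : t₂ ≠ t₁ := hrot _ ht₁m ht₁1
    have h10 : t₁ ≠ t := hrot t ht ht1
    have h20 : t₂ ≠ t := by
      intro e
      -- `n₀` would fix the third involution
      set s₃ := t * t₁ with hs₃
      have hs₃1 : s₃ ≠ 1 := fun e3 => h10 (by
        rw [← inv_eq_of_mul_eq_one_right e3, inv_eq_of_mul_eq_one_right (hsq t ht)])
      refine hrot s₃ (mul_mem ht ht₁m) hs₃1 ?_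
      calc n₀ * (t * t₁) * n₀⁻¹ = t₁ * t₂ := by rw [ht₂, ht₁]; group
        _ = t * t₁ := by rw [e, hcomm _ ht₁m _ ht]
    by_cases e0 : s = t
    · exact ⟨1, one_mem _, by simp [e0]⟩
    by_cases e1 : s = t₁
    · exact ⟨n₀, hn₀, e1.symm⟩
    by_cases e2 : s = t₂
    · exact ⟨n₀ * n₀, mul_mem hn₀ hn₀, by rw [e2, ht₂, ht₁]; group⟩
    exfalso
    have hsub : ({1, t, t₁, t₂, s} : Finset G) ⊆
        (Set.toFinite ((E : Subgroup G) : Set G)).toFinset := by
      intro w hw
      simp only [Finset.mem_insert, Finset.mem_singleton] at hw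
      rw [Set.Finite.mem_toFinset]
      rcases hw with rfl | rfl | rfl | rfl | rfl
      exacts [one_mem _, ht, ht₁m, ht₂m, hs]
    have := Finset.card_le_card hsub
    rw [← Set.ncard_eq_toFinset_card, ← Nat.card_coe_set_eq,
      show Nat.card ↥((E : Subgroup G) : Set G) = 4 from h4] at this
    rw [Finset.card_insert_of_notMem, Finset.card_insert_of_notMem, Finset.card_insert_of_notMem,
      Finset.card_insert_of_notMem, Finset.card_singleton] at this
    · omega
    · simp [Ne.symm e2]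
    · simp [Ne.symm h21, Ne.symm e1]
    · simp [Ne.symm h10, Ne.symm h20, Ne.symm e0]
    · simp [Ne.symm ht1, Ne.symm ht₁1, Ne.symm ht₂1, Ne.symm hs1]
  -- each core is nontrivial
  have hcore : ∀ t ∈ (E : Subgroup G), t ≠ 1 →
      ∃ y ∈ centralizer ({t} : Set G), y ^ p = 1 ∧ y ≠ 1 := by
    intro t ht ht1
    obtain ⟨x, hx⟩ := hex
    have hi : orderOf (x ^ p) = 2 := by
      rw [orderOf_pow_of_dvd h.prime.ne_zero (hx ▸ dvd_mul_left p 2), hx,
        Nat.mul_div_cancel _ h.prime.pos]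
    have hiz : IsPGroup 2 (zpowers (x ^ p)) := IsPGroup.of_card (n := 1) (by
      rw [Nat.card_zpowers, hi, pow_one])
    obtain ⟨S, hS⟩ := hiz.exists_le_sylow
    obtain ⟨g, hg⟩ := Transfer.exists_sylow_map_conj_eq E S
    have hmem : g * x ^ p * g⁻¹ ∈ (E : Subgroup G) := by
      rw [← hg]; exact ⟨_, hS (mem_zpowers _), rfl⟩
    obtain ⟨g', -, hg'⟩ := horb _ hmem (fun e => by
      rw [conj_eq_one_iff] at e; rw [e, orderOf_one] at hi; omega) t ht ht1
    refine ⟨g' * g * x ^ 2 * (g' * g)⁻¹, mem_centralizer_singleton_iff.2 ?_, ?_, ?_⟩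
    · rw [← hg']
      calc g' * g * x ^ 2 * (g' * g)⁻¹ * (g' * (g * x ^ p * g⁻¹) * g'⁻¹)
          = g' * g * (x ^ 2 * x ^ p) * (g' * g)⁻¹ := by group
        _ = g' * g * (x ^ p * x ^ 2) * (g' * g)⁻¹ := by rw [← pow_add, ← pow_add, add_comm]
        _ = _ := by group
    · rw [conj_pow, ← pow_mul, ← hx, pow_orderOf_eq_one, mul_one, mul_inv_cancel]
    · rw [Ne, conj_eq_one_iff]
      intro e
      have := Nat.le_of_dvd two_pos (hx ▸ orderOf_dvd_of_pow_eq_one e)
      have := h.prime.two_le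
      omega
  -- maximal groups of the involutions
  have hPt : ∀ t ∈ (E : Subgroup G), t ≠ 1 → ∀ O : Subgroup G,
      O ≤ centralizer ({t} : Set G) → centralizer ({t} : Set G) ≤ normalizer (O : Set G) →
      IsPGroup p O → O ∈ Inv := fun t ht _ O _ hOn hOp =>
    ⟨hOp, (h.sylow_le_centralizer E ht).trans hOn⟩
  obtain ⟨⟨t, ht⟩, ht1'⟩ := (E : Subgroup G).ne_bot_iff_exists_ne_one.1
    (fun e => by simp [e] at h4)
  have ht1 : t ≠ 1 := fun e => ht1' (Subtype.ext e)
  obtain ⟨O, hOC, hOp, hOn, hOmax, hOmem⟩ := hct t ht ht1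
  have hO1 : O ≠ ⊥ := fun e => by
    obtain ⟨y, hy, hyp, hy1⟩ := hcore t ht ht1
    exact hy1 (Subgroup.mem_bot.1 (e ▸ hOmem y hy hyp))
  obtain ⟨P, hP, hOP⟩ := hext O (hPt t ht ht1 O hOC hOn hOp)
  have hP1 : P ≠ ⊥ := fun e => hO1 (le_bot_iff.1 (e ▸ hOP))
  -- conjugates of `P` meet trivially
  have hdisj : ∀ a ∈ (E : Subgroup G), a ≠ 1 → a ≠ t →
      ∀ x ∈ P, x * a = a * x → x = 1 := by
    intro a ha ha1 hat x hx hxa
    obtain ⟨g, hg, hga⟩ := horb t ht ht1 a ha ha1
    have hgC : g ∉ centralizer ((E : Subgroup G) : Set G) := fun hc => hat (by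
      rw [← hga, ← mem_centralizer_iff.1 hc t ht, mul_inv_cancel_right])
    obtain ⟨Oa, hOaC, hOap, hOan, hOamax, hOamem⟩ := hct a ha ha1
    -- `Oa` contains the conjugate of `O`
    set P' := P.map (MulAut.conj g).toMonoidHom with hP'def
    have hnE : ∀ e ∈ (E : Subgroup G), g⁻¹ * e * g ∈ (E : Subgroup G) := fun e he =>
      (mem_normalizer_iff''.1 hg e).1 he
    have hP'inv : P' ∈ Inv := by
      refine ⟨hP.prop.1.map _, fun e he => ?_⟩
      rw [← Transfer.map_conj_eq_iff, Transfer.map_conj_map_conj,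
        show e * g = g * (g⁻¹ * e * g) by group, ← Transfer.map_conj_map_conj,
        Transfer.map_conj_eq_iff.2 (hP.prop.2 (hnE e he))]
    obtain ⟨R, hR, hP'R⟩ := hext P' hP'inv
    have hOa' : ∀ y ∈ O, g * y * g⁻¹ ∈ Oa := fun y hy => hOamem _
      (mem_centralizer_singleton_iff.2 (by
        rw [← hga]
        have := mem_centralizer_singleton_iff.1 (hOC hy)
        calc g * y * g⁻¹ * (g * t * g⁻¹) = g * (y * t) * g⁻¹ := by group
          _ = _ := by rw [this]; group))
      (by rw [conj_pow, h.pow_p hOp hy, mul_one, mul_inv_cancel])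
    have hxOa : x ∈ Oa := hOamem x (mem_centralizer_singleton_iff.2 hxa) (h.pow_p hP.prop.1 hx)
    obtain ⟨Q, hQ, hOaQ⟩ := hext Oa (hPt a ha ha1 Oa hOaC hOan hOap)
    obtain ⟨⟨y, hy⟩, hy1⟩ := O.ne_bot_iff_exists_ne_one.1 hO1
    have hy1' : g * y * g⁻¹ ≠ 1 := fun e => hy1 (Subtype.ext (conj_eq_one_iff.1 e))
    by_contra hx1
    have e1 : P = Q := huniq _ P Q hP hQ (fun e => hx1 (Subgroup.mem_bot.1
      (e ▸ ⟨hx, hOaQ hxOa⟩ : x ∈ (⊥ : Subgroup G)))) le_rfl
    have e2 : R = Q := huniq _ R Q hR hQ (fun e => hy1' (Subgroup.mem_bot.1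
      (e ▸ ⟨hP'R ⟨y, hOP hy, rfl⟩, hOaQ (hOa' y hy)⟩ : g * y * g⁻¹ ∈ (⊥ : Subgroup G)))) le_rfl
    have e3 : P' = P := by
      refine eq_of_le_of_card_ge (by rw [e1, ← e2]; exact hP'R) ?_
      rw [hP'def, card_map_of_injective (MulAut.conj g).injective]
    exact hgC (hmove P hP.prop.1 hP1 hP.prop.2 g hg (Transfer.map_conj_eq_iff.1 e3))
  -- inversion
  have hinv : ∀ a ∈ (E : Subgroup G), a ≠ 1 → a ≠ t → ∀ x ∈ P, a * x * a⁻¹ = x⁻¹ := by
    intro a ha ha1 hat x hx
    let f : P → P := fun z => ⟨(z : G)⁻¹ * (a * z * a⁻¹),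
      P.mul_mem (inv_mem z.2) ((mem_normalizer_iff.1 (hP.prop.2 ha) _).1 z.2)⟩
    have hf : Function.Injective f := by
      intro z w e
      have e' : (z : G)⁻¹ * (a * z * a⁻¹) = (w : G)⁻¹ * (a * w * a⁻¹) := congrArg Subtype.val e
      have h1 : (w : G) * (z : G)⁻¹ = 1 := hdisj a ha ha1 hat _ (P.mul_mem w.2 (inv_mem z.2)) (by
        calc (w : G) * (z : G)⁻¹ * a = w * ((z : G)⁻¹ * (a * z * a⁻¹)) * (a * (z : G)⁻¹ * a⁻¹) * a := by
              group
          _ = a * ((w : G) * (z : G)⁻¹) := by rw [e']; group)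
      exact Subtype.ext (mul_inv_eq_one.1 h1).symm
    obtain ⟨⟨z, hz⟩, e⟩ := (Finite.injective_iff_surjective.1 hf) ⟨x, hx⟩
    have e' : z⁻¹ * (a * z * a⁻¹) = x := congrArg Subtype.val e
    rw [← e']
    have haa := hsq a ha
    calc a * (z⁻¹ * (a * z * a⁻¹)) * a⁻¹ = (a * z * a⁻¹)⁻¹ * ((a * a) * z * (a * a)⁻¹) := by group
      _ = (z⁻¹ * (a * z * a⁻¹))⁻¹ := by rw [haa]; group
  have hPO : P = O := by
    refine le_antisymm (fun x hx => hOmem x ?_ (h.pow_p hP.prop.1 hx)) hOP
    obtain ⟨a, ha, ha1, hat⟩ : ∃ a ∈ (E : Subgroup G), a ≠ 1 ∧ a ≠ t :=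
      ⟨n₀ * t * n₀⁻¹, hcj t ht, fun e => ht1 (conj_eq_one_iff.1 e), hrot t ht ht1⟩
    have ha' : t * a ≠ 1 ∧ t * a ≠ t := ⟨fun e => hat (by
      rw [← inv_eq_of_mul_eq_one_right e, inv_eq_of_mul_eq_one_right (hsq t ht)]),
      fun e => ha1 (mul_eq_left.1 e)⟩
    have e1 := hinv a ha ha1 hat x hx
    have e2 := hinv (t * a) (mul_mem ht ha) ha'.1 ha'.2 x hx
    have e3 : t * x⁻¹ * t⁻¹ = x⁻¹ := by
      rw [← e1]
      calc t * (a * x * a⁻¹) * t⁻¹ = t * a * x * (t * a)⁻¹ := by group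
        _ = _ := by rw [e2, e1]
    have e4 : Commute t x := by
      have := Commute.inv_right (show Commute t x⁻¹ from mul_inv_eq_iff_eq_mul.1 e3)
      rwa [inv_inv] at this
    exact mem_centralizer_singleton_iff.2 e4.eq.symm
  -- the Brauer-Suzuki-Wall hypotheses
  haveI : IsKleinFour (E : Subgroup G) := ⟨h4, by
    refine Nat.dvd_antisymm (Monoid.exponent_dvd_of_forall_pow_eq_one fun x =>
      Subtype.ext (by simpa [pow_two] using hsq x x.2)) ?_
    obtain ⟨x, hx⟩ := exists_prime_orderOf_dvd_card' (G := (E : Subgroup G)) 2 (by rw [h4]; norm_num)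
    have h5 := Monoid.order_dvd_exponent x
    rwa [hx] at h5⟩
  obtain ⟨eK⟩ : Nonempty ((E : Subgroup G) ≃* DihedralGroup 2) := IsKleinFour.nonempty_mulEquiv
  have hcentO : ∀ s ∈ (E : Subgroup G), s ∈ centralizer (O : Set G) → s = 1 ∨ s = t := by
    intro s hs hsO
    by_contra hc
    push Not at hc
    obtain ⟨⟨y, hy⟩, hy1⟩ := O.ne_bot_iff_exists_ne_one.1 hO1
    refine hy1 (Subtype.ext (hdisj s hs hc.1 hc.2 y (hOP hy) ?_))
    exact mem_centralizer_iff.1 hsO y hy
  have htO : t ∈ centralizer (O : Set G) := mem_centralizer_iff.2 fun y hy =>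
    mem_centralizer_singleton_iff.1 (hOC hy)
  have hinf : (E : Subgroup G) ⊓ centralizer (O : Set G) = zpowers t := by
    refine le_antisymm (fun s hs => ?_) (zpowers_le.2 ⟨ht, htO⟩)
    rcases hcentO s hs.1 hs.2 with rfl | rfl
    exacts [one_mem _, mem_zpowers _]
  refine Cfsg.Agent.S0508.result E 2 le_rfl ⟨eK⟩ t
    (orderOf_eq_prime (by rw [pow_two]; exact hsq t ht) ht1) ht (fun s hs => hcomm s hs t ht) O
    ?_ (fun _ => ⟨?_, ?_⟩) (fun s hs hsO y hy => ?_) (fun Y hY hY1 => ?_)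
  · refine le_antisymm (fun o ho => ?_) ?_
    · haveI : (O.subgroupOf (centralizer ({t} : Set G))).Normal :=
        normal_subgroupOf_of_le_normalizer hOn
      refine ⟨⟨o, hOC ho⟩, PSolvable.le_pPrimeCore (N := O.subgroupOf (centralizer ({t} : Set G))) ?_ ho,
        rfl⟩
      obtain ⟨k, hk⟩ := IsPGroup.iff_card.1 hOp
      rw [Nat.card_congr (subgroupOfEquivOfLe hOC).toEquiv, hk]
      exact h.coprime_two.symm.pow_left k
    · refine hOmax _ (map_subtype_le _) (h.isPGroup_of_odd ?_ fun x hx =>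
        h.cent_mem_two ht1 (hsq t ht) x (map_subtype_le _ hx)) fun x hx => ?_
      · rw [card_map_of_injective (centralizer ({t} : Set G)).subtype_injective]
        exact PSolvable.pPrimeCore_not_dvd
      · exact le_normalizer_map (centralizer ({t} : Set G)).subtype
          (mem_map_of_mem (centralizer ({t} : Set G)).subtype
          (show (⟨x, hx⟩ : centralizer ({t} : Set G)) ∈ normalizer
            ((Cfsg.pPrimeCore 2 (centralizer ({t} : Set G)) : Subgroup _) : Set _) by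
            rw [normalizer_eq_top]; trivial))
  · rw [hinf]; exact isCyclic_zpowers t
  · rw [hinf]
    have h1 := PSolvable.card_mul_relIndex (zpowers_le.2 ht : zpowers t ≤ (E : Subgroup G))
    rw [Nat.card_zpowers, orderOf_eq_prime (by rw [pow_two]; exact hsq t ht) ht1, h4] at h1
    omega
  · refine hinv s hs (fun e => hsO (e ▸ one_mem _)) (fun e => hsO (e ▸ htO)) y (hOP hy)
  · have hYP : Y ≤ P := hY.trans hOP
    have hYp : IsPGroup p Y := hOp.to_le hY
    have hEY : (E : Subgroup G) ≤ normalizer (Y : Set G) := by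
      intro e he
      have key : ∀ y ∈ Y, e * y * e⁻¹ ∈ Y := by
        intro y hy
        by_cases he1 : e = 1
        · simpa [he1] using hy
        by_cases het : e = t
        · rw [het, ← mem_centralizer_singleton_iff.1 (hOC (hY hy)), mul_inv_cancel_right]
          exact hy
        · rw [hinv e he he1 het y (hYP hy)]
          exact inv_mem hy
      rw [mem_normalizer_iff]
      refine fun z => ⟨key z, fun hz => ?_⟩
      have := key _ hz
      rwa [show e * (e * z * e⁻¹) * e⁻¹ = (e * e) * z * (e * e)⁻¹ by group, hsq e he, one_mul,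
        inv_one, mul_one] at this
    obtain ⟨K, hKp, hEK, hKmem, hKdec⟩ := hloc Y hYp hY1 hEY
    obtain ⟨R, hR, hKR⟩ := hext K ⟨hKp, hEK⟩
    obtain ⟨⟨y, hy⟩, hy1⟩ := Y.ne_bot_iff_exists_ne_one.1 hY1
    have hyR : y ∈ R := hKR (hKmem y (le_normalizer hy) (h.pow_p hYp hy))
    have hRP : R = P := huniq _ R P hR hP (fun e => hy1 (Subtype.ext (Subgroup.mem_bot.1
      (e ▸ ⟨hyR, hYP hy⟩ : y ∈ (⊥ : Subgroup G))))) le_rfl
    intro x hx
    obtain ⟨k, hk, e, he, rfl⟩ := hKdec x hx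
    exact mul_mem (hOC (hPO ▸ hRP ▸ hKR hk)) (h.sylow_le_centralizer E ht he)

/-- The dichotomy. -/
theorem Hyp.stronglyEmbedded_or_psl [IsSimpleGroup G] (h : Hyp G p) (hG : ¬ IsMulCommutative G)
    (hex : ∃ x : G, orderOf x = 2 * p) (E : Sylow 2 G) (h4 : 4 ≤ Nat.card (E : Subgroup G)) :
    (∀ t ∈ (E : Subgroup G), t ≠ 1 →
        centralizer ({t} : Set G) ≤ normalizer ((E : Subgroup G) : Set G)) ∨
      ∃ (F : Type) (_ : Field F) (_ : Fintype F), Odd (Fintype.card F) ∧
        Nonempty (G ≃* Matrix.ProjectiveSpecialLinearGroup (Fin 2) F) := by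
  haveI := Fact.mk Nat.prime_two
  obtain ⟨X, hXC, hXp, hXmem, -, hXN⟩ := h.exists_centP E
    (fun e => by rw [e, Subgroup.card_bot] at h4; omega)
  by_cases hX1 : X = ⊥
  · have hX : ∀ x ∈ centralizer ((E : Subgroup G) : Set G), x ^ p = 1 → x = 1 := fun x hx hxp =>
      Subgroup.mem_bot.1 (hX1 ▸ hXmem x hx hxp)
    obtain ⟨k, hk⟩ := IsPGroup.iff_card.1 E.isPGroup'
    rcases Nat.lt_or_ge k 3 with hk3 | hk3
    · refine Or.inr (h.psl_of_four hG hex E ?_ hX)
      interval_cases k <;> simp_all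
    · refine Or.inl fun t ht ht1 => h.centralizer_le_of_rank hG E ?_ hX ht ht1
      rw [hk]; exact (by norm_num : (8 : ℕ) = 2 ^ 3).le.trans (Nat.pow_le_pow_right two_pos hk3)
  · exact Or.inl fun t ht ht1 => h.centralizer_le_of_centP hG E hX1 hXC hXp hXmem hXN ht ht1

end Cfsg.Agent.Lib.TwoPEven
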