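import Mathlib
import Cfsg.Agent.S0205

/-!
Odd groups of automorphisms of an elementary abelian 2-group, transitive on the involutions, with
`p`-group point stabilisers, elements of order divisible by `p` having order `p`.
-/

set_option autoImplicit false

namespace Cfsg.Agent.Lib.TwoPEven

open Subgroup

universe u

variable {V : Type u} [CommGroup V]

/-- The fixed points of an automorphism. -/
def fixSub (x : MulAut V) : Subgroup V := x.toMonoidHom.eqLocus (MonoidHom.id V)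

theorem mem_fixSub {x : MulAut V} {v : V} : v ∈ fixSub x ↔ x v = v := Iff.rfl

/-- The norm of `x` over `r` steps. -/
def nrm (r : ℕ) (x : MulAut V) (v : V) : V := ∏ i ∈ Finset.range r, (x ^ i) v

theorem smul_nrm {r : ℕ} {x : MulAut V} (hx : x ^ r = 1) (v : V) : x (nrm r x v) = nrm r x v := by
  rcases r.eq_zero_or_pos with rfl | hr
  · simp [nrm]
  obtain ⟨k, rfl⟩ := Nat.exists_eq_succ_of_ne_zero hr.ne'
  rw [nrm, map_prod]
  simp only [← MulAut.mul_apply, ← pow_succ']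
  rw [Finset.prod_range_succ, hx, Finset.prod_range_succ', pow_zero]

/-- An automorphism without nontrivial fixed points. -/
def IsFree (x : MulAut V) : Prop := ∀ v, x v = v → v = 1

theorem nrm_eq_one {r : ℕ} {x : MulAut V} (hx : x ^ r = 1) (hf : IsFree x) (v : V) : nrm r x v = 1 :=
  hf _ (smul_nrm hx v)

theorem nrm_fixed {r : ℕ} {x : MulAut V} {v : V} (hv : x v = v) : nrm r x v = v ^ r := by
  have h : ∀ i : ℕ, (x ^ i) v = v := fun i => by
    induction i with
    | zero => simp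
    | succ i ih => rw [pow_succ, MulAut.mul_apply, hv, ih]
  simp [nrm, h]

theorem pow_mod_eq {r : ℕ} {x : MulAut V} (hx : x ^ r = 1) (i : ℕ) : x ^ (i % r) = x ^ i := by
  conv_rhs => rw [← Nat.mod_add_div i r, pow_add, pow_mul, hx, one_pow, mul_one]

/-- The sum over the lines of `⟨a, b⟩`. -/
theorem norm_formula {r : ℕ} (hr : r.Prime) {a b : MulAut V} (hab : Commute a b) (hb : b ^ r = 1)
    (hbf : IsFree b) (v : V) :
    ∏ i ∈ Finset.range r, nrm r (a * b ^ i) v = v ^ r := by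
  haveI := Fact.mk hr
  have hb1 := nrm_eq_one hb hbf
  unfold nrm
  rw [Finset.prod_comm]
  have h0 : ∀ j ∈ Finset.range r, j ≠ 0 → ∏ i ∈ Finset.range r, ((a * b ^ i) ^ j) v = 1 := by
    intro j hj hj0
    have hne : (j : ZMod r) ≠ 0 := fun e =>
      hj0 (Nat.eq_zero_of_dvd_of_lt ((ZMod.natCast_eq_zero_iff _ _).1 e) (Finset.mem_range.1 hj))
    refine Eq.trans ?_ (hb1 ((a ^ j) v))
    unfold nrm
    refine Finset.prod_bij' (fun i _ => ((i * j : ℕ) : ZMod r).val)
      (fun k _ => ((k : ZMod r) * (j : ZMod r)⁻¹).val)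
      (fun i _ => Finset.mem_range.2 (ZMod.val_lt _))
      (fun k _ => Finset.mem_range.2 (ZMod.val_lt _)) (fun i hi => ?_) (fun k hk => ?_)
      (fun i _ => ?_)
    · rw [ZMod.natCast_zmod_val, Nat.cast_mul, mul_inv_cancel_right₀ hne,
        ZMod.val_cast_of_lt (Finset.mem_range.1 hi)]
    · rw [Nat.cast_mul, ZMod.natCast_zmod_val, inv_mul_cancel_right₀ hne,
        ZMod.val_cast_of_lt (Finset.mem_range.1 hk)]
    · rw [← MulAut.mul_apply, ZMod.val_natCast, pow_mod_eq hb, pow_mul, (hab.pow_right i).mul_pow,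
        ((hab.pow_right i).pow_pow j j).eq]
  rw [Finset.prod_eq_single_of_mem 0 (Finset.mem_range.2 hr.pos) fun j hj hj0 => h0 j hj hj0]
  simp

/-- Two commuting free automorphisms of prime order with free products are dependent. -/
theorem false_of_free_pair {r : ℕ} (hr : r.Prime) (hr2 : r ≠ 2) (hV : ∀ v : V, v * v = 1)
    [Nontrivial V] {a b : MulAut V} (hab : Commute a b) (ha : a ^ r = 1) (hb : b ^ r = 1)
    (hbf : IsFree b) (hall : ∀ i : ℕ, IsFree (a * b ^ i)) : False := by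
  obtain ⟨v, hv⟩ := exists_ne (1 : V)
  have h1 := norm_formula hr hab hb hbf v
  rw [Finset.prod_eq_one fun i _ => nrm_eq_one (by
    rw [(hab.pow_right i).mul_pow, ha, ← pow_mul, mul_comm, pow_mul, hb, one_pow, one_mul])
    (hall i) v] at h1
  obtain ⟨k, hk⟩ := hr.odd_of_ne_two hr2
  rw [hk, pow_succ, pow_mul, pow_two, hV, one_pow, one_mul] at h1
  exact hv h1.symm

/-- For `⟨a, b⟩` of order `p²` with `b` free the group is the product of the fixed subgroups. -/
theorem card_eq_prod [Finite V] {r : ℕ} (hr : r.Prime) (hr2 : r ≠ 2) (hV : ∀ v : V, v * v = 1)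
    {a b : MulAut V} (hab : Commute a b) (ha : a ^ r = 1) (hb : b ^ r = 1)
    (hbf : ∀ i : ℕ, ¬ r ∣ i → IsFree (b ^ i)) :
    Nat.card V = ∏ i : Fin r, Nat.card (fixSub (a * b ^ (i : ℕ))) := by
  rw [← Nat.card_pi]
  have hr' : ∀ v : V, v ^ r = v := fun v => by
    obtain ⟨k, hk⟩ := hr.odd_of_ne_two hr2
    rw [hk, pow_succ, pow_mul, pow_two, hV, one_pow, one_mul]
  have hbf1 : IsFree b := by simpa using hbf 1 fun h => hr.ne_one (Nat.dvd_one.1 h)
  have hx : ∀ i : ℕ, (a * b ^ i) ^ r = 1 := fun i => by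
    rw [(hab.pow_right i).mul_pow, ha, ← pow_mul, mul_comm, pow_mul, hb, one_pow, one_mul]
  refine Nat.card_eq_of_bijective (fun v i => ⟨nrm r (a * b ^ (i : ℕ)) v, smul_nrm (hx _) v⟩) ⟨?_, ?_⟩
  · intro v w e
    have hval : ∀ i : Fin r, nrm r (a * b ^ (i : ℕ)) v = nrm r (a * b ^ (i : ℕ)) w :=
      fun i => congrArg Subtype.val (congrFun e i)
    rw [← hr' v, ← hr' w, ← norm_formula hr hab hb hbf1 v, ← norm_formula hr hab hb hbf1 w]
    exact Finset.prod_congr rfl fun i hi => hval ⟨i, Finset.mem_range.1 hi⟩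
  · intro f
    refine ⟨∏ j : Fin r, (f j : V), funext fun i => Subtype.ext ?_⟩
    have hmul : ∀ v w : V, nrm r (a * b ^ (i : ℕ)) (v * w) =
        nrm r (a * b ^ (i : ℕ)) v * nrm r (a * b ^ (i : ℕ)) w := fun v w => by
      simp only [nrm, map_mul, Finset.prod_mul_distrib]
    let N : V →* V := MonoidHom.mk' (nrm r (a * b ^ (i : ℕ))) hmul
    show N (∏ j : Fin r, (f j : V)) = f i
    rw [map_prod, Fintype.prod_eq_single i]
    · exact (nrm_fixed (f i).2).trans (hr' _)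
    · intro j hj
      show nrm r (a * b ^ (i : ℕ)) (f j) = 1
      -- `a b^i = (a b^j) b^d`
      set d := (i : ℕ) + (r - (j : ℕ)) with hd
      have hdr : ¬ r ∣ d := by
        rintro ⟨q, hq⟩
        have hi := i.2
        have hj' := j.2
        rcases Nat.lt_or_ge q 2 with hq2 | hq2
        · interval_cases q
          · omega
          · exact hj (Fin.ext (by omega))
        · have := Nat.mul_le_mul_left r hq2
          omega
      have he : b ^ (i : ℕ) = b ^ (j : ℕ) * b ^ d := by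
        rw [← pow_add, show (j : ℕ) + d = (i : ℕ) + r by have := j.2; omega, pow_add, hb, mul_one]
      have hcd : ∀ k : ℕ, ((a * b ^ (i : ℕ)) ^ k) (f j : V) = ((b ^ d) ^ k) (f j : V) := by
        intro k
        have hc1 : Commute (a * b ^ (j : ℕ)) (b ^ d) :=
          (hab.pow_right d).mul_left ((Commute.refl b).pow_pow (j : ℕ) d)
        rw [he, ← mul_assoc, hc1.mul_pow, (hc1.pow_pow k k).eq, MulAut.mul_apply]
        congr 1
        induction k with
        | zero => simp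
        | succ k ih => rw [pow_succ, MulAut.mul_apply, mem_fixSub.1 (f j).2, ih]
      have : nrm r (a * b ^ (i : ℕ)) (f j : V) = nrm r (b ^ d) (f j : V) :=
        Finset.prod_congr rfl fun k _ => hcd k
      rw [this]
      exact nrm_eq_one (by rw [← pow_mul, mul_comm, pow_mul, hb, one_pow]) (hbf d hdr) _

/-- The data: an odd transitive group. -/
structure LinHyp (A : Subgroup (MulAut V)) (p : ℕ) : Prop where
  prime : p.Prime
  ne_two : p ≠ 2
  sq : ∀ v : V, v * v = 1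
  odd : Odd (Nat.card A)
  ordp : ∀ a ∈ A, p ∣ orderOf a → orderOf a = p
  stab : ∀ a ∈ A, ∀ v : V, v ≠ 1 → a v = v → a ^ p = 1
  trans : ∀ v w : V, v ≠ 1 → w ≠ 1 → ∃ a ∈ A, a v = w

variable {A : Subgroup (MulAut V)} {p : ℕ}

/-- The stabiliser of a point in a subgroup. -/
def stabIn (L : Subgroup (MulAut V)) (v : V) : Subgroup (MulAut V) :=
  L ⊓ MulAction.stabilizer (MulAut V) v

theorem mem_stabIn {L : Subgroup (MulAut V)} {v : V} {x : MulAut V} :
    x ∈ stabIn L v ↔ x ∈ L ∧ x v = v := Iff.rfl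

theorem LinHyp.card_stabIn_eq (hA : LinHyp A p) {L : Subgroup (MulAut V)}
    (hn : ∀ a ∈ A, ∀ x ∈ L, a * x * a⁻¹ ∈ L) {v w : V} (hv : v ≠ 1) (hw : w ≠ 1) :
    Nat.card (stabIn L v) = Nat.card (stabIn L w) := by
  obtain ⟨a, ha, rfl⟩ := hA.trans v w hv hw
  refine Nat.card_congr
    { toFun := fun x => ⟨a * x * a⁻¹, hn a ha _ x.2.1, ?_⟩
      invFun := fun x => ⟨a⁻¹ * x * a, ?_, ?_⟩
      left_inv := fun x => Subtype.ext (by group)
      right_inv := fun x => Subtype.ext (by group) }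
  · show (a * (x : MulAut V) * a⁻¹) (a v) = a v
    rw [← MulAut.mul_apply, inv_mul_cancel_right, MulAut.mul_apply,
      show (x : MulAut V) v = v from x.2.2]
  · simpa using hn a⁻¹ (inv_mem ha) _ x.2.1
  · show (a⁻¹ * (x : MulAut V) * a) v = v
    rw [mul_assoc, MulAut.mul_apply, MulAut.mul_apply, show (x : MulAut V) (a v) = a v from x.2.2,
      ← MulAut.mul_apply, inv_mul_cancel, MulAut.one_apply]

variable [Finite V]

instance finite_mulAut : Finite (MulAut V) :=
  Finite.of_injective (fun f => (f : V → V)) DFunLike.coe_injective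

/-- A commutative normal subgroup acts freely. -/
theorem LinHyp.free_of_comm (hA : LinHyp A p) {L : Subgroup (MulAut V)}
    (hn : ∀ a ∈ A, ∀ x ∈ L, a * x * a⁻¹ ∈ L) (hc : ∀ x ∈ L, ∀ y ∈ L, x * y = y * x) {x : MulAut V}
    (hx : x ∈ L) {v : V} (hv : v ≠ 1) (hxv : x v = v) : x = 1 := by
  have hall : ∀ v w : V, v ≠ 1 → w ≠ 1 → stabIn L v = stabIn L w := by
    intro v w hv hw
    by_cases hvw : v = w
    · rw [hvw]
    have hs : v * w ≠ 1 := fun e => hvw (by
      calc v = v * (w * w) := by rw [hA.sq, mul_one]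
        _ = w := by rw [← mul_assoc, e, one_mul])
    -- either `stab v ≤ stab w` or the stabilisers of `w` and `v * w` agree
    by_cases hle : stabIn L v ≤ stabIn L w
    · exact eq_of_le_of_card_ge hle (hA.card_stabIn_eq hn hw hv).le
    obtain ⟨b, hb, hbw⟩ := SetLike.not_le_iff_exists.1 hle
    obtain ⟨hbL, hbv⟩ := mem_stabIn.1 hb
    have hz : b w * w ≠ 1 := fun e => hbw (mem_stabIn.2 ⟨hbL, by
      calc b w = b w * (w * w) := by rw [hA.sq, mul_one]
        _ = w := by rw [← mul_assoc, e, one_mul]⟩)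
    have h1 : ∀ u : V, b u * u = b w * w → stabIn L u ≤ stabIn L (b w * w) := by
      intro u hu c hc'
      obtain ⟨hcL, hcu⟩ := mem_stabIn.1 hc'
      refine mem_stabIn.2 ⟨hcL, ?_⟩
      rw [← hu, map_mul, hcu, ← MulAut.mul_apply, hc c hcL b hbL, MulAut.mul_apply, hcu]
    have h2 : b (v * w) * (v * w) = b w * w := by
      rw [map_mul, hbv, mul_mul_mul_comm, hA.sq, one_mul]
    have e1 := eq_of_le_of_card_ge (h1 w rfl) (hA.card_stabIn_eq hn hz hw).le
    have e2 := eq_of_le_of_card_ge (h1 (v * w) h2) (hA.card_stabIn_eq hn hz hs).le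
    refine (eq_of_le_of_card_ge (fun c hcw => ?_) (hA.card_stabIn_eq hn hv hw).le).symm
    have hcs : c ∈ stabIn L (v * w) := e2.trans e1.symm ▸ hcw
    refine mem_stabIn.2 ⟨(mem_stabIn.1 hcw).1, ?_⟩
    have h3 := (mem_stabIn.1 hcs).2
    rw [map_mul, (mem_stabIn.1 hcw).2] at h3
    exact mul_right_cancel h3
  ext w
  rw [MulAut.one_apply]
  by_cases hw : w = 1
  · rw [hw, map_one]
  · exact (mem_stabIn.1 (hall v w hv hw ▸ mem_stabIn.2 ⟨hx, hxv⟩)).2

theorem LinHyp.pow_p_of_mem_pGroup (hA : LinHyp A p) {Q : Subgroup (MulAut V)} (hQA : Q ≤ A)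
    (hQ : IsPGroup p Q) {x : MulAut V} (hx : x ∈ Q) : x ^ p = 1 := by
  haveI := Fact.mk hA.prime
  obtain ⟨k, hk⟩ := (IsPGroup.iff_orderOf.1 hQ) ⟨x, hx⟩
  rw [← Subgroup.orderOf_coe] at hk
  rcases k.eq_zero_or_pos with rfl | hk0
  · rw [show x = 1 from orderOf_eq_one_iff.1 (by simpa using hk), one_pow]
  · rw [← hA.ordp x (hQA hx) (hk ▸ dvd_pow_self p (by omega))]
    exact pow_orderOf_eq_one x

/-- A free commutative group of exponent `r` is cyclic. -/
theorem mem_zpowers_of_free {r : ℕ} (hr : r.Prime) (hr2 : r ≠ 2) (hV : ∀ v : V, v * v = 1)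
    [Nontrivial V] {L : Subgroup (MulAut V)} (hc : ∀ x ∈ L, ∀ y ∈ L, x * y = y * x)
    (he : ∀ x ∈ L, x ^ r = 1) (hf : ∀ x ∈ L, ∀ v : V, v ≠ 1 → x v = v → x = 1)
    {a b : MulAut V} (ha : a ∈ L) (hb : b ∈ L) (hb1 : b ≠ 1) : a ∈ zpowers b := by
  by_contra hab
  have hfree : ∀ x ∈ L, x ≠ 1 → IsFree x := fun x hx hx1 v hv => by
    by_contra h
    exact hx1 (hf x hx v h hv)
  refine false_of_free_pair hr hr2 hV (show Commute a b from hc a ha b hb) (he a ha) (he b hb)
    (hfree b hb hb1) fun i => hfree _ (L.mul_mem ha (pow_mem hb i)) fun e => hab ?_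
  rw [eq_inv_of_mul_eq_one_left e]
  exact inv_mem (pow_mem (mem_zpowers b) i)

theorem card_eq_of_forall_mem_zpowers {H : Type*} [Group H] [Finite H] {r : ℕ} (hr : r.Prime)
    {L : Subgroup H} {b : H} (hb : b ∈ L) (hb1 : b ≠ 1) (hbr : b ^ r = 1)
    (h : ∀ a ∈ L, a ∈ zpowers b) : Nat.card L = r ∧ L = zpowers b := by
  haveI := Fact.mk hr
  have e : L = zpowers b := le_antisymm h (zpowers_le.2 hb)
  exact ⟨by rw [e, Nat.card_zpowers, orderOf_eq_prime hbr hb1], e⟩

theorem not_three_sq {p a c q : ℕ} (hp : 3 ≤ p) (ha : 1 ≤ a) (hc : 2 * a ≤ c)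
    (hq : p ^ (c - a) + 1 ≤ q) :
    p ^ (c + 1) < (1 + q + q * q) * (p ^ a - 1) + p := by
  obtain ⟨d, rfl⟩ : ∃ d, c = a + d := ⟨c - a, by omega⟩
  rw [Nat.add_sub_cancel_left] at hq
  have hda : a ≤ d := by omega
  have hw : p ≤ p ^ d := Nat.le_self_pow (by omega) p
  have hh : p ≤ p ^ a := Nat.le_self_pow (by omega) p
  have hle : p ^ a ≤ p ^ d := Nat.pow_le_pow_right (by omega) hda
  obtain ⟨h', hh'⟩ : ∃ h', p ^ a = h' + 1 := ⟨p ^ a - 1, by omega⟩
  rw [show a + d + 1 = 1 + d + a by omega, pow_add, pow_add, pow_one, hh', Nat.add_sub_cancel]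
  rw [hh'] at hh hle
  have hq2 := Nat.mul_le_mul hq hq
  rcases Nat.lt_or_ge d 2 with hd | hd
  · obtain rfl : d = 1 := by omega
    obtain rfl : a = 1 := by omega
    rw [pow_one] at hh' hq hq2 ⊢
    have h3 := Nat.mul_le_mul_right h' (show 1 + (p + 1) + (p + 1) * (p + 1) ≤ 1 + q + q * q by omega)
    nlinarith
  · have hw2 : p * p ≤ p ^ d := by rw [← pow_two]; exact Nat.pow_le_pow_right (by omega) hd
    generalize p ^ d = w at *
    have h1 : 1 ≤ h' := by omega
    have h2 : 2 * p + 1 ≤ w := by nlinarith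
    have h3 := Nat.mul_le_mul_right h' (show (w + 1) * (w + 1) ≤ 1 + q + q * q by omega)
    have h4 := Nat.mul_le_mul_right (w * h') h2
    have h5 : p * w ≤ p * w * h' := Nat.le_mul_of_pos_right _ h1
    nlinarith

/-- A normal `p`-subgroup of class two with centre of order `p` acts freely. -/
theorem LinHyp.false_classTwo (hA : LinHyp A p) [Nontrivial V] {Q : Subgroup (MulAut V)}
    (hQA : Q ≤ A) (hQ : IsPGroup p Q) (hn : ∀ a ∈ A, ∀ x ∈ Q, a * x * a⁻¹ ∈ Q)
    {z : MulAut V} (hz : z ∈ Q) (hz1 : z ≠ 1)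
    (hzc : ∀ x ∈ Q, x * z = z * x) (hcomm : ∀ x ∈ Q, ∀ y ∈ Q, x * y * x⁻¹ * y⁻¹ ∈ zpowers z)
    (hcent : ∀ x ∈ Q, (∀ y ∈ Q, x * y = y * x) → x ∈ zpowers z)
    (hzf : ∀ x ∈ zpowers z, ∀ v : V, v ≠ 1 → x v = v → x = 1)
    {φ : MulAut V} (hφ : φ ∈ Q) (hφ1 : φ ≠ 1) {v₀ : V} (hv₀ : v₀ ≠ 1) (hφv : φ v₀ = v₀) :
    False := by
  classical
  haveI := Fact.mk hA.prime
  have hp2 := hA.prime.two_le
  have hp3 : 3 ≤ p := by have := hA.ne_two; omega
  have hzp : z ^ p = 1 := hA.pow_p_of_mem_pGroup hQA hQ hz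
  have hzQ : zpowers z ≤ Q := zpowers_le.2 hz
  have hzo : orderOf z = p := orderOf_eq_prime hzp hz1
  have hZcard : Nat.card (zpowers z) = p := by rw [Nat.card_zpowers, hzo]
  obtain ⟨e, he⟩ := IsPGroup.iff_card.1 hQ
  -- stabilisers
  set B := stabIn Q v₀ with hB
  have hBQ : B ≤ Q := inf_le_left
  have hstab : ∀ v : V, v ≠ 1 → Nat.card (stabIn Q v) = Nat.card B := fun v hv =>
    hA.card_stabIn_eq hn hv hv₀
  obtain ⟨a, ha⟩ := IsPGroup.iff_card.1 (hQ.to_le hBQ)
  have ha0 : 1 ≤ a := by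
    rcases Nat.eq_zero_or_pos a with rfl | h
    · have := Subgroup.eq_bot_of_card_eq B (by simpa using ha)
      exact absurd (Subgroup.mem_bot.1 (this ▸ (mem_stabIn.2 ⟨hφ, hφv⟩ : φ ∈ B))) hφ1
    · exact h
  have hBz : ∀ x ∈ B, x ∈ zpowers z → x = 1 := fun x hx hxz => hzf x hxz v₀ hv₀ (mem_stabIn.1 hx).2
  have hBc : ∀ x ∈ B, ∀ y ∈ B, x * y = y * x := fun x hx y hy => by
    have := hBz _ (B.mul_mem (B.mul_mem (B.mul_mem hx hy) (inv_mem hx)) (inv_mem hy))
      (hcomm x (hBQ hx) y (hBQ hy))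
    rwa [mul_inv_eq_one, mul_inv_eq_iff_eq_mul] at this
  -- `a + 2 ≤ e`
  let BZ : B × zpowers z → Q := fun x => ⟨(x.1 : MulAut V) * x.2, Q.mul_mem (hBQ x.1.2) (hzQ x.2.2)⟩
  have hBZ : Function.Injective BZ := by
    rintro ⟨x, y⟩ ⟨x', y'⟩ e1
    have e2 : (x : MulAut V) * y = x' * y' := congrArg Subtype.val e1
    have e3 : (x' : MulAut V)⁻¹ * x = y' * (y : MulAut V)⁻¹ := by
      rw [inv_mul_eq_iff_eq_mul, ← mul_assoc, ← e2, mul_inv_cancel_right]
    have e4 := hBz _ (B.mul_mem (inv_mem x'.2) x.2)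
      (e3 ▸ mul_mem y'.2 (inv_mem y.2))
    have e5 : (x' : MulAut V) = x := inv_mul_eq_one.1 e4
    exact Prod.ext (Subtype.ext e5.symm) (Subtype.ext (by rw [e5] at e2; exact mul_left_cancel e2))
  have hae : a + 1 < e := by
    have h1 := Nat.card_le_card_of_injective BZ hBZ
    rw [Nat.card_prod, ha, hZcard, he, ← pow_succ] at h1
    rcases Nat.lt_or_eq_of_le ((Nat.pow_le_pow_iff_right hp2).1 h1) with h | h
    · exact h
    · exfalso
      have hsurj := (Function.Injective.bijective_of_nat_card_le hBZ (by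
        rw [Nat.card_prod, ha, hZcard, he, ← h, pow_succ])).2
      refine hφ1 (hBz φ (mem_stabIn.2 ⟨hφ, hφv⟩) (hcent φ hφ fun y hy => ?_))
      obtain ⟨⟨x, w⟩, e1⟩ := hsurj ⟨y, hy⟩
      have e2 : (x : MulAut V) * w = y := congrArg Subtype.val e1
      rw [← e2, ← mul_assoc,
        hBc φ (mem_stabIn.2 ⟨hφ, hφv⟩) x x.2, mul_assoc, mul_assoc]
      congr 1
      obtain ⟨i, hi⟩ := mem_zpowers_iff.1 w.2
      rw [← hi]
      exact (Commute.zpow_right (show Commute φ z from hzc φ hφ) i).eq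
  -- centralisers of noncentral elements
  have hcb : ∀ b ∈ Q, b ∉ zpowers z → ∀ i : ℕ, ∃ y ∈ Q, y * b * y⁻¹ = b * z ^ i := by
    intro b hb hbz i
    obtain ⟨y, hy, hyb⟩ : ∃ y ∈ Q, y * b * y⁻¹ * b⁻¹ ≠ 1 := by
      by_contra hc
      push Not at hc
      refine hbz (hcent b hb fun y hy => ?_)
      have := hc y hy
      rw [mul_inv_eq_one, mul_inv_eq_iff_eq_mul] at this
      exact this.symm
    set c := y * b * y⁻¹ * b⁻¹ with hc
    have hcz : c ∈ zpowers z := hcomm y hy b hb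
    have hcco : ∀ x ∈ Q, x * c = c * x := fun x hx => by
      obtain ⟨j, hj⟩ := mem_zpowers_iff.1 hcz
      rw [← hj]; exact (Commute.zpow_right (show Commute x z from hzc x hx) j).eq
    have hk : ∀ k : ℕ, y ^ k * b * (y ^ k)⁻¹ = c ^ k * b := fun k => by
      induction k with
      | zero => simp
      | succ k ih =>
        calc y ^ (k + 1) * b * (y ^ (k + 1))⁻¹ = y * (y ^ k * b * (y ^ k)⁻¹) * y⁻¹ := by
              rw [pow_succ']; group
          _ = y * c ^ k * b * y⁻¹ := by rw [ih]; group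
          _ = c ^ k * (y * b * y⁻¹) := by
              rw [((show Commute y c from hcco y hy).pow_right k).eq]; group
          _ = c ^ (k + 1) * b := by rw [pow_succ, hc]; group
    have hzc' : z ∈ zpowers c := by
      have hcp : c ^ p = 1 := by
        obtain ⟨j, hj⟩ := mem_zpowers_iff.1 hcz
        rw [← hj, ← zpow_natCast, ← zpow_mul, mul_comm, zpow_mul, zpow_natCast, hzp, one_zpow]
      have : zpowers c = zpowers z := eq_of_le_of_card_ge (zpowers_le.2 hcz) (by
        rw [hZcard, Nat.card_zpowers, orderOf_eq_prime hcp hyb])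
      exact this ▸ mem_zpowers z
    obtain ⟨k, hk'⟩ := (IsOfFinOrder.mem_powers_iff_mem_zpowers (isOfFinOrder_of_finite c)).2
      (pow_mem hzc' i)
    refine ⟨y ^ k, pow_mem hy k, ?_⟩
    rw [hk, show c ^ k = z ^ i from hk']
    exact ((show Commute b z from hzc b hb).pow_right i).eq.symm
  -- fixed points
  have hzfree : ∀ i : ℕ, ¬ p ∣ i → IsFree (z ^ i) := fun i hi v hv => by
    by_contra h
    exact hi (hzo ▸ orderOf_dvd_of_pow_eq_one (hzf _ (pow_mem (mem_zpowers z) i) v h hv))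
  have hfix : ∀ b ∈ Q, b ∉ zpowers z → Nat.card V = Nat.card (fixSub b) ^ p := by
    intro b hb hbz
    rw [card_eq_prod hA.prime hA.ne_two hA.sq (show Commute b z from hzc b hb)
      (hA.pow_p_of_mem_pGroup hQA hQ hb) hzp hzfree,
      Finset.prod_congr rfl fun (i : Fin p) _ => (?_ : _ = Nat.card (fixSub b))]
    · simp
    · obtain ⟨y, -, hyb⟩ := hcb b hb hbz i
      rw [← hyb]
      refine Nat.card_congr
        { toFun := fun v => ⟨y⁻¹ (v : V), ?_⟩
          invFun := fun v => ⟨y (v : V), ?_⟩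
          left_inv := fun v => Subtype.ext (MulAut.apply_inv_self _ y (v : V))
          right_inv := fun v => Subtype.ext (MulAut.inv_apply_self _ y (v : V)) }
      · have h1 : y (b (y⁻¹ (v : V))) = v := mem_fixSub.1 v.2
        have h2 := congrArg (y⁻¹ : MulAut V) h1
        rwa [MulAut.inv_apply_self] at h2
      · show y (b (y⁻¹ (y (v : V)))) = y (v : V)
        rw [MulAut.inv_apply_self, mem_fixSub.1 v.2]
  have hφz : φ ∉ zpowers z := fun h => hφ1 (hzf φ h v₀ hv₀ hφv)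
  set q := Nat.card (fixSub φ) with hq
  have hqall : ∀ b ∈ Q, b ∉ zpowers z → Nat.card (fixSub b) = q := fun b hb hbz =>
    Nat.pow_left_injective hA.prime.ne_zero ((hfix b hb hbz).symm.trans (hfix φ hφ hφz))
  have hq2 : 2 ≤ q := (Subgroup.one_lt_card_iff_ne_bot _).2 fun e1 =>
    hv₀ (Subgroup.mem_bot.1 (e1 ▸ (mem_fixSub.2 hφv)))
  -- counting
  letI := Fintype.ofFinite V
  letI := Fintype.ofFinite (MulAut V)
  set sQ : Finset (MulAut V) := Finset.univ.filter fun x => x ∈ Q ∧ x ≠ 1 with hsQ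
  set sV : Finset V := Finset.univ.erase 1 with hsV
  have hsVc : sV.card + 1 = q ^ p := by
    rw [hsV, Finset.card_erase_add_one (Finset.mem_univ 1), Finset.card_univ,
      ← Nat.card_eq_fintype_card, hfix φ hφ hφz]
  have hrow : ∀ x : MulAut V, (sV.filter fun v => x v = v).card + 1 = Nat.card (fixSub x) := by
    intro x
    rw [hsV, Finset.filter_erase, Finset.card_erase_add_one (by simp)]
    exact (Nat.card_eq_fintype_card.trans (Fintype.card_subtype _)).symm
  have hcol : ∀ v ∈ sV, (sQ.filter fun x => x v = v).card + 1 = p ^ a := by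
    intro v hv
    rw [hsQ, Finset.filter_filter, ← ha, ← hstab v (Finset.ne_of_mem_erase hv)]
    have h1 : (Finset.univ.filter fun x : MulAut V => (x ∈ Q ∧ x ≠ 1) ∧ x v = v) =
        (Finset.univ.filter fun x : MulAut V => x ∈ stabIn Q v).erase 1 := by
      ext x; simp [mem_stabIn]; tauto
    rw [h1, Finset.card_erase_add_one (by simp [mem_stabIn])]
    exact (Nat.card_eq_fintype_card.trans (Fintype.card_subtype _)).symm
  have hsum := Finset.sum_card_bipartiteAbove_eq_sum_card_bipartiteBelow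
    (s := sQ) (t := sV) (fun (x : MulAut V) v => x v = v)
  have hL : ∑ x ∈ sQ, (sV.filter fun v => x v = v).card = (p ^ e - p) * (q - 1) := by
    rw [← Finset.sum_filter_add_sum_filter_not sQ (fun x => x ∈ zpowers z),
      Finset.sum_eq_zero, zero_add, Finset.sum_congr rfl (g := fun _ => q - 1), Finset.sum_const,
      smul_eq_mul]
    · congr 1
      have h1 : (Finset.univ.filter fun x : MulAut V => x ∈ Q).card = p ^ e := by
        rw [← he]; exact (Nat.card_eq_fintype_card.trans (Fintype.card_subtype _)).symm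
      have h2 : (Finset.univ.filter fun x : MulAut V => x ∈ zpowers z).card = p := by
        refine Eq.trans ?_ hZcard
        exact (Nat.card_eq_fintype_card.trans (Fintype.card_subtype _)).symm
      rw [← h1]
      conv_rhs => arg 2; rw [← h2]
      rw [← Finset.card_sdiff_of_subset (fun x hx => by
        simp only [Finset.mem_filter, Finset.mem_univ, true_and] at hx ⊢
        exact hzQ hx)]
      congr 1
      ext x
      simp only [hsQ, Finset.mem_filter, Finset.mem_univ, true_and, Finset.mem_sdiff]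
      exact ⟨fun h => ⟨h.1.1, h.2⟩, fun h => ⟨⟨h.1, fun e1 => h.2 (e1 ▸ one_mem _)⟩, h.2⟩⟩
    · intro x hx
      simp only [hsQ, Finset.mem_filter, Finset.mem_univ, true_and] at hx
      have := hrow x
      rw [hqall x hx.1.1 hx.2] at this
      omega
    · intro x hx
      simp only [hsQ, Finset.mem_filter, Finset.mem_univ, true_and] at hx
      refine Finset.card_eq_zero.2 (Finset.filter_eq_empty_iff.2 fun v hv hxv => hx.1.2 ?_)
      exact hzf x hx.2 v (Finset.ne_of_mem_erase hv) hxv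
  have hR : ∑ v ∈ sV, (sQ.filter fun x => x v = v).card = sV.card * (p ^ a - 1) := by
    rw [Finset.sum_congr rfl (g := fun _ => p ^ a - 1), Finset.sum_const, smul_eq_mul]
    intro v hv
    have := hcol v hv
    omega
  have hmain : sV.card * (p ^ a - 1) = (p ^ e - p) * (q - 1) := by
    rw [← hR, ← hL]; exact hsum.symm
  set S := ∑ i ∈ Finset.range p, q ^ i with hS
  have hgeom : S * (q - 1) + 1 = q ^ p := by
    have := geom_sum_mul_add (q - 1) p
    rwa [Nat.sub_add_cancel (by omega : 1 ≤ q)] at this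
  have hSc : S * (p ^ a - 1) = p ^ e - p := by
    refine Nat.eq_of_mul_eq_mul_right (show 0 < q - 1 by omega) ?_
    rw [← hmain, mul_right_comm, show S * (q - 1) = sV.card by omega]
  obtain ⟨c, rfl⟩ : ∃ c, e = c + 1 := ⟨e - 1, by omega⟩
  -- `a ∣ c`
  have hpc : p ^ (c + 1) - p = p * (p ^ c - 1) := by
    rw [Nat.mul_sub, mul_one, pow_succ']
  have hdiv : a ∣ c := by
    have h1 : p ^ a - 1 ∣ p ^ c - 1 := by
      refine Nat.Coprime.dvd_of_dvd_mul_left ?_ (hpc ▸ hSc ▸ dvd_mul_left _ _)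
      refine (Nat.Prime.coprime_iff_not_dvd hA.prime).2 (fun hd => ?_) |>.symm
      have h2 : p ∣ p ^ a := dvd_pow_self p (by omega)
      have h3 : p ^ a - (p ^ a - 1) = 1 := by have := Nat.one_le_pow a p (by omega); omega
      exact hA.prime.not_dvd_one (h3 ▸ Nat.dvd_sub h2 hd)
    have h4 := Nat.gcd_eq_left h1
    rw [Nat.pow_sub_one_gcd_pow_sub_one] at h4
    have h5 : Nat.gcd a c = a := Nat.pow_right_injective hp2 (by
      have := Nat.one_le_pow a p (by omega)
      have := Nat.one_le_pow (Nat.gcd a c) p (by omega)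
      show p ^ Nat.gcd a c = p ^ a
      omega)
    exact h5 ▸ Nat.gcd_dvd_right a c
  have h2a : 2 * a ≤ c := by
    obtain ⟨k, rfl⟩ := hdiv
    rcases Nat.lt_or_ge k 2 with hk | hk
    · interval_cases k <;> omega
    · rw [mul_comm]; exact Nat.mul_le_mul_left a hk
  -- an orbit of the centraliser of `φ`
  let K : Q →* zpowers z := MonoidHom.mk'
    (fun y => ⟨(y : MulAut V) * φ * (y : MulAut V)⁻¹ * φ⁻¹, hcomm y y.2 φ hφ⟩) fun x y => Subtype.ext (by
      show ((x : MulAut V) * y) * φ * ((x : MulAut V) * y)⁻¹ * φ⁻¹ =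
        (x : MulAut V) * φ * (x : MulAut V)⁻¹ * φ⁻¹ * ((y : MulAut V) * φ * (y : MulAut V)⁻¹ * φ⁻¹)
      obtain ⟨j, hj⟩ := mem_zpowers_iff.1 (hcomm y y.2 φ hφ)
      have hc : ∀ w ∈ Q, w * z ^ j = z ^ j * w := fun w hw =>
        (Commute.zpow_right (show Commute w z from hzc w hw) j).eq
      rw [← hj]
      calc ((x : MulAut V) * y) * φ * ((x : MulAut V) * y)⁻¹ * φ⁻¹
          = (x : MulAut V) * ((y : MulAut V) * φ * (y : MulAut V)⁻¹ * φ⁻¹) * φ *
              (x : MulAut V)⁻¹ * φ⁻¹ := by group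
        _ = z ^ j * ((x : MulAut V) * φ * (x : MulAut V)⁻¹ * φ⁻¹) := by rw [← hj, hc x x.2]; group
        _ = _ := (hc _ (Q.mul_mem (Q.mul_mem (Q.mul_mem x.2 hφ) (inv_mem x.2)) (inv_mem hφ))).symm)
  have hKsurj : Function.Surjective K := by
    rintro ⟨w, hw⟩
    obtain ⟨i, hi⟩ := (IsOfFinOrder.mem_powers_iff_mem_zpowers (isOfFinOrder_of_finite z)).2 hw
    obtain ⟨y, hy, hyb⟩ := hcb φ hφ hφz i
    refine ⟨⟨y, hy⟩, Subtype.ext ?_⟩
    show y * φ * y⁻¹ * φ⁻¹ = w
    rw [hyb, show z ^ i = w from hi]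
    obtain ⟨j, rfl⟩ := mem_zpowers_iff.1 hw
    rw [(Commute.zpow_right (show Commute φ z from hzc φ hφ) j).eq, mul_inv_cancel_right]
  have hker : Nat.card K.ker * p = p ^ (c + 1) := by
    rw [← he, card_eq_card_quotient_mul_card_subgroup K.ker,
      Nat.card_congr (QuotientGroup.quotientKerEquivOfSurjective K hKsurj).toEquiv, hZcard, mul_comm]
  set C : Subgroup (MulAut V) := K.ker.map Q.subtype with hC
  have hCc : Nat.card C = p ^ c := by
    rw [hC, card_map_of_injective Q.subtype_injective]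
    exact Nat.eq_of_mul_eq_mul_right hA.prime.pos (hker.trans (pow_succ p c))
  have hCφ : ∀ x ∈ C, x * φ = φ * x := by
    rintro _ ⟨y, hy, rfl⟩
    have h1 : (y : MulAut V) * φ * (y : MulAut V)⁻¹ * φ⁻¹ = 1 := congrArg Subtype.val hy
    exact mul_inv_eq_iff_eq_mul.1 (mul_inv_eq_one.1 h1)
  have horb : p ^ c ≤ (q - 1) * p ^ a := by
    rw [← hCc, ← Nat.card_congr (MulAction.orbitProdStabilizerEquivGroup C v₀), Nat.card_prod]
    refine Nat.mul_le_mul ?_ ?_
    · rw [Nat.card_coe_set_eq]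
      have h1 : MulAction.orbit C v₀ ⊆ (fixSub φ : Set V) \ {1} := by
        rintro _ ⟨x, rfl⟩
        refine ⟨?_, fun e1 => hv₀ ?_⟩
        · show φ ((x : MulAut V) v₀) = (x : MulAut V) v₀
          rw [← MulAut.mul_apply, ← hCφ x x.2, MulAut.mul_apply, hφv]
        · exact (map_eq_one_iff _ (x : MulAut V).injective).1 (Set.mem_singleton_iff.1 e1)
      refine (Set.ncard_le_ncard h1 (Set.toFinite _)).trans ?_
      rw [Set.ncard_diff_singleton_of_mem (one_mem _), ← Nat.card_coe_set_eq]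
      rfl
    · rw [← ha]
      refine Nat.card_le_card_of_injective
        (fun x => (⟨((x : C) : MulAut V), ?_⟩ : B)) (fun x y h1 => ?_)
      · exact mem_stabIn.2 ⟨map_subtype_le _ (x : C).2, x.2⟩
      · exact Subtype.ext (Subtype.ext (congrArg Subtype.val h1 :))
  have hqb : p ^ (c - a) + 1 ≤ q := by
    rw [show p ^ c = p ^ (c - a) * p ^ a by rw [← pow_add, Nat.sub_add_cancel (by omega)]] at horb
    have := Nat.le_of_mul_le_mul_right horb (pow_pos hA.prime.pos a)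
    omega
  have hlt := not_three_sq hp3 ha0 h2a hqb
  have hS3 : 1 + q + q * q ≤ S := by
    refine le_trans (le_of_eq ?_) (Finset.sum_le_sum_of_subset
      (f := fun i => q ^ i) (Finset.range_mono hp3 : Finset.range 3 ⊆ Finset.range p))
    simp [Finset.sum_range_succ, pow_two]
  have := Nat.mul_le_mul_right (p ^ a - 1) hS3
  have h6 : p ≤ p ^ (c + 1) := Nat.le_self_pow (by omega) p
  omega

/-- A normal `p`-subgroup acts freely. -/
theorem LinHyp.free_of_pGroup (hA : LinHyp A p) [Nontrivial V] {Q : Subgroup (MulAut V)}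
    (hQA : Q ≤ A) (hQ : IsPGroup p Q) (hn : ∀ a ∈ A, ∀ x ∈ Q, a * x * a⁻¹ ∈ Q)
    {φ : MulAut V} (hφ : φ ∈ Q) {v : V} (hv : v ≠ 1) (hφv : φ v = v) : φ = 1 := by
  classical
  haveI := Fact.mk hA.prime
  by_contra hφ1
  have hexp : ∀ x ∈ Q, x ^ p = 1 := fun x hx => hA.pow_p_of_mem_pGroup hQA hQ hx
  have hfreeA : ∀ {L : Subgroup (MulAut V)}, L ≤ Q → (∀ a ∈ A, ∀ x ∈ L, a * x * a⁻¹ ∈ L) →
      (∀ x ∈ L, ∀ y ∈ L, x * y = y * x) →
      ∀ x ∈ L, ∀ w : V, w ≠ 1 → x w = w → x = 1 :=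
    fun _ hn' hc x hx w hw hxw => hA.free_of_comm hn' hc hx hw hxw
  haveI : Nontrivial Q := ⟨⟨⟨φ, hφ⟩, 1, fun e => hφ1 (congrArg Subtype.val e)⟩⟩
  have hcen := hQ.center_nontrivial
  obtain ⟨⟨⟨z, hz⟩, hzc⟩, hz1⟩ := exists_ne (1 : Subgroup.center Q)
  have hz1' : z ≠ 1 := fun e => hz1 (Subtype.ext (Subtype.ext e))
  -- the centre
  set Z : Subgroup (MulAut V) := (Subgroup.center Q).map Q.subtype with hZ
  have hmemZ : ∀ x, x ∈ Z ↔ x ∈ Q ∧ ∀ y ∈ Q, x * y = y * x := by
    intro x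
    constructor
    · rintro ⟨w, hw, rfl⟩
      exact ⟨w.2, fun y hy => congrArg Subtype.val ((Subgroup.mem_center_iff.1 hw) ⟨y, hy⟩).symm⟩
    · rintro ⟨hx, hxy⟩
      exact ⟨⟨x, hx⟩, Subgroup.mem_center_iff.2 fun y => Subtype.ext (hxy y y.2).symm, rfl⟩
  have hzZ : z ∈ Z := ⟨⟨z, hz⟩, hzc, rfl⟩
  have hZn : ∀ a ∈ A, ∀ x ∈ Z, a * x * a⁻¹ ∈ Z := by
    intro a ha x hx
    rw [hmemZ] at hx ⊢
    refine ⟨hn a ha x hx.1, fun y hy => ?_⟩
    have h1 := hx.2 (a⁻¹ * y * a) (by simpa using hn a⁻¹ (inv_mem ha) y hy)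
    calc a * x * a⁻¹ * y = a * (x * (a⁻¹ * y * a)) * a⁻¹ := by group
      _ = y * (a * x * a⁻¹) := by rw [h1]; group
  have hZQ : Z ≤ Q := map_subtype_le _
  have hZc : ∀ x ∈ Z, ∀ y ∈ Z, x * y = y * x := fun x hx y hy => ((hmemZ x).1 hx).2 y (hZQ hy)
  have hZf := hfreeA hZQ hZn hZc
  have hZz : ∀ x ∈ Z, x ∈ zpowers z := fun x hx =>
    mem_zpowers_of_free hA.prime hA.ne_two hA.sq hZc (fun y hy => hexp y (hZQ hy)) hZf hx hzZ hz1'
  -- the second centre
  let Q₂ : Subgroup (MulAut V) :=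
    { carrier := {x | x ∈ Q ∧ ∀ y ∈ Q, x * y * x⁻¹ * y⁻¹ ∈ Z}
      one_mem' := ⟨Q.one_mem, fun y _ => by simp [Z.one_mem]⟩
      mul_mem' := by
        rintro x x' ⟨hx, hxy⟩ ⟨hx', hx'y⟩
        refine ⟨Q.mul_mem hx hx', fun y hy => ?_⟩
        have h1 := ((hmemZ _).1 (hx'y y hy)).2 x hx
        have e : x * x' * y * (x * x')⁻¹ * y⁻¹ =
            (x' * y * x'⁻¹ * y⁻¹) * (x * y * x⁻¹ * y⁻¹) := by
          calc x * x' * y * (x * x')⁻¹ * y⁻¹ = x * (x' * y * x'⁻¹ * y⁻¹) * y * x⁻¹ * y⁻¹ := by group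
            _ = _ := by rw [← h1]; group
        rw [e]
        exact Z.mul_mem (hx'y y hy) (hxy y hy)
      inv_mem' := by
        rintro x ⟨hx, hxy⟩
        refine ⟨Q.inv_mem hx, fun y hy => ?_⟩
        have h0 := (hmemZ _).1 (hxy y hy)
        have e : x⁻¹ * y * x⁻¹⁻¹ * y⁻¹ = (x * y * x⁻¹ * y⁻¹)⁻¹ := by
          calc x⁻¹ * y * x⁻¹⁻¹ * y⁻¹ = x⁻¹ * (x * y * x⁻¹ * y⁻¹)⁻¹ * x := by group
            _ = _ := by
              rw [((show Commute (x * y * x⁻¹ * y⁻¹) x⁻¹ from h0.2 _ (Q.inv_mem hx)).inv_left).eq.symm]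
              group
        rw [e]
        exact Z.inv_mem (hxy y hy) }
  have hQ₂Q : Q₂ ≤ Q := fun x hx => hx.1
  have hZQ₂ : Z ≤ Q₂ := fun x hx => ⟨hZQ hx, fun y hy => by
    rw [((hmemZ x).1 hx).2 y hy]; simp [Z.one_mem]⟩
  have hQ₂n : ∀ a ∈ A, ∀ x ∈ Q₂, a * x * a⁻¹ ∈ Q₂ := by
    rintro a ha x ⟨hx, hxy⟩
    refine ⟨hn a ha x hx, fun y hy => ?_⟩
    have h1 := hZn a ha _ (hxy (a⁻¹ * y * a) (by simpa using hn a⁻¹ (inv_mem ha) y hy))
    have e : a * x * a⁻¹ * y * (a * x * a⁻¹)⁻¹ * y⁻¹ =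
        a * (x * (a⁻¹ * y * a) * x⁻¹ * (a⁻¹ * y * a)⁻¹) * a⁻¹ := by group
    rw [e]; exact h1
  by_cases hb : ∃ b ∈ Q₂, b ∉ Z
  · obtain ⟨b, hb, hbZ⟩ := hb
    obtain ⟨ψ, hψ, hψ1, w, hw, hψw⟩ :
        ∃ ψ ∈ Q₂, ψ ≠ 1 ∧ ∃ w : V, w ≠ 1 ∧ ψ w = w := by
      by_contra hc
      push Not at hc
      have hfree : ∀ x ∈ Q₂, x ≠ 1 → IsFree x := fun x hx hx1 u hu => by
        by_contra h
        exact hc x hx hx1 u h hu
      refine false_of_free_pair hA.prime hA.ne_two hA.sq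
        (show Commute b z from (((hmemZ z).1 hzZ).2 b hb.1).symm) (hexp b hb.1) (hexp z hz)
        (hfree z (hZQ₂ hzZ) hz1') fun i => hfree _ (Q₂.mul_mem hb (pow_mem (hZQ₂ hzZ) i))
          fun e => hbZ ?_
      rw [eq_inv_of_mul_eq_one_left e]
      exact inv_mem (pow_mem hzZ i)
    set C₂ : Subgroup (MulAut V) := (Subgroup.center Q₂).map Q₂.subtype with hC₂
    have hmemC : ∀ x, x ∈ C₂ ↔ x ∈ Q₂ ∧ ∀ y ∈ Q₂, x * y = y * x := by
      intro x
      constructor
      · rintro ⟨u, hu, rfl⟩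
        exact ⟨u.2, fun y hy => congrArg Subtype.val ((Subgroup.mem_center_iff.1 hu) ⟨y, hy⟩).symm⟩
      · rintro ⟨hx, hxy⟩
        exact ⟨⟨x, hx⟩, Subgroup.mem_center_iff.2 fun y => Subtype.ext (hxy y y.2).symm, rfl⟩
    have hC₂n : ∀ a ∈ A, ∀ x ∈ C₂, a * x * a⁻¹ ∈ C₂ := by
      intro a ha x hx
      rw [hmemC] at hx ⊢
      refine ⟨hQ₂n a ha x hx.1, fun y hy => ?_⟩
      have h1 := hx.2 (a⁻¹ * y * a) (by simpa using hQ₂n a⁻¹ (inv_mem ha) y hy)
      calc a * x * a⁻¹ * y = a * (x * (a⁻¹ * y * a)) * a⁻¹ := by group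
        _ = y * (a * x * a⁻¹) := by rw [h1]; group
    have hC₂Q : C₂ ≤ Q := (map_subtype_le _).trans hQ₂Q
    have hC₂c : ∀ x ∈ C₂, ∀ y ∈ C₂, x * y = y * x := fun x hx y hy =>
      ((hmemC x).1 hx).2 y ((hmemC y).1 hy).1
    have hzC : z ∈ C₂ := (hmemC z).2 ⟨hZQ₂ hzZ, fun y hy => ((hmemZ z).1 hzZ).2 y hy.1⟩
    refine hA.false_classTwo (hQ₂Q.trans hQA) (hQ.to_le hQ₂Q) hQ₂n (hZQ₂ hzZ) hz1'
      (fun x hx => (((hmemZ z).1 hzZ).2 x hx.1).symm) (fun x hx y hy => hZz _ (hx.2 y hy.1))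
      (fun x hx hxy => mem_zpowers_of_free hA.prime hA.ne_two hA.sq hC₂c
        (fun y hy => hexp y (hC₂Q hy)) (hfreeA hC₂Q hC₂n hC₂c) ((hmemC x).2 ⟨hx, hxy⟩) hzC hz1')
      (fun x hx => hZf x (zpowers_le.2 hzZ hx)) hψ hψ1 hw hψw
  · -- then `Q` is abelian
    push Not at hb
    have hnil : Group.IsNilpotent Q := hQ.isNilpotent
    set ZQ := Subgroup.center Q
    have htop : ZQ = ⊤ := by
      by_contra hne
      haveI : Nontrivial (Q ⧸ ZQ) := QuotientGroup.nontrivial_iff.2 hne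
      haveI := (hQ.to_quotient ZQ).center_nontrivial
      obtain ⟨⟨w, hw⟩, hw1⟩ := exists_ne (1 : Subgroup.center (Q ⧸ ZQ))
      obtain ⟨x, rfl⟩ := QuotientGroup.mk_surjective w
      refine hw1 (Subtype.ext ((QuotientGroup.eq_one_iff x).2 ?_))
      have hxQ₂ : (x : MulAut V) ∈ Q₂ := ⟨x.2, fun y hy => by
        refine ⟨x * ⟨y, hy⟩ * x⁻¹ * (⟨y, hy⟩ : Q)⁻¹, (QuotientGroup.eq_one_iff _).1 ?_, rfl⟩
        have := Subgroup.mem_center_iff.1 hw (QuotientGroup.mk (⟨y, hy⟩ : Q))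
        rw [QuotientGroup.mk_mul, QuotientGroup.mk_mul, QuotientGroup.mk_mul, QuotientGroup.mk_inv,
          QuotientGroup.mk_inv, ← this, mul_inv_cancel_right, mul_inv_cancel]⟩
      obtain ⟨u, hu, hux⟩ := hb _ hxQ₂
      exact (Subtype.ext hux : u = x) ▸ hu
    have hQc : ∀ x ∈ Q, ∀ y ∈ Q, x * y = y * x := fun x hx y hy => by
      have h1 : (⟨x, hx⟩ : Q) ∈ ZQ := htop ▸ Subgroup.mem_top _
      exact congrArg Subtype.val (Subgroup.mem_center_iff.1 h1 ⟨y, hy⟩).symm
    exact hφ1 (hfreeA le_rfl hn hQc φ hφ v hv hφv)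

theorem exists_normal_comm {A : Type*} [Group A] [Group.IsSolvable A] [Nontrivial A] :
    ∃ L : Subgroup A, L.Normal ∧ L ≠ ⊥ ∧ ∀ x ∈ L, ∀ y ∈ L, x * y = y * x := by
  obtain ⟨n, hn⟩ := (Group.isSolvable_def A).1 inferInstance
  induction n with
  | zero =>
    exact absurd (derivedSeries_zero A ▸ hn) top_ne_bot
  | succ n ih =>
    by_cases h : derivedSeries A n = ⊥
    · exact ih h
    · refine ⟨derivedSeries A n, derivedSeries_normal A n, h, fun x hx y hy => ?_⟩
      rw [derivedSeries_succ] at hn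
      have := Subgroup.commutator_mem_commutator hx hy
      rw [hn, Subgroup.mem_bot] at this
      exact commutatorElement_eq_one_iff_mul_comm.1 this

set_option maxHeartbeats 2000000 in
/-- The structure of `A` when some nontrivial element fixes a point. -/
theorem LinHyp.structure (hA : LinHyp A p) [Nontrivial V] {φ₀ : MulAut V} (hφ₀ : φ₀ ∈ A)
    (hφ₀1 : φ₀ ≠ 1) {v₀ : V} (hv₀ : v₀ ≠ 1) (hfix₀ : φ₀ v₀ = v₀) :
    (∀ v : V, v ≠ 1 → Nat.card (stabIn A v) = p) ∧ ¬ p * p ∣ Nat.card A ∧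
    (∃ K : Subgroup (MulAut V), K ≤ A ∧ (∀ a ∈ A, ∀ x ∈ K, a * x * a⁻¹ ∈ K) ∧
      ¬ p ∣ Nat.card K ∧ Nat.card A = Nat.card K * p) ∧
    (∀ φ ∈ A, φ ≠ 1 → ∀ v w : V, v ≠ 1 → w ≠ 1 → φ v = v → φ w = w → v = w) := by
  classical
  haveI := Fact.mk hA.prime
  haveI : Group.IsSolvable A := Cfsg.Agent.S0205.result hA.odd
  haveI : Nontrivial A := ⟨⟨⟨φ₀, hφ₀⟩, 1, fun e => hφ₀1 (congrArg Subtype.val e)⟩⟩
  obtain ⟨L₀, hL₀n, hL₀1, hL₀c⟩ := exists_normal_comm (A := A)
  obtain ⟨r, hr, hrd⟩ := Nat.exists_prime_and_dvd (n := Nat.card L₀)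
    (fun e => hL₀1 (Subgroup.eq_bot_of_card_eq _ e))
  haveI := Fact.mk hr
  obtain ⟨l, hl⟩ := exists_prime_orderOf_dvd_card' (G := L₀) r hrd
  set b : MulAut V := ((l : A) : MulAut V) with hbdef
  have hb : orderOf b = r := by rw [hbdef, Subgroup.orderOf_coe, Subgroup.orderOf_coe, hl]
  have hr2 : r ≠ 2 := by
    intro e
    have h1 : r ∣ Nat.card A := hb ▸ Subgroup.orderOf_dvd_natCard A (l : A).2
    exact Nat.not_even_iff_odd.2 hA.odd (even_iff_two_dvd.2 (e ▸ h1))
  have hbA : b ∈ A := (l : A).2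
  have hb1 : b ≠ 1 := fun e => hr.ne_one (by rw [← hb, e, orderOf_one])
  -- the socle `⟨b⟩`
  let L : Subgroup (MulAut V) :=
    { carrier := {x | ∃ h : x ∈ A, (⟨x, h⟩ : A) ∈ L₀ ∧ x ^ r = 1}
      one_mem' := ⟨A.one_mem, L₀.one_mem, one_pow r⟩
      mul_mem' := by
        rintro x y ⟨hx, hx0, hx1⟩ ⟨hy, hy0, hy1⟩
        refine ⟨A.mul_mem hx hy, L₀.mul_mem hx0 hy0, ?_⟩
        have hc : Commute x y := congrArg Subtype.val (hL₀c _ hx0 _ hy0)
        rw [hc.mul_pow, hx1, hy1, one_mul]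
      inv_mem' := by
        rintro x ⟨hx, hx0, hx1⟩
        exact ⟨A.inv_mem hx, L₀.inv_mem hx0, by rw [inv_pow, hx1, inv_one]⟩ }
  have hLA : L ≤ A := fun x hx => hx.1
  have hLn : ∀ a ∈ A, ∀ x ∈ L, a * x * a⁻¹ ∈ L := by
    rintro a ha x ⟨hx, hx0, hx1⟩
    exact ⟨A.mul_mem (A.mul_mem ha hx) (A.inv_mem ha), hL₀n.conj_mem _ hx0 ⟨a, ha⟩,
      by rw [conj_pow, hx1, mul_one, mul_inv_cancel]⟩
  have hLc : ∀ x ∈ L, ∀ y ∈ L, x * y = y * x := fun x ⟨_, hx0, _⟩ y ⟨_, hy0, _⟩ =>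
    congrArg Subtype.val (hL₀c _ hx0 _ hy0)
  have hbL : b ∈ L := ⟨hbA, l.2, orderOf_dvd_iff_pow_eq_one.1 hb.dvd⟩
  have hLb : ∀ x ∈ L, x ∈ zpowers b := fun x hx =>
    mem_zpowers_of_free hr hr2 hA.sq hLc (fun y hy => hy.2.2)
      (fun y hy v hv hyv => hA.free_of_comm hLn hLc hy hv hyv) hx hbL hb1
  have hbn : ∀ a ∈ A, a * b * a⁻¹ ∈ zpowers b := fun a ha => hLb _ (hLn a ha b hbL)
  -- the centraliser of `b`
  set C : Subgroup (MulAut V) := A ⊓ centralizer {b} with hC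
  have hCord : ∀ x ∈ C, ∀ s : ℕ, s.Prime → s ∣ orderOf x → r = p → s = p := by
    intro x hx s hs hsd hrp
    by_contra hsp
    subst hrp
    haveI := Fact.mk hs
    have hy : orderOf (x ^ (orderOf x / s)) = s := orderOf_pow_orderOf_div (orderOf_pos x).ne' hsd
    have hc : Commute b (x ^ (orderOf x / s)) :=
      (show Commute b x from (mem_centralizer_singleton_iff.1 hx.2).symm).pow_right _
    have ho := hc.orderOf_mul_eq_mul_orderOf_of_coprime
      (by rw [hb, hy]; exact (Nat.coprime_primes hr hs).2 (Ne.symm hsp))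
    have h1 := hA.ordp _ (A.mul_mem hbA (pow_mem hx.1 _)) (by rw [ho, hb]; exact dvd_mul_right _ _)
    rw [ho, hb, hy] at h1
    have := Nat.eq_of_mul_eq_mul_left hr.pos (h1.trans (mul_one r).symm)
    exact hs.ne_one this
  have hCn : ∀ a ∈ A, ∀ x ∈ C, a * x * a⁻¹ ∈ C := by
    intro a ha x hx
    refine ⟨A.mul_mem (A.mul_mem ha hx.1) (A.inv_mem ha), mem_centralizer_singleton_iff.2 ?_⟩
    obtain ⟨j, hj⟩ := mem_zpowers_iff.1 (hbn a⁻¹ (inv_mem ha))
    have h1 : a⁻¹ * b * a = b ^ j := by rw [hj, inv_inv]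
    have h2 : x * b ^ j = b ^ j * x :=
      (Commute.zpow_right (show Commute x b from mem_centralizer_singleton_iff.1 hx.2) j).eq
    calc a * x * a⁻¹ * b = a * (x * (a⁻¹ * b * a)) * a⁻¹ := by group
      _ = a * ((a⁻¹ * b * a) * x) * a⁻¹ := by rw [h1, h2]
      _ = b * (a * x * a⁻¹) := by group
  -- the action on `⟨b⟩`
  let Zb : Subgroup (MulAut V) := zpowers b
  have hAN : A ≤ normalizer (Zb : Set (MulAut V)) := by
    have h1 : ∀ a ∈ A, ∀ x ∈ Zb, a * x * a⁻¹ ∈ Zb := by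
      intro a ha x hx
      obtain ⟨j, rfl⟩ := mem_zpowers_iff.1 hx
      rw [← conj_zpow]
      exact zpow_mem (hbn a ha) j
    intro a ha
    rw [mem_normalizer_iff]
    exact fun x => ⟨h1 a ha x, fun hx => by
      simpa [mul_assoc] using h1 a⁻¹ (inv_mem ha) _ hx⟩
  let χ : A →* MulAut Zb := Zb.normalizerMonoidHom.comp (inclusion hAN)
  have hχ : ∀ a : A, χ a = 1 ↔ (a : MulAut V) ∈ C := by
    intro a
    constructor
    · intro h1
      refine ⟨a.2, mem_centralizer_singleton_iff.2 ?_⟩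
      have h2 : (a : MulAut V) * b * (a : MulAut V)⁻¹ = b :=
        congrArg Subtype.val (DFunLike.congr_fun h1 (⟨b, mem_zpowers b⟩ : Zb))
      exact mul_inv_eq_iff_eq_mul.1 h2
    · intro h1
      refine MulEquiv.ext fun x => Subtype.ext ?_
      show (a : MulAut V) * x * (a : MulAut V)⁻¹ = x
      obtain ⟨j, hj⟩ := mem_zpowers_iff.1 x.2
      rw [← hj, (Commute.zpow_right (show Commute (a : MulAut V) b from
        mem_centralizer_singleton_iff.1 h1.2) j).eq, mul_inv_cancel_right]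
  haveI hZcyc : IsCyclic Zb := isCyclic_zpowers b
  let ι := (IsCyclic.mulAutMulEquiv Zb)
  have hZcard : Nat.card Zb = r := by rw [Nat.card_zpowers, hb]
  have hautcard : Nat.card (MulAut Zb) = r - 1 := by
    rw [Nat.card_congr ι.toEquiv, hZcard, Nat.card_eq_fintype_card, ZMod.card_units_eq_totient,
      Nat.totient_prime hr]
  have hautcomm : ∀ f g : MulAut Zb, f * g = g * f := fun f g =>
    ι.injective (by rw [map_mul, map_mul, mul_comm])
  by_cases hrp : r = p
  · -- impossible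
    exfalso
    have hCp : IsPGroup p C := IsPGroup.iff_card.2 ⟨_, Nat.eq_prime_pow_of_unique_prime_dvd
      Nat.card_pos.ne' fun {s} hs hsd => by
        haveI := Fact.mk hs
        obtain ⟨x, hx⟩ := exists_prime_orderOf_dvd_card' (G := C) s hsd
        rw [← Subgroup.orderOf_coe] at hx
        exact hCord x x.2 s hs hx.symm.dvd hrp⟩
    have hφC : φ₀ ∈ C := by
      refine (hχ ⟨φ₀, hφ₀⟩).1 (orderOf_eq_one_iff.1 ?_)
      have h1 : orderOf (χ ⟨φ₀, hφ₀⟩) ∣ p :=
        (orderOf_map_dvd χ _).trans (orderOf_dvd_of_pow_eq_one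
          (Subtype.ext (by simpa using hA.stab φ₀ hφ₀ v₀ hv₀ hfix₀)))
      have h2 : orderOf (χ ⟨φ₀, hφ₀⟩) ∣ r - 1 := hautcard ▸ orderOf_dvd_natCard _
      rw [hrp] at h2
      refine Nat.eq_one_of_dvd_coprimes ?_ h1 h2
      exact (Nat.Prime.coprime_iff_not_dvd hA.prime).2 fun hd => by
        have := Nat.le_of_dvd (Nat.sub_pos_of_lt hA.prime.one_lt) hd
        have := hA.prime.two_le
        omega
    exact hφ₀1 (hA.free_of_pGroup inf_le_left hCp hCn hφC hv₀ hfix₀)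
  -- `C` is prime to `p`
  have hCp' : ∀ x ∈ C, x ^ p = 1 → x = 1 := by
    intro x hx hxp
    by_contra hx1
    have hxo : orderOf x = p := orderOf_eq_prime hxp hx1
    have hc : Commute b x := (mem_centralizer_singleton_iff.1 hx.2).symm
    have ho := hc.orderOf_mul_eq_mul_orderOf_of_coprime
      (by rw [hb, hxo]; exact (Nat.coprime_primes hr hA.prime).2 hrp)
    have h1 := hA.ordp _ (A.mul_mem hbA hx.1) (by rw [ho, hxo]; exact dvd_mul_left _ _)
    rw [ho, hb, hxo] at h1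
    exact hr.ne_one (Nat.eq_of_mul_eq_mul_right hA.prime.pos (h1.trans (one_mul p).symm))
  -- the Sylow subgroups have order `p`
  haveI := Fact.mk hA.prime
  obtain ⟨P⟩ := (inferInstance : Nonempty (Sylow p A))
  have hPexp : ∀ x ∈ (P : Subgroup A), x ^ p = 1 := fun x hx => Subtype.ext (by
    simpa using hA.pow_p_of_mem_pGroup (map_subtype_le _) (P.isPGroup'.map A.subtype)
      (mem_map_of_mem A.subtype hx))
  have hχinj : ∀ x : A, x ^ p = 1 → χ x = 1 → x = 1 := fun x hx h1 =>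
    Subtype.ext (hCp' _ ((hχ x).1 h1) (by simpa using congrArg Subtype.val hx))
  have hPcard : Nat.card (P : Subgroup A) ∣ p := by
    have hinj : Function.Injective (χ.comp (P : Subgroup A).subtype) := by
      rw [← MonoidHom.ker_eq_bot_iff, Subgroup.eq_bot_iff_forall]
      intro x hx
      exact Subtype.ext (hχinj x (hPexp x x.2) hx)
    haveI : IsCyclic (MulAut Zb) := by
      haveI : IsCyclic (ZMod (Nat.card Zb))ˣ := by rw [hZcard]; infer_instance
      exact isCyclic_of_surjective ι.symm.toMonoidHom ι.symm.surjective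
    haveI : IsCyclic (P : Subgroup A) := isCyclic_of_injective _ hinj
    rw [← IsCyclic.exponent_eq_card]
    exact Monoid.exponent_dvd_of_forall_pow_eq_one fun x => Subtype.ext (hPexp x x.2)
  have hpp : ¬ p * p ∣ Nat.card A := by
    intro hd
    rw [← pow_two] at hd
    obtain ⟨H, hH⟩ := Sylow.exists_subgroup_card_pow_prime p hd
    obtain ⟨P', hP'⟩ := (IsPGroup.of_card hH).exists_le_sylow
    have h1 := Subgroup.card_dvd_of_le hP'
    rw [hH, Sylow.card_eq_multiplicity P'] at h1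
    rw [Sylow.card_eq_multiplicity P] at hPcard
    have := Nat.le_of_dvd hA.prime.pos (h1.trans hPcard)
    have := hA.prime.two_le
    rw [pow_two] at *
    nlinarith
  have hstab : ∀ v : V, v ≠ 1 → Nat.card (stabIn A v) = p := by
    intro v hv
    rw [hA.card_stabIn_eq (fun a ha x hx => A.mul_mem (A.mul_mem ha hx) (A.inv_mem ha)) hv hv₀]
    have hsp : IsPGroup p (stabIn A v₀) := fun x => ⟨1, Subtype.ext (by
      simpa using hA.stab x x.2.1 v₀ hv₀ x.2.2)⟩
    obtain ⟨k, hk⟩ := IsPGroup.iff_card.1 hsp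
    have h1 : p ^ k ∣ Nat.card A := hk ▸ Subgroup.card_dvd_of_le inf_le_left
    rw [hk]
    rcases Nat.lt_or_ge k 2 with hk2 | hk2
    · interval_cases k
      · exfalso
        have := Subgroup.eq_bot_of_card_eq _ (by simpa using hk)
        exact hφ₀1 (Subgroup.mem_bot.1 (this ▸ mem_stabIn.2 ⟨hφ₀, hfix₀⟩))
      · exact pow_one p
    · exact absurd ((by rw [← pow_two]; exact pow_dvd_pow p hk2 : p * p ∣ p ^ k).trans h1) hpp
  have hφp : (⟨φ₀, hφ₀⟩ : A) ^ p = 1 := Subtype.ext (by simpa using hA.stab φ₀ hφ₀ v₀ hv₀ hfix₀)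
  have hpA : p ∣ Nat.card A := by
    rw [← hstab v₀ hv₀]; exact Subgroup.card_dvd_of_le inf_le_left
  -- a subgroup of index `p`
  set k := Nat.card χ.range / p with hk
  have hχφ : χ ⟨φ₀, hφ₀⟩ ≠ 1 := fun e => hφ₀1 (congrArg Subtype.val (hχinj _ hφp e))
  have hordφ : orderOf (χ ⟨φ₀, hφ₀⟩) = p :=
    orderOf_eq_prime (by rw [← map_pow, hφp, map_one]) hχφ
  have hpR : p ∣ Nat.card χ.range := by
    rw [← hordφ]; exact Subgroup.orderOf_dvd_natCard _ ⟨_, rfl⟩
  have hkp : k * p = Nat.card χ.range := Nat.div_mul_cancel hpR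
  have hkcop : ¬ p ∣ k := fun hd => hpp ((Nat.mul_dvd_mul_right hd p).trans
    (hkp ▸ card_range_dvd χ))
  let η : A →* MulAut Zb := MonoidHom.mk' (fun a => χ a ^ k) fun a b => by
    rw [map_mul]; exact (show Commute (χ a) (χ b) from hautcomm _ _).mul_pow k
  have hηp : ∀ a, η a ^ p = 1 := fun a => by
    show (χ a ^ k) ^ p = 1
    rw [← pow_mul, hkp]
    exact congrArg Subtype.val (pow_card_eq_one' (x := (⟨χ a, a, rfl⟩ : χ.range)))
  haveI : IsCyclic (MulAut Zb) := by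
    haveI : IsCyclic (ZMod (Nat.card Zb))ˣ := by rw [hZcard]; infer_instance
    exact isCyclic_of_surjective ι.symm.toMonoidHom ι.symm.surjective
  have hηr : Nat.card η.range = p := by
    refine Nat.dvd_antisymm ?_ ?_
    · rw [← IsCyclic.exponent_eq_card]
      refine Monoid.exponent_dvd_of_forall_pow_eq_one ?_
      rintro ⟨_, a, rfl⟩
      exact Subtype.ext (hηp a)
    · have h1 : orderOf (η ⟨φ₀, hφ₀⟩) = p := orderOf_eq_prime (hηp _) fun e => hkcop (by
        rw [← hordφ]; exact orderOf_dvd_of_pow_eq_one e)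
      rw [← h1]
      exact Subgroup.orderOf_dvd_natCard _ ⟨_, rfl⟩
  refine ⟨hstab, hpp, ⟨η.ker.map A.subtype, map_subtype_le _, ?_, ?_, ?_⟩, ?_⟩
  · rintro a ha _ ⟨x, hx, rfl⟩
    exact ⟨(⟨a, ha⟩ : A) * x * (⟨a, ha⟩ : A)⁻¹, (MonoidHom.normal_ker η).conj_mem x hx ⟨a, ha⟩, rfl⟩
  · rw [card_map_of_injective A.subtype_injective]
    intro hd
    refine hpp ?_
    rw [card_eq_card_quotient_mul_card_subgroup η.ker,
      Nat.card_congr (QuotientGroup.quotientKerEquivRange η).toEquiv, hηr]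
    exact Nat.mul_dvd_mul_left p hd
  · rw [card_map_of_injective A.subtype_injective, card_eq_card_quotient_mul_card_subgroup η.ker,
      Nat.card_congr (QuotientGroup.quotientKerEquivRange η).toEquiv, hηr, mul_comm]
  · intro φ hφ hφ1 v w hv hw hφv hφw
    obtain ⟨a, ha, rfl⟩ := hA.trans v w hv hw
    have hφp' : φ ^ p = 1 := hA.stab φ hφ v hv hφv
    have hφo : orderOf φ = p := orderOf_eq_prime hφp' hφ1
    have hstabeq : stabIn A v = zpowers φ := (eq_of_le_of_card_ge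
      (zpowers_le.2 (mem_stabIn.2 ⟨hφ, hφv⟩)) (by rw [hstab v hv, Nat.card_zpowers, hφo])).symm
    have hψ : a⁻¹ * φ * a ∈ zpowers φ := by
      rw [← hstabeq]
      refine mem_stabIn.2 ⟨A.mul_mem (A.mul_mem (A.inv_mem ha) hφ) ha, ?_⟩
      rw [mul_assoc, MulAut.mul_apply, MulAut.mul_apply, hφw, MulAut.inv_apply_self]
    obtain ⟨j, hj⟩ := mem_zpowers_iff.1 hψ
    -- `a` centralises `φ`
    have hac : a⁻¹ * φ * a = φ := by
      set φA : A := ⟨φ, hφ⟩
      set ψA : A := ⟨a⁻¹ * φ * a, A.mul_mem (A.mul_mem (A.inv_mem ha) hφ) ha⟩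
      have h1 : χ ψA = χ φA := by
        have : ψA = (⟨a, ha⟩ : A)⁻¹ * φA * ⟨a, ha⟩ := rfl
        rw [this, map_mul, map_mul, map_inv, hautcomm, mul_inv_cancel_left]
      have h2 : ψA * φA⁻¹ = 1 := by
        refine hχinj _ ?_ (by rw [map_mul, map_inv, h1, mul_inv_cancel])
        apply Subtype.ext
        show (a⁻¹ * φ * a * φ⁻¹) ^ p = 1
        rw [← hj, ← zpow_neg_one φ, ← zpow_add, ← zpow_natCast, ← zpow_mul, mul_comm, zpow_mul,
          zpow_natCast, hφp', one_zpow]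
      exact congrArg Subtype.val (mul_inv_eq_one.1 h2)
    have hc : Commute φ a := by
      show φ * a = a * φ
      conv_rhs => rw [← hac]
      group
    have hap : a ^ p = 1 := by
      by_contra h3
      obtain ⟨s, hs, hsd⟩ := Nat.exists_prime_and_dvd
        (mt orderOf_eq_one_iff.1 (fun e : a = 1 => h3 (by rw [e, one_pow])))
      by_cases hsp : s = p
      · exact h3 (by rw [← hA.ordp a ha (hsp ▸ hsd)]; exact pow_orderOf_eq_one a)
      · have hy : orderOf (a ^ (orderOf a / s)) = s :=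
          orderOf_pow_orderOf_div (orderOf_pos a).ne' hsd
        have ho := (hc.pow_right (orderOf a / s)).orderOf_mul_eq_mul_orderOf_of_coprime
          (by rw [hφo, hy]; exact (Nat.coprime_primes hA.prime hs).2 (Ne.symm hsp))
        have h4 := hA.ordp _ (A.mul_mem hφ (pow_mem ha _)) (by rw [ho, hφo]; exact dvd_mul_right _ _)
        rw [ho, hφo, hy] at h4
        exact hs.ne_one (Nat.eq_of_mul_eq_mul_left hA.prime.pos (h4.trans (mul_one p).symm))
    -- `⟨φ, a⟩` has order at most `p`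
    set T := closure ({φ, a} : Set (MulAut V)) with hT
    have hTA : T ≤ A := (closure_le A).2 (by rintro x (rfl | rfl) <;> assumption)
    have hTc : IsMulCommutative T := Subgroup.isMulCommutative_closure (by
      rintro x (rfl | rfl) y (rfl | rfl) <;> first | rfl | exact hc.eq | exact hc.eq.symm)
    have hTp : IsPGroup p T := fun x => ⟨1, Subtype.ext (by
      rw [pow_one]
      obtain ⟨x, hx⟩ := x
      show x ^ p = 1
      induction hx using Subgroup.closure_induction with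
      | mem y hy =>
        rcases hy with rfl | rfl
        exacts [hφp', hap]
      | one => exact one_pow p
      | mul y z hy hz h1 h2 =>
        have hyz : Commute y z := congrArg Subtype.val (hTc.is_comm.comm ⟨y, hy⟩ ⟨z, hz⟩)
        rw [hyz.mul_pow, h1, h2, one_mul]
      | inv y _ h1 => rw [inv_pow, h1, inv_one])⟩
    obtain ⟨i, hi⟩ := IsPGroup.iff_card.1 hTp
    have hTeq : zpowers φ = T := by
      refine eq_of_le_of_card_ge (zpowers_le.2 (subset_closure (Or.inl rfl))) ?_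
      rw [hi, Nat.card_zpowers, hφo]
      rcases Nat.lt_or_ge i 2 with hi2 | hi2
      · exact (Nat.pow_le_pow_right hA.prime.pos (by omega : i ≤ 1)).trans (pow_one p).le
      · exact absurd (((by rw [← pow_two]; exact pow_dvd_pow p hi2 : p * p ∣ p ^ i)).trans
          (hi ▸ Subgroup.card_dvd_of_le hTA)) hpp
    have haz : a ∈ stabIn A v := hstabeq ▸ hTeq ▸ subset_closure (Or.inr rfl)
    exact (mem_stabIn.1 haz).2.symm

/-- A regular abelian group normalised by an automorphism of order three with two fixed points. -/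
theorem card_le_of_cubic (hV : ∀ v : V, v * v = 1) {K : Subgroup (MulAut V)}
    (hKc : ∀ x ∈ K, ∀ y ∈ K, x * y = y * x)
    (hreg : ∀ x ∈ K, ∀ v : V, v ≠ 1 → x v = v → x = 1) {φ : MulAut V} (hφ : φ ^ 3 = 1)
    (hφK : ∀ x ∈ K, φ * x * φ⁻¹ ∈ K) (hCK : ∀ x ∈ K, φ * x = x * φ → x = 1) {t : V} (ht : t ≠ 1)
    (hKt : ∀ v : V, v ≠ 1 → ∃ x ∈ K, x t = v) (hφt : φ t = t)
    (hfix : ∀ v : V, φ v = v → v = 1 ∨ v = t) : Nat.card V ≤ 13 := by
  classical
  letI := Fintype.ofFinite K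
  letI := Fintype.ofFinite V
  have hKm : ∀ x ∈ K, ∀ y ∈ K, ∀ v : V, x (y v) = y (x v) := fun x hx y hy v => by
    rw [← MulAut.mul_apply, hKc x hx y hy, MulAut.mul_apply]
  let g : MulAut V → MulAut V := fun k => φ * k * φ⁻¹
  have hg3 : ∀ k, g (g (g k)) = k := fun k => by
    calc g (g (g k)) = φ ^ 3 * k * (φ ^ 3)⁻¹ := by
          simp only [g, pow_succ, pow_zero, one_mul, mul_inv_rev, mul_assoc]
      _ = k := by rw [hφ, one_mul, inv_one, mul_one]
  have hφapp : ∀ k : MulAut V, φ (k t) = g k t := fun k => by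
    show φ (k t) = φ (k (φ⁻¹ t))
    conv_rhs => rw [← hφt, MulAut.inv_apply_self]
  have hprod : ∀ k ∈ K, k * g k * g (g k) = 1 := fun k hk => by
    have h1 := hφK k hk
    have h2 := hφK _ h1
    refine hCK _ (K.mul_mem (K.mul_mem hk h1) h2) (mul_inv_eq_iff_eq_mul.1 ?_)
    calc φ * (k * g k * g (g k)) * φ⁻¹ = g k * g (g k) * g (g (g k)) := by simp only [g]; group
      _ = k * g k * g (g k) := by
        rw [hg3, hKc _ (K.mul_mem h1 h2) k hk, ← mul_assoc]
  let S : MulAut V → V → V := fun k v => k v * g k v * g (g k) v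
  have hS : ∀ k ∈ K, S k t = 1 ∨ S k t = t := fun k hk => hfix _ (by
    show φ (k t * g k t * g (g k) t) = _
    rw [map_mul, map_mul, hφapp, hφapp, hφapp, hg3]
    show _ = k t * g k t * g (g k) t
    rw [mul_comm, mul_assoc])
  have hSv : ∀ k ∈ K, ∀ x ∈ K, S k (x t) = x (S k t) := fun k hk x hx => by
    show k (x t) * g k (x t) * g (g k) (x t) = x (k t * g k t * g (g k) t)
    rw [map_mul, map_mul, hKm k hk x hx, hKm _ (hφK k hk) x hx, hKm _ (hφK _ (hφK k hk)) x hx]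
  have hSeq : ∀ k ∈ K, ∀ k' ∈ K, S k t = S k' t → ∀ v, S k v = S k' v := fun k hk k' hk' he v => by
    by_cases hv : v = 1
    · simp [S, hv]
    · obtain ⟨x, hx, rfl⟩ := hKt v hv
      rw [hSv k hk x hx, hSv k' hk' x hx, he]
  -- the product of the three factors
  let T : MulAut V → MulAut V → V → V := fun k' j v => k' v * j v
  have hexp : ∀ k ∈ K, ∀ k' ∈ K, ∀ v, T k' k (T k' (g k) (T k' (g (g k)) v)) =
      k' (k' (k' v)) * k' (k' (S k v)) * k' (S k⁻¹ v) * v := by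
    intro k hk k' hk' v
    have h1 := hφK k hk
    have h2 := hφK _ h1
    have p1 : (k * g k : MulAut V) = (g (g k))⁻¹ := eq_inv_of_mul_eq_one_left (hprod k hk)
    have i1 : ∀ x, g x⁻¹ = (g x)⁻¹ := fun x => by simp only [g]; group
    have p2 : (g k * g (g k) : MulAut V) = k⁻¹ :=
      eq_inv_of_mul_eq_one_right (by rw [← mul_assoc]; exact hprod k hk)
    have p3 : (k * g (g k) : MulAut V) = (g k)⁻¹ := eq_inv_of_mul_eq_one_left (by
      rw [mul_assoc, hKc _ h2 _ h1, ← mul_assoc]; exact hprod k hk)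
    simp only [T, S, map_mul, i1]
    rw [← p1, ← p2, ← p3]
    simp only [MulAut.mul_apply]
    have hlast : k (g k (g (g k) v)) = v := by
      rw [← MulAut.mul_apply, ← MulAut.mul_apply, hprod k hk, MulAut.one_apply]
    simp only [hKm (g k) h1 k' hk', hKm k hk k' hk']
    rw [hlast]
    ac_rfl
  have hfib : ∀ k ∈ K, ∀ k' ∈ K, S k t = S k' t → S k⁻¹ t = S k'⁻¹ t →
      k' = k ∨ k' = g k ∨ k' = g (g k) := by
    intro k hk k' hk' he he'
    by_contra hne
    push Not at hne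
    have h0 : ∀ v, T k' k (T k' (g k) (T k' (g (g k)) v)) = 1 := fun v => by
      rw [hexp k hk k' hk', hSeq k hk k' hk' he, hSeq _ (inv_mem hk) _ (inv_mem hk') he',
        ← hexp k' hk' k' hk']
      exact hV _
    have hinj : ∀ j ∈ K, k' ≠ j → ∀ v : V, v ≠ 1 → T k' j v ≠ 1 := by
      intro j hj hkj v hv e
      have e1 : k' v = j v := by
        calc k' v = k' v * (j v * j v) := by rw [hV, mul_one]
          _ = j v := by rw [← mul_assoc, show k' v * j v = 1 from e, one_mul]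
      exact hkj (inv_mul_eq_one.1 (hreg _ (K.mul_mem (inv_mem hj) hk') v hv (by
        rw [MulAut.mul_apply, e1, MulAut.inv_apply_self]))).symm
    exact hinj k hk hne.1 _ (hinj _ (hφK k hk) hne.2.1 _
      (hinj _ (hφK _ (hφK k hk)) hne.2.2 t ht)) (h0 t)
  -- counting
  let f : K → Bool × Bool := fun k => (decide (S k.1 t = t), decide (S (k.1)⁻¹ t = t))
  have hcard : Fintype.card K ≤ 12 := by
    have := Finset.card_le_mul_card_image (s := (Finset.univ : Finset K)) (f := f) 3 fun y hy => ?_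
    · refine this.trans ?_
      have := Finset.card_le_univ (Finset.univ.image f)
      simp only [Fintype.card_prod, Fintype.card_bool] at this
      omega
    · obtain ⟨k, -, rfl⟩ := Finset.mem_image.1 hy
      refine (Finset.card_le_card (t := ({k, ⟨g k.1, hφK _ k.2⟩, ⟨g (g k.1), hφK _ (hφK _ k.2)⟩} :
        Finset K)) fun k' hk' => ?_).trans Finset.card_le_three
      simp only [Finset.mem_filter, f, Prod.mk.injEq, decide_eq_decide] at hk'
      have heq : ∀ x y : V, (x = 1 ∨ x = t) → (y = 1 ∨ y = t) → (y = t ↔ x = t) → x = y := by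
        intro x y hx hy hiff
        rcases hx with rfl | rfl
        · rcases hy with rfl | rfl
          · rfl
          · exact hiff.1 rfl
        · exact (hiff.2 rfl).symm
      simp only [Finset.mem_insert, Finset.mem_singleton, Subtype.ext_iff]
      exact hfib k.1 k.2 k'.1 k'.2 (heq _ _ (hS _ k.2) (hS _ k'.2) hk'.2.1)
        (heq _ _ (hS _ (inv_mem k.2)) (hS _ (inv_mem k'.2)) hk'.2.2)
  have hsurj : Fintype.card V ≤ Fintype.card (Option K) := Fintype.card_le_of_surjective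
    (fun o : Option K => o.elim 1 fun k => k.1 t) fun v => by
      by_cases hv : v = 1
      · exact ⟨none, hv.symm⟩
      · obtain ⟨x, hx, rfl⟩ := hKt v hv
        exact ⟨some ⟨x, hx⟩, rfl⟩
  rw [Fintype.card_option] at hsurj
  rw [Nat.card_eq_fintype_card]
  omega

end Cfsg.Agent.Lib.TwoPEven
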