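import Mathlib
import Cfsg.Agent.Lib.TwoPEven.Basic
import Cfsg.Agent.Lib.TwoPEven.Linear
import Cfsg.Agent.Lib.SECount.Basic
import Cfsg.Agent.Lib.CNCIT.Basic

/-!
The strongly embedded case: the linear group induced by `M = N(E)` on `E`, the two-point
stabilisers, and the case `O(C(E)) ≠ 1`.
-/

set_option autoImplicit false

namespace Cfsg.Agent.Lib.TwoPEven

open Subgroup
open Cfsg.Agent.Lib.CIT (twoPt mem_twoPt)

universe u

variable {G : Type u} [Group G] [Finite G] {p : ℕ}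

/-- The setting: `N(E)` contains the centralisers of the involutions of `E`; `X` is the odd part
of `C(E)`. -/
structure Data (G : Type u) [Group G] (p : ℕ) (E : Sylow 2 G) (X : Subgroup G) : Prop where
  hyp : Hyp G p
  simple : IsSimpleGroup G
  nonab : ¬ IsMulCommutative G
  four : 4 ≤ Nat.card (E : Subgroup G)
  cent : ∀ t ∈ (E : Subgroup G), t ≠ 1 →
    centralizer ({t} : Set G) ≤ normalizer ((E : Subgroup G) : Set G)
  X_le : X ≤ centralizer ((E : Subgroup G) : Set G)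
  X_p : IsPGroup p X
  X_mem : ∀ x ∈ centralizer ((E : Subgroup G) : Set G), x ^ p = 1 → x ∈ X
  X_dec : ∀ x ∈ centralizer ((E : Subgroup G) : Set G), ∃ a ∈ (E : Subgroup G), ∃ y ∈ X, x = a * y
  X_norm : normalizer ((E : Subgroup G) : Set G) ≤ normalizer (X : Set G)

variable {E : Sylow 2 G} {X : Subgroup G}

local notation "𝓜" => normalizer ((E : Subgroup G) : Set G)

theorem Data.sq (d : Data G p E X) {a : G} (ha : a ∈ (E : Subgroup G)) : a * a = 1 :=
  d.hyp.sylow_mul_self E ha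

theorem Data.comm (d : Data G p E X) {a b : G} (ha : a ∈ (E : Subgroup G))
    (hb : b ∈ (E : Subgroup G)) : a * b = b * a := d.hyp.sylow_comm E a ha b hb

theorem Data.order_two (d : Data G p E X) {a : G} (ha : a ∈ (E : Subgroup G)) (ha1 : a ≠ 1) :
    orderOf a = 2 :=
  orderOf_eq_prime (by rw [pow_two]; exact d.sq ha) ha1

theorem invo_mem_of_mem_normalizer {x : G} (hx : x ∈ 𝓜) (h2 : x * x = 1) : x ∈ (E : Subgroup G) :=
  mem_sylow_of_sq E hx h2

theorem Data.ne_bot (d : Data G p E X) : (E : Subgroup G) ≠ ⊥ := fun e => by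
  have := d.four
  rw [e, Subgroup.card_bot] at this
  omega

theorem Data.exists_invo (d : Data G p E X) : ∃ t ∈ (E : Subgroup G), t ≠ 1 := by
  obtain ⟨⟨t, ht⟩, ht1⟩ := (E : Subgroup G).ne_bot_iff_exists_ne_one.1 d.ne_bot
  exact ⟨t, ht, fun e => ht1 (Subtype.ext e)⟩

theorem Data.stronglyEmbedded (d : Data G p E X) : Cfsg.IsStronglyEmbedded 𝓜 := by
  haveI := Fact.mk Nat.prime_two
  haveI := d.simple
  obtain ⟨t, ht, ht1⟩ := d.exists_invo
  refine ⟨fun htop => ?_, even_iff_two_dvd.2 ?_, fun g hg => ?_⟩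
  · haveI : (E : Subgroup G).Normal := normalizer_eq_top_iff.1 htop
    rcases ‹(E : Subgroup G).Normal›.eq_bot_or_eq_top with e | e
    · exact d.ne_bot e
    · have h := E.isPGroup'
      rw [e] at h
      exact SmallGroups.not_isPGroup d.nonab (h.of_equiv Subgroup.topEquiv)
  · have h := Subgroup.orderOf_dvd_natCard _ (le_normalizer ht)
    rwa [d.order_two ht ht1] at h
  · rw [Nat.odd_iff, ← Nat.two_dvd_ne_zero]
    intro h2
    obtain ⟨⟨x, hx12⟩, hx⟩ :=
      exists_prime_orderOf_dvd_card' (G := ↥(𝓜 ⊓ (𝓜).map (MulAut.conj g).toMonoidHom)) 2 h2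
    rw [Subgroup.orderOf_mk] at hx
    obtain ⟨hx1, hx2⟩ := Subgroup.mem_inf.1 hx12
    have hxx := SECount.invo_sq hx
    have hx1' := SECount.invo_ne_one hx
    have hxE := invo_mem_of_mem_normalizer hx1 hxx
    have hyE : g⁻¹ * x * g ∈ (E : Subgroup G) :=
      invo_mem_of_mem_normalizer (SECount.mem_map_conj.1 hx2) (by
        rw [show g⁻¹ * x * g * (g⁻¹ * x * g) = g⁻¹ * (x * x) * g by group, hxx, mul_one,
          inv_mul_cancel])
    have key : ∀ e ∈ (E : Subgroup G), g * e * g⁻¹ ∈ (E : Subgroup G) := by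
      intro e he
      refine invo_mem_of_mem_normalizer (d.cent x hxE hx1' (mem_centralizer_singleton_iff.2 ?_)) ?_
      · have := d.comm he hyE
        calc g * e * g⁻¹ * x = g * (e * (g⁻¹ * x * g)) * g⁻¹ := by group
          _ = x * (g * e * g⁻¹) := by rw [this]; group
      · rw [show g * e * g⁻¹ * (g * e * g⁻¹) = g * (e * e) * g⁻¹ by group, d.sq he, mul_one,
          mul_inv_cancel]
    refine hg (Transfer.map_conj_eq_iff.1 (eq_of_le_of_card_ge ?_ ?_))
    · rintro _ ⟨e, he, rfl⟩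
      exact key e he
    · rw [card_map_of_injective (MulAut.conj g).injective]

theorem Data.mem_of_conj (d : Data G p E X) {t g : G} (ht : t ∈ (E : Subgroup G)) (ht1 : t ≠ 1)
    (hg : g * t * g⁻¹ ∈ 𝓜) : g ∈ 𝓜 :=
  SECount.mem_of_conj_mem d.stronglyEmbedded (d.order_two ht ht1) (le_normalizer ht) hg

theorem Data.trans (d : Data G p E X) {t s : G} (ht : t ∈ (E : Subgroup G)) (ht1 : t ≠ 1)
    (hs : s ∈ (E : Subgroup G)) (hs1 : s ≠ 1) : ∃ m ∈ 𝓜, m * t * m⁻¹ = s := by
  obtain ⟨u, hu, huM⟩ := SECount.exists_invo_not_mem d.stronglyEmbedded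
  obtain ⟨m, hm, e⟩ := SECount.exists_conj_mem_inf d.stronglyEmbedded hu huM (d.order_two ht ht1)
    (le_normalizer ht) (d.order_two hs hs1) (le_normalizer hs)
  exact ⟨m, hm.1, e⟩

theorem Data.exp_of_commute (d : Data G p E X) {t x : G} (ht : t ∈ (E : Subgroup G)) (ht1 : t ≠ 1)
    (hc : x * t = t * x) : x ^ (2 * p) = 1 :=
  d.hyp.cent_mem_two ht1 (d.sq ht) x (mem_centralizer_singleton_iff.2 hc)

/-- The automorphism group induced on `E`. -/
def autGrp (E : Sylow 2 G) : Subgroup (MulAut (E : Subgroup G)) :=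
  (Subgroup.normalizerMonoidHom (E : Subgroup G)).range

/-- The order of the group induced on `E`. -/
noncomputable def autCard (E : Sylow 2 G) : ℕ := Nat.card (autGrp E)

theorem normalizerMonoidHom_eq_one_iff {x : G} (hx : x ∈ 𝓜) :
    Subgroup.normalizerMonoidHom (E : Subgroup G) ⟨x, hx⟩ = 1 ↔
      x ∈ centralizer ((E : Subgroup G) : Set G) := by
  rw [← MonoidHom.mem_ker, Subgroup.normalizerMonoidHom_ker, mem_subgroupOf]

theorem card_normalizer_eq :
    Nat.card 𝓜 = autCard E * Nat.card (centralizer ((E : Subgroup G) : Set G)) := by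
  rw [autCard, autGrp, card_eq_card_quotient_mul_card_subgroup
    (Subgroup.normalizerMonoidHom (E : Subgroup G)).ker,
    Nat.card_congr (QuotientGroup.quotientKerEquivRange _).toEquiv,
    Subgroup.normalizerMonoidHom_ker,
    Nat.card_congr (subgroupOfEquivOfLe (centralizer_le_normalizer _)).toEquiv]

theorem Data.card_centralizer (d : Data G p E X) :
    Nat.card (centralizer ((E : Subgroup G) : Set G)) = Nat.card (E : Subgroup G) * Nat.card X := by
  rw [← Nat.card_prod]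
  refine (Nat.card_eq_of_bijective (fun x : ↥(E : Subgroup G) × ↥X =>
    (⟨(x.1 : G) * x.2, mul_mem (mem_centralizer_iff.2 fun b hb => d.comm hb x.1.2) (d.X_le x.2.2)⟩ :
      centralizer ((E : Subgroup G) : Set G))) ⟨?_, ?_⟩).symm
  · rintro ⟨a, y⟩ ⟨a', y'⟩ e
    have e' : (a : G) * y = a' * y' := congrArg Subtype.val e
    have e2 : (a' : G)⁻¹ * a = y' * (y : G)⁻¹ := by
      rw [inv_mul_eq_iff_eq_mul, ← mul_assoc, ← e', mul_inv_cancel_right]
    have h2 := d.sq (mul_mem (inv_mem a'.2) a.2)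
    have hp' := d.hyp.pow_p d.X_p (mul_mem y'.2 (inv_mem y.2))
    rw [← e2] at hp'
    obtain ⟨k, hk⟩ := d.hyp.odd
    rw [hk, pow_succ, pow_mul, pow_two, h2, one_pow, one_mul] at hp'
    have ea := inv_mul_eq_one.1 hp'
    refine Prod.ext (Subtype.ext ea.symm) (Subtype.ext ?_)
    rw [ea] at e'
    exact mul_left_cancel e'
  · rintro ⟨x, hx⟩
    obtain ⟨a, ha, y, hy, rfl⟩ := d.X_dec x hx
    exact ⟨(⟨a, ha⟩, ⟨y, hy⟩), rfl⟩

/-- No nontrivial induced automorphism fixes an involution. -/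
def FreeCase (E : Sylow 2 G) : Prop :=
  ∀ x ∈ normalizer ((E : Subgroup G) : Set G), ∀ t ∈ (E : Subgroup G), t ≠ 1 → x * t = t * x →
    x ∈ centralizer ((E : Subgroup G) : Set G)

/-- The facts when some induced automorphism fixes an involution. -/
structure FixCase (E : Sylow 2 G) (p : ℕ) : Prop where
  m_ndvd : ¬ p ∣ Nat.card (E : Subgroup G) - 1
  card : autCard E = (Nat.card (E : Subgroup G) - 1) * p
  unique : ∀ x ∈ normalizer ((E : Subgroup G) : Set G), x ∉ centralizer ((E : Subgroup G) : Set G) →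
    ∀ t ∈ (E : Subgroup G), ∀ s ∈ (E : Subgroup G), t ≠ 1 → s ≠ 1 → x * t = t * x → x * s = s * x →
      t = s
  quot : ∃ M₀ : Subgroup ↥(normalizer ((E : Subgroup G) : Set G)), M₀.Normal ∧ M₀.index = p ∧
    (centralizer ((E : Subgroup G) : Set G)).subgroupOf _ ≤ M₀ ∧
    ∀ x ∈ M₀, (x : G) ^ p = 1 → (x : G) ∈ centralizer ((E : Subgroup G) : Set G)

theorem Data.dichotomy (d : Data G p E X) :
    (FreeCase E ∧ autCard E = Nat.card (E : Subgroup G) - 1) ∨ FixCase E p := by
  classical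
  haveI := Fact.mk Nat.prime_two
  haveI := d.hyp.fact
  letI : CommGroup (E : Subgroup G) :=
    { (inferInstance : Group (E : Subgroup G)) with
      mul_comm := fun a b => Subtype.ext (d.comm a.2 b.2) }
  haveI : Nontrivial (E : Subgroup G) := (Subgroup.nontrivial_iff_ne_bot _).2 d.ne_bot
  set C := centralizer ((E : Subgroup G) : Set G)
  set ψ := Subgroup.normalizerMonoidHom (E : Subgroup G)
  set A : Subgroup (MulAut (E : Subgroup G)) := autGrp E with hAdef
  have hψval : ∀ (x : G) (hx : x ∈ 𝓜) (v : (E : Subgroup G)),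
      ((ψ ⟨x, hx⟩ v : (E : Subgroup G)) : G) = x * v * x⁻¹ := fun x hx v => rfl
  have hker : ∀ (x : G) (hx : x ∈ 𝓜), ψ ⟨x, hx⟩ = 1 ↔ x ∈ C := fun x hx =>
    normalizerMonoidHom_eq_one_iff hx
  have hfix : ∀ (x : G) (hx : x ∈ 𝓜) (v : (E : Subgroup G)),
      ψ ⟨x, hx⟩ v = v ↔ x * v = (v : G) * x := fun x hx v => by
    rw [Subtype.ext_iff, hψval, mul_inv_eq_iff_eq_mul]
  have hodd : Odd (Nat.card A) := by
    rw [hAdef, autGrp, ← Nat.card_congr (QuotientGroup.quotientKerEquivRange ψ).toEquiv,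
      ← index_eq_card, Subgroup.normalizerMonoidHom_ker, Nat.odd_iff, ← Nat.two_dvd_ne_zero]
    intro h2
    have h3 : C.relIndex 𝓜 ∣ (E : Subgroup G).relIndex 𝓜 :=
      Subgroup.relIndex_dvd_of_le_left _ (fun e he => mem_centralizer_iff.2 fun b hb => d.comm hb he)
    exact E.not_dvd_index ((h2.trans h3).trans (relIndex_dvd_index_of_le le_normalizer))
  have hA : LinHyp A p :=
    { prime := d.hyp.prime
      ne_two := d.hyp.ne_two
      sq := fun v => Subtype.ext (d.sq v.2)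
      odd := hodd
      ordp := by
        rintro a ⟨⟨x, hx⟩, rfl⟩ hd
        have h1 : orderOf (ψ ⟨x, hx⟩) ∣ orderOf x := by
          rw [← Subgroup.orderOf_mk x hx]; exact orderOf_map_dvd ψ _
        have hxe := d.hyp.pow_eq (Or.inr (hd.trans h1))
        have h2 : orderOf (ψ ⟨x, hx⟩) ∣ 2 * p := h1.trans (orderOf_dvd_of_pow_eq_one hxe)
        have h3 : Odd (orderOf (ψ ⟨x, hx⟩)) :=
          hodd.of_dvd_nat (Subgroup.orderOf_dvd_natCard A ⟨⟨x, hx⟩, rfl⟩)
        exact Nat.dvd_antisymm ((Nat.coprime_two_right.2 h3).dvd_of_dvd_mul_left h2) hd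
      stab := by
        rintro a ⟨⟨x, hx⟩, rfl⟩ v hv hxv
        have h1 := d.exp_of_commute v.2 (fun e => hv (Subtype.ext e)) ((hfix x hx v).1 hxv)
        have h2 : ψ ⟨x, hx⟩ ^ (2 * p) = 1 := by
          rw [← map_pow, show (⟨x, hx⟩ : 𝓜) ^ (2 * p) = 1 from Subtype.ext h1, map_one]
        have h3 : Odd (orderOf (ψ ⟨x, hx⟩)) :=
          hodd.of_dvd_nat (Subgroup.orderOf_dvd_natCard A ⟨⟨x, hx⟩, rfl⟩)
        rw [← orderOf_dvd_iff_pow_eq_one]
        exact (Nat.coprime_two_right.2 h3).dvd_of_dvd_mul_left (orderOf_dvd_of_pow_eq_one h2)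
      trans := by
        intro v w hv hw
        obtain ⟨x, hx, e⟩ := d.trans v.2 (fun e => hv (Subtype.ext e)) w.2 (fun e => hw (Subtype.ext e))
        exact ⟨ψ ⟨x, hx⟩, ⟨⟨x, hx⟩, rfl⟩, Subtype.ext e⟩ }
  -- orbit-stabiliser
  obtain ⟨t, ht, ht1⟩ := d.exists_invo
  set v₀ : (E : Subgroup G) := ⟨t, ht⟩
  have hv₀ : v₀ ≠ 1 := fun e => ht1 (congrArg Subtype.val e)
  have horb : Nat.card A = (Nat.card (E : Subgroup G) - 1) * Nat.card (stabIn A v₀) := by
    rw [← Nat.card_congr (MulAction.orbitProdStabilizerEquivGroup A v₀), Nat.card_prod]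
    congr 1
    · have h1 : MulAction.orbit A v₀ = {v : (E : Subgroup G) | v ≠ 1} := by
        ext w
        refine ⟨?_, fun hw => ?_⟩
        · rintro ⟨a, rfl⟩
          exact fun e => hv₀ ((map_eq_one_iff _ (a : MulAut (E : Subgroup G)).injective).1 e)
        · obtain ⟨a, ha, e⟩ := hA.trans v₀ w hv₀ hw
          exact ⟨⟨a, ha⟩, e⟩
      rw [h1, Nat.card_coe_set_eq, show {v : (E : Subgroup G) | v ≠ 1} = ({1} : Set _)ᶜ from rfl,
        Set.ncard_compl, Set.ncard_singleton]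
    · exact Nat.card_congr
        { toFun := fun a => ⟨((a : A) : MulAut (E : Subgroup G)), mem_stabIn.2 ⟨(a : A).2, a.2⟩⟩
          invFun := fun a => ⟨⟨a.1, a.2.1⟩, a.2.2⟩
          left_inv := fun a => rfl
          right_inv := fun a => rfl }
  by_cases hR : ∃ a ∈ A, a ≠ 1 ∧ ∃ v : (E : Subgroup G), v ≠ 1 ∧ a v = v
  · refine Or.inr ?_
    obtain ⟨a, ha, ha1, v, hv, hav⟩ := hR
    obtain ⟨hstab, hpp, ⟨K, hKA, hKn, hKp, hKc⟩, huniq⟩ := hA.structure ha ha1 hv hav
    rw [hstab v₀ hv₀] at horb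
    have hm : Nat.card (E : Subgroup G) - 1 = Nat.card K :=
      Nat.eq_of_mul_eq_mul_right d.hyp.prime.pos (horb.symm.trans hKc)
    refine ⟨fun hd => hKp (hm ▸ hd), horb, ?_, ?_⟩
    · intro x hx hxC t' ht' s hs ht'1 hs1 hc hc'
      have := huniq (ψ ⟨x, hx⟩) ⟨⟨x, hx⟩, rfl⟩ (fun e => hxC ((hker x hx).1 e)) ⟨t', ht'⟩ ⟨s, hs⟩
        (fun e => ht'1 (congrArg Subtype.val e)) (fun e => hs1 (congrArg Subtype.val e))
        ((hfix x hx ⟨t', ht'⟩).2 hc) ((hfix x hx ⟨s, hs⟩).2 hc')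
      exact congrArg Subtype.val this
    · let ρ : ↥𝓜 →* A := ψ.rangeRestrict
      have hρ : Function.Surjective ρ := ψ.rangeRestrict_surjective
      haveI : (K.subgroupOf A).Normal := ⟨fun x hx g => hKn g g.2 x hx⟩
      refine ⟨(K.subgroupOf A).comap ρ, inferInstance, ?_, ?_, ?_⟩
      · rw [index_comap_of_surjective _ hρ]
        have h1 := card_mul_index (K.subgroupOf A)
        rw [Nat.card_congr (subgroupOfEquivOfLe hKA).toEquiv, hKc] at h1
        exact Nat.eq_of_mul_eq_mul_left Nat.card_pos h1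
      · intro x hx
        show (ρ x : MulAut (E : Subgroup G)) ∈ K
        rw [show (ρ x : MulAut (E : Subgroup G)) = 1 from (hker x x.2).2 (mem_subgroupOf.1 hx)]
        exact one_mem K
      · intro x hx hxp
        have hxK : ψ x ∈ K := hx
        refine (hker x x.2).1 ?_
        have h1 : ψ x ^ p = 1 := by
          rw [← map_pow, show x ^ p = 1 from Subtype.ext (by simpa using hxp), map_one]
        by_contra hne
        exact hKp (orderOf_eq_prime h1 hne ▸ Subgroup.orderOf_dvd_natCard K hxK)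
  · push Not at hR
    refine Or.inl ⟨fun x hx s hs hs1 hc => ?_, ?_⟩
    · by_contra hxC
      exact hR (ψ ⟨x, hx⟩) ⟨⟨x, hx⟩, rfl⟩ (fun e => hxC ((hker x hx).1 e)) ⟨s, hs⟩
        (fun e => hs1 (congrArg Subtype.val e)) ((hfix x hx ⟨s, hs⟩).2 hc)
    · rw [autCard, horb]
      have h1 : stabIn A v₀ = ⊥ := (Subgroup.eq_bot_iff_forall _).2 fun b hb => by
        by_contra hb1
        exact hR b hb.1 hb1 v₀ hv₀ hb.2
      rw [h1, Subgroup.card_bot, mul_one]

/-- An element of order `p` of `M` centralises an involution unless `p ∣ |E| - 1`. -/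
theorem Data.exists_commute (d : Data G p E X) (hm : ¬ p ∣ Nat.card (E : Subgroup G) - 1) {x : G}
    (hx : x ∈ 𝓜) (hxp : x ^ p = 1) :
    ∃ t ∈ (E : Subgroup G), t ≠ 1 ∧ x * t = t * x := by
  classical
  haveI := d.hyp.fact
  set ψ := Subgroup.normalizerMonoidHom (E : Subgroup G)
  set P := zpowers (ψ ⟨x, hx⟩)
  have hP : IsPGroup p P := fun y => ⟨1, Subtype.ext (by
    obtain ⟨i, hi⟩ := mem_zpowers_iff.1 y.2
    have h1 : ψ ⟨x, hx⟩ ^ p = 1 := by
      rw [← map_pow, show (⟨x, hx⟩ : 𝓜) ^ p = 1 from Subtype.ext hxp, map_one]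
    rw [SubmonoidClass.coe_pow, pow_one, ← hi, ← zpow_natCast, ← zpow_mul, mul_comm, zpow_mul,
      zpow_natCast, h1, one_zpow]
    rfl)⟩
  have hmod := hP.card_modEq_card_fixedPoints (E : Subgroup G)
  by_contra hne
  push Not at hne
  have h1 : MulAction.fixedPoints P (E : Subgroup G) = {1} := by
    ext v
    constructor
    · intro hv
      by_contra hv1
      refine hne v v.2 (fun e => hv1 (Subtype.ext e)) (mul_inv_eq_iff_eq_mul.1 ?_)
      exact congrArg Subtype.val (hv ⟨ψ ⟨x, hx⟩, mem_zpowers _⟩)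
    · rintro rfl
      exact fun a => map_one (a : MulAut (E : Subgroup G))
  rw [h1, Nat.card_coe_set_eq, Set.ncard_singleton] at hmod
  exact hm ((Nat.modEq_iff_dvd' Nat.card_pos).1 hmod.symm)

/-- The elements of a two-point stabiliser inverted by the involution. -/
theorem Data.card_twoPt (d : Data G p E X) {u : G} (hu : orderOf u = 2) (huM : u ∉ 𝓜) :
    Nat.card (twoPt 𝓜 u) = (Nat.card (E : Subgroup G) - 1) *
      Nat.card ↥(twoPt 𝓜 u ⊓ centralizer ({u} : Set G)) := by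
  classical
  set D := twoPt 𝓜 u with hD
  have huu := SECount.invo_sq hu
  have huinv := SECount.invo_inv hu
  have hDu : ∀ x ∈ D, u * x * u ∈ D := by
    intro x hx
    obtain ⟨h1, h2⟩ := mem_twoPt.1 hx
    refine mem_twoPt.2 ⟨by rwa [huinv] at h2, ?_⟩
    rw [huinv, show u * (u * x * u) * u = (u * u) * x * (u * u) by group, huu, one_mul, mul_one]
    exact h1
  have hl : ∀ a : G, u⁻¹ * a = u * a := fun a => congrArg (· * a) huinv
  let Inv := {x : G // x ∈ D ∧ u * x * u⁻¹ = x⁻¹}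
  -- as many as involutions in the coset
  have hI : Nat.card Inv = Nat.card (E : Subgroup G) - 1 := by
    have h1 : Nat.card Inv = Nat.card {i : G // orderOf i = 2 ∧ u⁻¹ * i ∈ 𝓜} := by
      refine Nat.card_congr
        { toFun := fun x => ⟨u * x.1, ?_, by rw [inv_mul_cancel_left]; exact x.2.1.1⟩
          invFun := fun i => ⟨u⁻¹ * i.1, ?_, ?_⟩
          left_inv := fun x => Subtype.ext (inv_mul_cancel_left u x.1)
          right_inv := fun i => Subtype.ext (mul_inv_cancel_left u i.1) }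
      · refine SECount.invo_of_sq (fun e => huM ?_) ?_
        · have : u = x.1⁻¹ := eq_inv_of_mul_eq_one_left e
          rw [this]; exact inv_mem x.2.1.1
        · have h2 : u * x.1 * u = x.1⁻¹ :=
            (congrArg (fun a => u * x.1 * a) huinv).symm.trans x.2.2
          rw [← mul_assoc, h2, inv_mul_cancel]
      · refine mem_twoPt.2 ⟨i.2.2, ?_⟩
        have h3 : u⁻¹ * (u⁻¹ * i.1) * u = (u⁻¹ * i.1)⁻¹ := by
          rw [mul_inv_rev, inv_inv, SECount.invo_inv i.2.1, hl, hl, ← mul_assoc u, huu, one_mul]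
        rw [h3]; exact inv_mem i.2.2
      · rw [mul_inv_rev, inv_inv, SECount.invo_inv i.2.1, mul_inv_cancel_left]
        exact congrArg (i.1 * ·) huinv
    rw [h1, SECount.card_coset_invo d.stronglyEmbedded huM]
    have h2 : {t : G | orderOf t = 2 ∧ t ∈ 𝓜} = ((E : Subgroup G) : Set G) \ {1} := by
      ext t
      constructor
      · rintro ⟨h3, h4⟩
        exact ⟨invo_mem_of_mem_normalizer h4 (SECount.invo_sq h3), SECount.invo_ne_one h3⟩
      · rintro ⟨h3, h4⟩
        exact ⟨d.order_two h3 h4, le_normalizer h3⟩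
    change Nat.card ↥({t : G | orderOf t = 2 ∧ t ∈ 𝓜} : Set G) = _
    rw [h2, Nat.card_coe_set_eq, Set.ncard_diff_singleton_of_mem (one_mem _), ← Nat.card_coe_set_eq]
    rfl
  rw [← hI, ← Nat.card_prod]
  -- `D = Inv · C_D(u)` via square roots
  have hroot : ∀ y : Inv, ∃ s : G, s ∈ D ∧ u * s * u⁻¹ = s⁻¹ ∧ s * s = y.1 := by
    rintro ⟨y, hy, hyu⟩
    obtain ⟨k, hk⟩ := CIT.odd_orderOf_twoPt d.stronglyEmbedded huM hy
    refine ⟨y ^ (k + 1), pow_mem hy _, ?_, ?_⟩
    · rw [← conj_pow, hyu, inv_pow]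
    · rw [← pow_add, show k + 1 + (k + 1) = 2 * k + 1 + 1 by omega, ← hk, pow_succ,
        pow_orderOf_eq_one, one_mul]
  choose s hs hsu hss using hroot
  refine (Nat.card_eq_of_bijective (fun x : Inv × ↥(D ⊓ centralizer ({u} : Set G)) =>
    (⟨s x.1 * x.2, D.mul_mem (hs x.1) x.2.2.1⟩ : D)) ⟨?_, ?_⟩).symm
  · rintro ⟨y, c⟩ ⟨y', c'⟩ e
    have e' : s y * (c : G) = s y' * c' := congrArg Subtype.val e
    have hc : u * (c : G) * u⁻¹ = c :=
      mul_inv_eq_iff_eq_mul.2 (mem_centralizer_singleton_iff.1 c.2.2).symm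
    have hc' : u * (c' : G) * u⁻¹ = c' :=
      mul_inv_eq_iff_eq_mul.2 (mem_centralizer_singleton_iff.1 c'.2.2).symm
    have e2 : (s y)⁻¹ * (c : G) = (s y')⁻¹ * c' := by
      calc (s y)⁻¹ * (c : G) = u * s y * u⁻¹ * (u * (c : G) * u⁻¹) := by rw [hsu, hc]
        _ = u * (s y * c) * u⁻¹ := by group
        _ = u * s y' * u⁻¹ * (u * (c' : G) * u⁻¹) := by rw [e']; group
        _ = _ := by rw [hsu, hc']
    have e3 : y.1 = y'.1 := by
      rw [← hss y, ← hss y']
      calc s y * s y = s y * c * ((s y)⁻¹ * c)⁻¹ := by group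
        _ = s y' * c' * ((s y')⁻¹ * c')⁻¹ := by rw [e', e2]
        _ = _ := by group
    obtain rfl := Subtype.ext e3
    exact Prod.ext rfl (Subtype.ext (mul_left_cancel e'))
  · rintro ⟨x, hx⟩
    have hx' : u * x * u ∈ D := hDu x hx
    have hinvx : u * (x * (u * x * u)⁻¹) * u⁻¹ = (x * (u * x * u)⁻¹)⁻¹ := by
      simp only [mul_inv_rev, inv_inv, huinv]
      calc u * (x * (u * (x⁻¹ * u))) * u = u * x * (u * x⁻¹) * (u * u) := by group
        _ = u * x * u * x⁻¹ := by rw [huu]; group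
    let y : Inv := ⟨x * (u * x * u)⁻¹, D.mul_mem hx (inv_mem hx'), hinvx⟩
    have h1 := hsu y
    have h2 : s y * s y = x * (u * x * u)⁻¹ := hss y
    have hc : (s y)⁻¹ * x ∈ centralizer ({u} : Set G) := by
      rw [mem_centralizer_singleton_iff]
      symm
      refine mul_inv_eq_iff_eq_mul.1 ?_
      calc u * ((s y)⁻¹ * x) * u⁻¹ = (u * s y * u⁻¹)⁻¹ * (u * x * u⁻¹) := by group
        _ = s y * (u * x * u⁻¹) := by rw [h1, inv_inv]
        _ = (s y)⁻¹ * (s y * s y) * (u * x * u) := by rw [huinv]; group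
        _ = (s y)⁻¹ * x := by rw [h2]; group
    exact ⟨(y, ⟨(s y)⁻¹ * x, D.mul_mem (inv_mem (hs y)) hx, hc⟩),
      Subtype.ext (mul_inv_cancel_left _ x)⟩

/-- The centraliser of `u` in a two-point stabiliser is a `p`-group. -/
theorem Data.cu_isPGroup (d : Data G p E X) {u : G} (hu : orderOf u = 2) (huM : u ∉ 𝓜) :
    IsPGroup p ↥(twoPt 𝓜 u ⊓ centralizer ({u} : Set G)) := by
  refine d.hyp.isPGroup_of_odd ?_ fun x hx => d.hyp.cent_mem_two (SECount.invo_ne_one hu)
    (SECount.invo_sq hu) x hx.2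
  have h1 : Nat.card ↥(twoPt 𝓜 u ⊓ centralizer ({u} : Set G)) ∣ Nat.card (twoPt 𝓜 u) :=
    Subgroup.card_dvd_of_le inf_le_left
  exact fun h2 => (Nat.not_even_iff_odd.2 (d.stronglyEmbedded.2.2 u huM))
    (even_iff_two_dvd.2 (h2.trans h1))

/-! ### The case `X ≠ 1` -/

theorem Data.centralizer_X_le (d : Data G p E X) {x : G} (hx : x ∈ X) (hx1 : x ≠ 1) :
    centralizer ({x} : Set G) ≤ 𝓜 := by
  have hEH : (E : Subgroup G) ≤ centralizer ({x} : Set G) := fun e he =>
    mem_centralizer_singleton_iff.2 (mem_centralizer_iff.1 (d.X_le hx) e he)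
  obtain ⟨O, hOC, hOp, hOn, -, hfr⟩ :=
    d.hyp.exists_core_sylow E (d.hyp.cent_mem_p hx1 (d.hyp.pow_p d.X_p hx)) hEH
  haveI := Fact.mk d.hyp.prime
  have hO : ¬ 2 ∣ Nat.card O := by
    obtain ⟨k, hk⟩ := IsPGroup.iff_card.1 hOp
    rw [hk]
    exact fun h2 => d.hyp.ne_two ((Nat.prime_dvd_prime_iff_eq Nat.prime_two d.hyp.prime).1
      (Nat.prime_two.dvd_of_dvd_pow h2)).symm
  have hOM : O ≤ 𝓜 := le_of_invos (d.hyp.sylow_comm E) (fun a ha => d.sq ha) d.four
    (hEH.trans hOn) hO fun a ha ha1 => inf_le_right.trans (d.cent a ha ha1)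
  intro y hy
  obtain ⟨o, ho, n, -, hn, rfl⟩ := hfr y hy
  exact mul_mem (hOM ho) hn

theorem Data.X_inf_conj (d : Data G p E X) {x g : G} (hx : x ∈ X) (hx1 : x ≠ 1)
    (hgx : g⁻¹ * x * g ∈ X) : g ∈ 𝓜 := by
  obtain ⟨t, ht, ht1⟩ := d.exists_invo
  refine d.mem_of_conj ht ht1 (d.centralizer_X_le hx hx1 (mem_centralizer_singleton_iff.2 ?_))
  have := mem_centralizer_iff.1 (d.X_le hgx) t ht
  calc g * t * g⁻¹ * x = g * (t * (g⁻¹ * x * g)) * g⁻¹ := by group
    _ = x * (g * t * g⁻¹) := by rw [this]; group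

theorem Data.conj_mem_X (d : Data G p E X) {m x : G} (hm : m ∈ 𝓜) (hx : x ∈ X) :
    m * x * m⁻¹ ∈ X :=
  (mem_normalizer_iff.1 (d.X_norm hm) x).1 hx

theorem Data.X_le_normalizer (d : Data G p E X) : X ≤ 𝓜 :=
  d.X_le.trans (centralizer_le_normalizer _)

/-- An element of `X` fixes only the base point. -/
theorem Data.X_fix (d : Data G p E X) {x g : G} (hx : x ∈ X) (hx1 : x ≠ 1)
    (hgx : g⁻¹ * x * g ∈ 𝓜) : g ∈ 𝓜 := by
  classical
  rcases d.dichotomy with ⟨hfree, -⟩ | hfix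
  · by_contra hg
    have hse := d.stronglyEmbedded
    obtain ⟨u, hu, hug⟩ : ∃ u : G, orderOf u = 2 ∧ g⁻¹ * u ∈ 𝓜 := by
      have h1 := SECount.card_coset_invo hse hg
      obtain ⟨t, ht, ht1⟩ := d.exists_invo
      haveI : Nonempty {t : G // orderOf t = 2 ∧ t ∈ 𝓜} :=
        ⟨⟨t, d.order_two ht ht1, le_normalizer ht⟩⟩
      have h2 := Nat.card_pos (α := {t : G // orderOf t = 2 ∧ t ∈ 𝓜})
      rw [← h1] at h2
      obtain ⟨⟨u, hu⟩⟩ := (Nat.card_pos_iff.1 h2).1
      exact ⟨u, hu⟩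
    have huM : u ∉ 𝓜 := fun e => hg (by
      have := mul_mem e (inv_mem hug)
      rwa [mul_inv_rev, inv_inv, mul_inv_cancel_left] at this)
    have huu := SECount.invo_sq hu
    have huinv := SECount.invo_inv hu
    have hxu : u⁻¹ * x * u ∈ 𝓜 := by
      have := mul_mem (mul_mem (inv_mem hug) hgx) hug
      rwa [show (g⁻¹ * u)⁻¹ * (g⁻¹ * x * g) * (g⁻¹ * u) = u⁻¹ * x * u by group] at this
    set y := u * x * u with hy
    have hy' : y ∈ 𝓜 := by rwa [huinv] at hxu
    -- `x` and `y` commute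
    have hcomm : x * y = y * x := by
      have h1 : x * y * x⁻¹ * y⁻¹ ∈ X := by
        rw [show x * y * x⁻¹ * y⁻¹ = x * (y * x⁻¹ * y⁻¹) by group]
        exact mul_mem hx (d.conj_mem_X hy' (inv_mem hx))
      have h3 : u⁻¹ * (x * y * x⁻¹ * y⁻¹) * u ∈ X := by
        rw [show u⁻¹ * (x * y * x⁻¹ * y⁻¹) * u =
          (u⁻¹ * x * u) * (u⁻¹ * y * u) * (u⁻¹ * x * u)⁻¹ * (u⁻¹ * y * u)⁻¹ by group, huinv,
          show u * y * u = x by
            rw [hy, show u * (u * x * u) * u = (u * u) * x * (u * u) by group, huu, one_mul, mul_one]]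
        exact mul_mem (d.conj_mem_X hy' hx) (inv_mem hx)
      have h2 : x * y * x⁻¹ * y⁻¹ = 1 := by
        by_contra hne
        exact huM (d.X_inf_conj h1 hne h3)
      rwa [mul_inv_eq_one, mul_inv_eq_iff_eq_mul] at h2
    have hxp := d.hyp.pow_p d.X_p hx
    have hyp : y ^ p = 1 := by
      rw [hy]; conv_lhs => arg 1; rw [show u * x * u = u * x * u⁻¹ by rw [huinv]]
      rw [conj_pow, hxp, mul_one, mul_inv_cancel]
    set z := x * y with hz
    have hz1 : z ≠ 1 := fun e => by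
      have e1 : y = x⁻¹ := eq_inv_of_mul_eq_one_right e
      refine huM (d.X_inf_conj hx hx1 ?_)
      rw [huinv, ← hy, e1]
      exact inv_mem hx
    have hzp : z ^ p = 1 := by rw [hz, (show Commute x y from hcomm).mul_pow, hxp, hyp, one_mul]
    have huz : z * u = u * z := by
      calc x * y * u = x * (u * x * (u * u)) := by rw [hy]; group
        _ = (u * u) * x * u * x := by rw [huu, mul_one, one_mul]; group
        _ = u * (y * x) := by rw [hy]; group
        _ = _ := by rw [← hcomm]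
    obtain ⟨t, ht, ht1⟩ := d.exists_invo
    obtain ⟨w, hw⟩ := isConj_iff.1 (SECount.isConj_invo hse (d.order_two ht ht1) hu)
    set z' := w⁻¹ * z * w with hz'
    have hz't : z' * t = t * z' := by
      calc w⁻¹ * z * w * t = w⁻¹ * (z * u) * w := by rw [← hw]; group
        _ = t * z' := by rw [huz, ← hw, hz']; group
    have hz'M : z' ∈ 𝓜 := d.cent t ht ht1 (mem_centralizer_singleton_iff.2 hz't)
    have hz'p : z' ^ p = 1 := by
      rw [hz']; conv_lhs => arg 1; rw [show w⁻¹ * z * w = w⁻¹ * z * w⁻¹⁻¹ by rw [inv_inv]]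
      rw [conj_pow, hzp, mul_one, mul_inv_cancel]
    have hz'X : z' ∈ X := d.X_mem z' (hfree z' hz'M t ht ht1 hz't) hz'p
    have hz'1 : z' ≠ 1 := fun e => hz1 (by
      rw [show z = w * z' * w⁻¹ by rw [hz']; group, e, mul_one, mul_inv_cancel])
    set x' := w⁻¹ * x * w with hx'
    have hx'M : x' ∈ 𝓜 := d.centralizer_X_le hz'X hz'1 (mem_centralizer_singleton_iff.2 (by
      have : x * z = z * x := by rw [hz, mul_assoc, ← hcomm]
      calc w⁻¹ * x * w * (w⁻¹ * z * w) = w⁻¹ * (x * z) * w := by group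
        _ = _ := by rw [this, hz', hx']; group))
    -- `[x', t] ∈ E`
    have h1 : x'⁻¹ * (t * x' * t) ∈ (E : Subgroup G) := by
      rw [show x'⁻¹ * (t * x' * t) = x'⁻¹ * t * x' * t by group]
      exact mul_mem ((mem_normalizer_iff''.1 hx'M t).1 ht) ht
    have h2 : t * x' * t = w⁻¹ * y * w := by
      calc t * (w⁻¹ * x * w) * t = w⁻¹ * ((w * t * w⁻¹) * x * (w * t * w⁻¹)) * w := by group
        _ = w⁻¹ * (u * x * u) * w := by rw [hw]
    rw [h2, hx', show (w⁻¹ * x * w)⁻¹ * (w⁻¹ * y * w) = w⁻¹ * (x⁻¹ * y) * w by group] at h1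
    have h4 : x⁻¹ * y = 1 := by
      have h5 := d.sq h1
      have h6 : (x⁻¹ * y) * (x⁻¹ * y) = 1 := by
        have := congrArg (fun a => w * a * w⁻¹) h5
        simpa [mul_assoc] using this
      have h7 : (x⁻¹ * y) ^ p = 1 := by
        rw [(show Commute x⁻¹ y from (show Commute x y from hcomm).inv_left).mul_pow, inv_pow, hxp,
          hyp, inv_one, one_mul]
      obtain ⟨k, hk⟩ := d.hyp.odd
      rwa [hk, pow_succ, pow_mul, pow_two, h6, one_pow, one_mul] at h7
    refine huM (d.X_inf_conj hx hx1 ?_)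
    rw [huinv, ← hy, ← inv_mul_eq_one.1 h4]
    exact hx
  · have hxp := d.hyp.pow_p d.X_p hx
    obtain ⟨t, ht, ht1, hc⟩ := d.exists_commute hfix.m_ndvd hgx (by
      conv_lhs => arg 1; rw [show g⁻¹ * x * g = g⁻¹ * x * g⁻¹⁻¹ by rw [inv_inv]]
      rw [conj_pow, hxp, mul_one, mul_inv_cancel])
    refine d.mem_of_conj ht ht1 (d.centralizer_X_le hx hx1 (mem_centralizer_singleton_iff.2 ?_))
    calc g * t * g⁻¹ * x = g * (t * (g⁻¹ * x * g)) * g⁻¹ := by group
      _ = x * (g * t * g⁻¹) := by rw [← hc]; group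

/-- A `p`-group meeting `X` nontrivially lies in `M`. -/
theorem Data.pGroup_le (d : Data G p E X) {P : Subgroup G} (hP : IsPGroup p P) {x : G} (hx : x ∈ X)
    (hx1 : x ≠ 1) (hxP : x ∈ P) : P ≤ 𝓜 := by
  haveI := d.hyp.fact
  by_contra hne
  haveI := hP.isNilpotent
  have hlt := OddLocal.lt_inf_normalizer (inf_le_left : P ⊓ 𝓜 ≤ P) (fun e => hne (e.ge.trans inf_le_right))
  obtain ⟨g, ⟨hgP, hgN⟩, hgS⟩ := SetLike.exists_of_lt hlt
  have h1 : g⁻¹ * x * g ∈ P ⊓ 𝓜 :=
    (mem_normalizer_iff''.1 hgN x).1 ⟨hxP, d.X_le_normalizer hx⟩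
  exact hgS ⟨hgP, d.X_fix hx hx1 h1.2⟩

theorem Data.not_dvd_index (d : Data G p E X) (hX : X ≠ ⊥) : ¬ p ∣ (𝓜).index := by
  classical
  haveI := d.hyp.fact
  obtain ⟨⟨x, hx⟩, hx1⟩ := X.ne_bot_iff_exists_ne_one.1 hX
  haveI : (X.subgroupOf 𝓜).Normal := normal_subgroupOf_of_le_normalizer d.X_norm
  haveI : (comap (𝓜).subtype X).Normal := normal_subgroupOf_of_le_normalizer d.X_norm
  obtain ⟨S⟩ := (inferInstance : Nonempty (Sylow p ↥𝓜))
  have hXS : X.subgroupOf 𝓜 ≤ S := (d.X_p.comap_subtype (K := 𝓜)).le_sylow_of_normal S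
  obtain ⟨P, hP⟩ := (S.isPGroup'.map (𝓜).subtype).exists_le_sylow
  have hxP : x ∈ (P : Subgroup G) := hP ⟨⟨x, d.X_le_normalizer hx⟩, hXS hx, rfl⟩
  have hle := d.pGroup_le P.isPGroup' hx (fun e => hx1 (Subtype.ext e)) hxP
  exact fun hd => P.not_dvd_index (hd.trans (index_dvd_of_le hle))

/-- A subgroup with transfer map nontrivial on an element with a unique fixed point. -/
theorem false_of_unique_fixed [IsSimpleGroup G] (hG : ¬ IsMulCommutative G) {M : Subgroup G}
    (M₀ : Subgroup M) [M₀.Normal] [hp : Fact p.Prime] (hidx : M₀.index = p) {φ : G} (hφ : φ ∈ M)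
    (hφp : φ ^ p = 1) (hφM₀ : (⟨φ, hφ⟩ : M) ∉ M₀)
    (huniq : ∀ g : G, g⁻¹ * φ * g ∈ M → g ∈ M) : False := by
  classical
  haveI : IsCyclic (M ⧸ M₀) := isCyclic_of_prime_card (p := p) (by rw [← index_eq_card, hidx])
  letI : CommGroup (M ⧸ M₀) := IsCyclic.commGroup
  let f : M →* M ⧸ M₀ := QuotientGroup.mk' M₀
  have hfp : f ⟨φ, hφ⟩ ^ p = 1 := by
    rw [← map_pow, show (⟨φ, hφ⟩ : M) ^ p = 1 from Subtype.ext hφp, map_one]
  have hP : IsPGroup p (zpowers φ) := fun y => ⟨1, Subtype.ext (by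
    obtain ⟨i, hi⟩ := mem_zpowers_iff.1 y.2
    rw [SubmonoidClass.coe_pow, pow_one, ← hi, ← zpow_natCast, ← zpow_mul, mul_comm, zpow_mul,
      zpow_natCast, hφp, one_zpow]
    rfl)⟩
  -- the index is prime to `p`
  have hmod := hP.card_modEq_card_fixedPoints (G ⧸ M)
  have hfix : MulAction.fixedPoints (zpowers φ) (G ⧸ M) = {QuotientGroup.mk 1} := by
    ext q
    obtain ⟨g, rfl⟩ := QuotientGroup.mk_surjective q
    constructor
    · intro h
      have h1 := huniq g (CIT.smul_mk_eq_iff.1 (h ⟨φ, mem_zpowers φ⟩))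
      exact QuotientGroup.eq.2 (by simpa using inv_mem h1)
    · intro h
      rw [Set.mem_singleton_iff] at h
      rw [h]
      rintro ⟨a, ha⟩
      obtain ⟨i, rfl⟩ := mem_zpowers_iff.1 ha
      exact CIT.smul_one_eq_iff.2 (zpow_mem hφ i)
  rw [hfix, Nat.card_coe_set_eq, Set.ncard_singleton, ← index_eq_card] at hmod
  have h1 : MonoidHom.transfer f φ = f ⟨φ, hφ⟩ ^ M.index := by
    refine SECount.transfer_eq_map_pow f hφ fun k g₀ hk => ?_
    by_cases hpk : p ∣ k
    · obtain ⟨j, rfl⟩ := hpk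
      rw [show (⟨g₀⁻¹ * φ ^ (p * j) * g₀, hk⟩ : M) = 1 from Subtype.ext (by
        simp [pow_mul, hφp]), map_one, pow_mul, hfp, one_pow]
    · have hg₀ : g₀ ∈ M := by
        refine huniq g₀ ?_
        have hcop : k.Coprime p := ((Nat.Prime.coprime_iff_not_dvd hp.out).2 hpk).symm
        obtain ⟨i, hi⟩ := exists_pow_eq_self_of_coprime
          (x := φ) (n := k) (hcop.coprime_dvd_right (orderOf_dvd_of_pow_eq_one hφp))
        have := pow_mem hk i
        conv at this => arg 2; rw [show g₀⁻¹ * φ ^ k * g₀ = g₀⁻¹ * φ ^ k * g₀⁻¹⁻¹ by rw [inv_inv],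
          conj_pow, hi, inv_inv]
        exact this
      rw [show (⟨g₀⁻¹ * φ ^ k * g₀, hk⟩ : M) =
        (⟨g₀, hg₀⟩ : M)⁻¹ * (⟨φ, hφ⟩ : M) ^ k * ⟨g₀, hg₀⟩ from Subtype.ext (by simp),
        map_mul, map_mul, map_inv, map_pow, mul_comm, mul_inv_cancel_left]
  rw [SmallGroups.hom_commGroup_eq_one hG] at h1
  refine hφM₀ ((QuotientGroup.eq_one_iff (⟨φ, hφ⟩ : M)).1 ?_)
  show f ⟨φ, hφ⟩ = 1
  rw [← Nat.mod_add_div M.index p, show M.index % p = 1 % p from hmod,
    Nat.one_mod_eq_one.2 hp.out.ne_one, pow_add, pow_one, pow_mul, hfp, one_pow, mul_one] at h1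
  exact h1.symm

/-- An element inducing a nontrivial automorphism with a fixed point can be taken of order `p`. -/
theorem Data.exists_phi (d : Data G p E X) (hfree : ¬ FreeCase E) :
    ∃ φ ∈ 𝓜, φ ^ p = 1 ∧ φ ∉ centralizer ((E : Subgroup G) : Set G) ∧
      ∃ t ∈ (E : Subgroup G), t ≠ 1 ∧ φ * t = t * φ := by
  haveI := Fact.mk Nat.prime_two
  simp only [FreeCase, not_forall] at hfree
  obtain ⟨x, hx, t, ht, ht1, hc, hxC⟩ := hfree
  have h1 := d.exp_of_commute ht ht1 hc
  obtain ⟨e1, e2, e3⟩ := d.hyp.odd_pow_p (g := x) fun r hr hrd => d.hyp.eq_or_eq_of_dvd h1 hr hrd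
  refine ⟨x ^ (p + 1), pow_mem hx _, e3, fun hC => hxC ?_, t, ht, ht1,
    ((show Commute x t from hc).pow_left (p + 1)).eq⟩
  rw [e1]
  refine mul_mem (mem_centralizer_iff.2 fun b hb => d.comm hb ?_) hC
  exact invo_mem_of_mem_normalizer (pow_mem hx p) e2

theorem Data.X_eq_bot_fix (d : Data G p E X) (hfix : FixCase E p) (hfree : ¬ FreeCase E) :
    X = ⊥ := by
  classical
  haveI := d.hyp.fact
  haveI := Fact.mk Nat.prime_two
  haveI := d.simple
  by_contra hX
  obtain ⟨φ, hφ, hφp, hφC, t, ht, ht1, hφt⟩ := d.exists_phi hfree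
  have hφ1 : φ ≠ 1 := fun e => hφC (e ▸ one_mem _)
  obtain ⟨M₀, hM₀n, hM₀i, -, hM₀p⟩ := hfix.quot
  haveI := hM₀n
  refine false_of_unique_fixed d.nonab M₀ hM₀i hφ hφp (fun h => hφC (hM₀p _ h hφp)) fun g hg => ?_
  by_contra hgM
  set C := centralizer ({φ} : Set G) with hC
  have hexp := d.hyp.cent_mem_p hφ1 hφp
  have htC : t ∈ C := mem_centralizer_singleton_iff.2 hφt.symm
  -- `⟨t⟩` is a Sylow 2-subgroup of `C(φ)`
  obtain ⟨S, hS⟩ := ((IsPGroup.of_card (n := 1) (by
    rw [Nat.card_zpowers, d.order_two ht ht1, pow_one] : Nat.card (zpowers t) = 2 ^ 1)).comap_subtype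
    (K := C)).exists_le_sylow
  have hStwo : ∀ a ∈ (S : Subgroup C), (a : G) = 1 ∨ (a : G) = t := by
    intro a ha
    have hsq : ∀ b ∈ (S : Subgroup C), (b : G) * b = 1 := fun b hb => by
      obtain ⟨k, hk⟩ := S.isPGroup' ⟨b, hb⟩
      refine d.hyp.mul_self (k := k) ?_
      simpa using congrArg (fun w : (S : Subgroup C) => ((w : C) : G)) hk
    have htS : (⟨t, htC⟩ : C) ∈ (S : Subgroup C) := hS (mem_subgroupOf.2 (mem_zpowers t))
    have hcm : (a : G) * t = t * a := by
      have h1 := hsq _ (mul_mem ha htS)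
      simp only [Subgroup.coe_mul] at h1
      calc (a : G) * t = a * ((a * t) * (a * t)) * t := by rw [h1, mul_one]
        _ = (a * a) * (t * a) * (t * t) := by group
        _ = _ := by rw [hsq a ha, d.sq ht, one_mul, mul_one]
    have haE := invo_mem_of_mem_normalizer
      (d.cent t ht ht1 (mem_centralizer_singleton_iff.2 hcm)) (hsq a ha)
    by_cases ha1 : (a : G) = 1
    · exact Or.inl ha1
    · exact Or.inr (hfix.unique φ hφ hφC t ht _ haE ht1 ha1 hφt
        (mem_centralizer_singleton_iff.1 a.2).symm).symm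
  have hSC : normalizer ((S : Subgroup C) : Set C) ≤ centralizer ((S : Subgroup C) : Set C) := by
    intro x hx
    rw [mem_centralizer_iff]
    intro a ha
    by_cases ha1 : a = 1
    · simp [ha1]
    have hat : (a : G) = t := (hStwo a ha).resolve_left fun e => ha1 (Subtype.ext e)
    have hb := (mem_normalizer_iff.1 hx a).1 ha
    rcases hStwo _ hb with e | e
    · exact absurd (conj_eq_one_iff.1 (Subtype.ext e : x * a * x⁻¹ = 1)) ha1
    · have : x * a * x⁻¹ = a := Subtype.ext (e.trans hat.symm)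
      exact (mul_inv_eq_iff_eq_mul.1 this).symm
  set f := MonoidHom.transferSylow S hSC
  set P1 := f.ker.map C.subtype
  have hP1 : IsPGroup p P1 := d.hyp.isPGroup_of_odd (by
    rw [card_map_of_injective C.subtype_injective]
    exact MonoidHom.not_dvd_card_ker_transferSylow S hSC) fun x hx => hexp x (map_subtype_le _ hx)
  have hmem : ∀ x ∈ C, x ^ p = 1 → x ∈ P1 := by
    intro x hx hxp
    refine ⟨⟨x, hx⟩, ?_, rfl⟩
    show f ⟨x, hx⟩ = 1
    have h1 : f ⟨x, hx⟩ ^ p = 1 := by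
      rw [← map_pow, show (⟨x, hx⟩ : C) ^ p = 1 from Subtype.ext hxp, map_one]
    have h2 : f ⟨x, hx⟩ ^ 2 = 1 := by
      have h3 := hStwo _ (f ⟨x, hx⟩).2
      apply Subtype.ext
      apply Subtype.ext
      rcases h3 with e | e
      · simp [e]
      · simp [e, pow_two, d.sq ht]
    simpa [d.hyp.coprime_two.symm.gcd_eq_one] using pow_gcd_eq_one.2 ⟨h1, h2⟩
  -- fixed points of `φ` in `X`
  have hcx : ∀ h : G, h⁻¹ * φ * h ∈ 𝓜 → ∃ x ∈ X, x ≠ 1 ∧ h * x * h⁻¹ ∈ C := by
    intro h hh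
    set a := h⁻¹ * φ * h
    have hP : IsPGroup p (zpowers a) := fun y => ⟨1, Subtype.ext (by
      obtain ⟨i, hi⟩ := mem_zpowers_iff.1 y.2
      have h1 : a ^ p = 1 := by
        conv_lhs => arg 1; rw [show a = h⁻¹ * φ * h⁻¹⁻¹ by rw [inv_inv]]
        rw [conj_pow, hφp, mul_one, mul_inv_cancel]
      rw [SubmonoidClass.coe_pow, pow_one, ← hi, ← zpow_natCast, ← zpow_mul, mul_comm, zpow_mul,
        zpow_natCast, h1, one_zpow]
      rfl)⟩
    have hle : zpowers a ≤ normalizer (X : Set G) := zpowers_le.2 (d.X_norm hh)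
    let σ : zpowers a →* MulAut X :=
      (Subgroup.normalizerMonoidHom X).comp (inclusion hle)
    letI : MulAction (zpowers a) X := MulAction.compHom X σ
    have hdvd : p ∣ Nat.card X := (d.X_p.card_eq_or_dvd).resolve_left fun e =>
      hX (Subgroup.eq_bot_of_card_eq _ e)
    obtain ⟨b, hb, hb1⟩ := hP.exists_fixed_point_of_prime_dvd_card_of_fixed_point X hdvd
      (a := (1 : X)) (fun w => map_one (σ w))
    refine ⟨b, b.2, fun e => hb1 (Subtype.ext e).symm, mem_centralizer_singleton_iff.2 ?_⟩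
    have h2 : a * b * a⁻¹ = (b : G) := congrArg Subtype.val (hb ⟨a, mem_zpowers a⟩)
    calc h * (b : G) * h⁻¹ * φ = h * ((b : G) * a) * h⁻¹ := by simp only [a]; group
      _ = h * (a * b) * h⁻¹ := by rw [(mul_inv_eq_iff_eq_mul.1 h2)]
      _ = φ * (h * b * h⁻¹) := by simp only [a]; group
  obtain ⟨x, hx, hx1, hxC⟩ := hcx 1 (by simpa using hφ)
  obtain ⟨y, hy, hy1, hyC⟩ := hcx g hg
  simp only [one_mul, inv_one, mul_one] at hxC
  have hle := d.pGroup_le hP1 hx hx1 (hmem x hxC (d.hyp.pow_p d.X_p hx))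
  have hgy : g * y * g⁻¹ ∈ 𝓜 := hle (hmem _ hyC (by
    rw [conj_pow, d.hyp.pow_p d.X_p hy, mul_one, mul_inv_cancel]))
  exact hgM (inv_mem_iff.1 (d.X_fix hy hy1 (g := g⁻¹) (by simpa using hgy)))

theorem Data.X_eq_bot_free (d : Data G p E X) (hfree : FreeCase E)
    (hcard : autCard E = Nat.card (E : Subgroup G) - 1) : X = ⊥ := by
  classical
  haveI := d.hyp.fact
  haveI := Fact.mk Nat.prime_two
  haveI := d.simple
  by_contra hX
  have hse := d.stronglyEmbedded
  set C := centralizer ((E : Subgroup G) : Set G) with hC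
  have hCM : C ≤ 𝓜 := centralizer_le_normalizer _
  have hEC : (E : Subgroup G) ≤ C := fun e he => mem_centralizer_iff.2 fun b hb => d.comm hb he
  -- `p ∤ |E| - 1`
  have hm : ¬ p ∣ Nat.card (E : Subgroup G) - 1 := by
    intro hd
    obtain ⟨u, hu, huM⟩ := SECount.exists_invo_not_mem hse
    obtain ⟨y, hy⟩ := exists_prime_orderOf_dvd_card' (G := twoPt 𝓜 u) p
      (by rw [d.card_twoPt hu huM]; exact hd.mul_right _)
    rw [← Subgroup.orderOf_coe] at hy
    obtain ⟨hyM, hyu⟩ := mem_twoPt.1 y.2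
    have hy1 : (y : G) ≠ 1 := fun e => by
      rw [e, orderOf_one] at hy; exact d.hyp.prime.ne_one hy.symm
    have hyp : (y : G) ^ p = 1 := by rw [← hy]; exact pow_orderOf_eq_one _
    have hyX : (y : G) ∉ X := fun h => huM (d.X_fix h hy1 hyu)
    have hexp := d.hyp.cent_mem_p hy1 hyp
    have hnoinv : ¬ 2 ∣ Nat.card (centralizer ({(y : G)} : Set G)) := by
      intro h2
      obtain ⟨⟨s, hsC⟩, hs⟩ := exists_prime_orderOf_dvd_card' (G := centralizer ({(y : G)} : Set G)) 2 h2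
      rw [Subgroup.orderOf_mk] at hs
      obtain ⟨t, ht, ht1⟩ := d.exists_invo
      obtain ⟨w, hw⟩ := isConj_iff.1 (SECount.isConj_invo hse (d.order_two ht ht1) hs)
      set y' := w⁻¹ * (y : G) * w
      have hc : y' * t = t * y' := by
        have h3 := mem_centralizer_singleton_iff.1 hsC
        calc w⁻¹ * (y : G) * w * t = w⁻¹ * ((y : G) * (w * t * w⁻¹)) * w := by group
          _ = w⁻¹ * ((w * t * w⁻¹) * (y : G)) * w := by rw [hw, h3]
          _ = _ := by simp only [y']; group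
      have hy'X : y' ∈ X := d.X_mem _
        (hfree y' (d.cent t ht ht1 (mem_centralizer_singleton_iff.2 hc)) t ht ht1 hc) (by
          conv_lhs => arg 1; rw [show y' = w⁻¹ * (y : G) * w⁻¹⁻¹ by rw [inv_inv]]
          rw [conj_pow, hyp, mul_one, mul_inv_cancel])
      have hy'1 : y' ≠ 1 := fun e => hy1 (by
        rw [show (y : G) = w * y' * w⁻¹ by simp only [y']; group, e, mul_one, mul_inv_cancel])
      have hwM : w⁻¹ ∈ 𝓜 := d.X_fix hy'X hy'1 (by
        rw [show w⁻¹⁻¹ * y' * w⁻¹ = (y : G) by simp only [y']; group]; exact hyM)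
      apply hyX
      rw [show (y : G) = w * y' * w⁻¹ by simp only [y']; group]
      exact d.conj_mem_X (inv_mem_iff.1 hwM) hy'X
    have hCp : IsPGroup p (centralizer ({(y : G)} : Set G)) :=
      d.hyp.isPGroup_of_odd hnoinv hexp
    have hdvd : p ∣ Nat.card X := (d.X_p.card_eq_or_dvd).resolve_left fun e =>
      hX (Subgroup.eq_bot_of_card_eq _ e)
    have hfixed : ∀ a ∈ 𝓜, a ^ p = 1 → ∃ x ∈ X, x ≠ 1 ∧ a * x = x * a := by
      intro a ha hap
      have hP : IsPGroup p (zpowers a) := fun y => ⟨1, Subtype.ext (by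
        obtain ⟨i, hi⟩ := mem_zpowers_iff.1 y.2
        rw [SubmonoidClass.coe_pow, pow_one, ← hi, ← zpow_natCast, ← zpow_mul, mul_comm, zpow_mul,
          zpow_natCast, hap, one_zpow]
        rfl)⟩
      have hle : zpowers a ≤ normalizer (X : Set G) := zpowers_le.2 (d.X_norm ha)
      let σ : zpowers a →* MulAut X := (Subgroup.normalizerMonoidHom X).comp (inclusion hle)
      letI : MulAction (zpowers a) X := MulAction.compHom X σ
      obtain ⟨b, hb, hb1⟩ := hP.exists_fixed_point_of_prime_dvd_card_of_fixed_point X hdvd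
        (a := (1 : X)) (fun w => map_one (σ w))
      exact ⟨b, b.2, fun e => hb1 (Subtype.ext e).symm,
        mul_inv_eq_iff_eq_mul.1 (congrArg Subtype.val (hb ⟨a, mem_zpowers a⟩))⟩
    obtain ⟨x, hx, hx1, hxy⟩ := hfixed y hyM hyp
    obtain ⟨x', hx', hx'1, hx'y⟩ := hfixed (u⁻¹ * y * u) hyu (by
      conv_lhs => arg 1; rw [show u⁻¹ * (y : G) * u = u⁻¹ * (y : G) * u⁻¹⁻¹ by rw [inv_inv]]
      rw [conj_pow, hyp, mul_one, mul_inv_cancel])
    have hle := d.pGroup_le hCp hx hx1 (mem_centralizer_singleton_iff.2 hxy.symm)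
    have hgy : u * x' * u⁻¹ ∈ 𝓜 := hle (mem_centralizer_singleton_iff.2 (by
      calc u * x' * u⁻¹ * (y : G) = u * (x' * (u⁻¹ * y * u)) * u⁻¹ := by group
        _ = (y : G) * (u * x' * u⁻¹) := by rw [← hx'y]; group))
    exact huM (inv_mem_iff.1 (d.X_fix hx' hx'1 (g := u⁻¹) (by simpa using hgy)))
  -- `C(E)` is a trivially intersecting Hall subgroup
  have hXcard : ∃ k, Nat.card X = p ^ k := IsPGroup.iff_card.1 d.X_p
  have c : CNCIT.Ctx C 𝓜 := by
    refine ⟨?_, ?_, ?_, ?_, hse.1, ?_⟩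
    · refine le_antisymm (fun n hn => ?_) ?_
      · rw [← Transfer.map_conj_eq_iff]
        refine eq_of_le_of_card_ge ?_ (by rw [card_map_of_injective (MulAut.conj n).injective])
        rintro _ ⟨e, he, rfl⟩
        refine invo_mem_of_mem_normalizer (hCM ((mem_normalizer_iff.1 hn e).1 (hEC he))) ?_
        show n * e * n⁻¹ * (n * e * n⁻¹) = 1
        rw [show n * e * n⁻¹ * (n * e * n⁻¹) = n * (e * e) * n⁻¹ by group, d.sq he, mul_one,
          mul_inv_cancel]
      · intro n hn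
        rw [mem_normalizer_iff]
        have key : ∀ m ∈ 𝓜, ∀ z ∈ C, m * z * m⁻¹ ∈ C := by
          intro m hm z hz
          refine mem_centralizer_iff.2 fun e he => ?_
          have h1 := mem_centralizer_iff.1 hz _ ((mem_normalizer_iff''.1 hm e).1 he)
          calc e * (m * z * m⁻¹) = m * (m⁻¹ * e * m * z) * m⁻¹ := by group
            _ = m * z * m⁻¹ * e := by rw [h1]; group
        exact fun z => ⟨key n hn z, fun hz => by simpa [mul_assoc] using key n⁻¹ (inv_mem hn) _ hz⟩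
    · intro g hg x hx hgx
      obtain ⟨a, ha, y, hy, rfl⟩ := d.X_dec x hx
      have hay : Commute a y := mem_centralizer_iff.1 (d.X_le hy) a ha
      have hap : (a * y) ^ p = a := by
        obtain ⟨k, hk⟩ := d.hyp.odd
        rw [hay.mul_pow, d.hyp.pow_p d.X_p hy, mul_one, hk, pow_succ, pow_mul, pow_two, d.sq ha,
          one_pow, one_mul]
      by_cases ha1 : a = 1
      · subst ha1
        rw [one_mul] at hgx ⊢
        by_contra hy1
        exact hg (d.X_fix hy hy1 (hCM hgx))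
      · exfalso
        have h1 : g⁻¹ * a * g ∈ 𝓜 := by
          rw [← hap, show g⁻¹ * (a * y) ^ p * g = (g⁻¹ * (a * y) * g⁻¹⁻¹) ^ p by
            rw [conj_pow, inv_inv], inv_inv]
          exact pow_mem (hCM hgx) p
        exact hg (inv_mem_iff.1 (d.mem_of_conj ha ha1 (g := g⁻¹) (by rwa [inv_inv])))
    · intro x hx hx1
      obtain ⟨a, ha, y, hy, rfl⟩ := d.X_dec x hx
      have hay : Commute a y := mem_centralizer_iff.1 (d.X_le hy) a ha
      intro z hz
      have hzc : Commute z (a * y) := mem_centralizer_singleton_iff.1 hz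
      have hzM : z ∈ 𝓜 ∧ z ^ (2 * p) = 1 := by
        by_cases ha1 : a = 1
        · subst ha1
          rw [one_mul] at hzc hx1
          exact ⟨d.centralizer_X_le hy hx1 (mem_centralizer_singleton_iff.2 hzc.eq),
            d.hyp.cent_mem_p hx1 (d.hyp.pow_p d.X_p hy) z (mem_centralizer_singleton_iff.2 hzc.eq)⟩
        · have hap : (a * y) ^ p = a := by
            obtain ⟨k, hk⟩ := d.hyp.odd
            rw [hay.mul_pow, d.hyp.pow_p d.X_p hy, mul_one, hk, pow_succ, pow_mul, pow_two, d.sq ha,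
              one_pow, one_mul]
          have := hzc.pow_right p
          rw [hap] at this
          exact ⟨d.cent a ha ha1 (mem_centralizer_singleton_iff.2 this.eq),
            d.exp_of_commute ha ha1 this.eq⟩
      have h1 : Subgroup.normalizerMonoidHom (E : Subgroup G) ⟨z, hzM.1⟩ = 1 := by
        rw [← orderOf_eq_one_iff]
        refine Nat.eq_one_of_dvd_coprimes (a := 2 * p) (b := autCard E) ?_
          (orderOf_dvd_of_pow_eq_one ?_) (Subgroup.orderOf_dvd_natCard (autGrp E) ⟨_, rfl⟩)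
        · rw [hcard]
          refine Nat.Coprime.mul_left (Nat.coprime_two_left.2 ?_)
            ((Nat.Prime.coprime_iff_not_dvd d.hyp.prime).2 hm)
          obtain ⟨k, hk⟩ := IsPGroup.iff_card.1 E.isPGroup'
          rw [hk]
          refine Nat.Even.sub_odd (Nat.one_le_two_pow) ?_ odd_one
          refine (Nat.even_pow).2 ⟨even_two, fun e => ?_⟩
          have := d.four
          rw [hk, e] at this
          omega
        · rw [← map_pow, show (⟨z, hzM.1⟩ : 𝓜) ^ (2 * p) = 1 from Subtype.ext hzM.2, map_one]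
      exact (normalizerMonoidHom_eq_one_iff hzM.1).1 h1
    · rw [d.card_centralizer]
      obtain ⟨k, hk⟩ := hXcard
      obtain ⟨l, hl⟩ := IsPGroup.iff_card.1 E.isPGroup'
      refine Nat.Coprime.mul_left ?_ ?_
      · rw [hl]
        refine ((Nat.Prime.coprime_iff_not_dvd Nat.prime_two).2 fun h2 => ?_).pow_left l
        exact E.not_dvd_index (h2.trans (index_dvd_of_le hEC))
      · rw [hk]
        refine ((Nat.Prime.coprime_iff_not_dvd d.hyp.prime).2 fun h2 => ?_).pow_left k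
        have h3 : C.index = autCard E * (𝓜).index := by
          have h4 := card_mul_index C
          have h5 := card_mul_index (𝓜)
          rw [← h5, card_normalizer_eq, mul_comm (autCard E), mul_assoc] at h4
          exact Nat.eq_of_mul_eq_mul_left Nat.card_pos h4
        rw [h3, hcard] at h2
        rcases d.hyp.prime.dvd_mul.1 h2 with e | e
        exacts [hm e, d.not_dvd_index hX e]
    · obtain ⟨t, ht, ht1⟩ := d.exists_invo
      exact d.order_two ht ht1 ▸ Subgroup.orderOf_dvd_natCard C (hEC ht)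
  have h2 := c.isPGroup_two
  refine hX ((Subgroup.eq_bot_iff_forall _).2 fun x hx => ?_)
  obtain ⟨k, hk⟩ := h2 ⟨x, d.X_le hx⟩
  have hk' : x ^ 2 ^ k = 1 := congrArg Subtype.val hk
  have h3 := d.hyp.mul_self hk'
  have h4 := d.hyp.pow_p d.X_p hx
  obtain ⟨l, hl⟩ := d.hyp.odd
  rwa [hl, pow_succ, pow_mul, pow_two, h3, one_pow, one_mul] at h4

theorem Data.X_eq_bot (d : Data G p E X) : X = ⊥ := by
  rcases d.dichotomy with ⟨hfree, hcard⟩ | hfix
  · exact d.X_eq_bot_free hfree hcard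
  · by_cases hfree : FreeCase E
    · rcases d.dichotomy with ⟨-, hcard⟩ | hfix'
      · exact d.X_eq_bot_free hfree hcard
      · -- impossible: the group would be free with `p` dividing its order
        exfalso
        haveI := Fact.mk d.hyp.prime
        obtain ⟨M₀, hM₀n, hM₀i, hM₀C, hM₀p⟩ := hfix.quot
        haveI := hM₀n
        obtain ⟨q, hq⟩ := exists_prime_orderOf_dvd_card' (G := ↥(normalizer ((E : Subgroup G) : Set G)) ⧸ M₀) p
          (by rw [← index_eq_card, hM₀i])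
        obtain ⟨⟨x, hx⟩, rfl⟩ := QuotientGroup.mk_surjective q
        have hxo : p ∣ orderOf x := by
          rw [← Subgroup.orderOf_mk x hx, ← hq]
          exact orderOf_map_dvd (QuotientGroup.mk' M₀) _
        have hye : orderOf (x ^ (orderOf x / p)) = p :=
          orderOf_pow_orderOf_div (orderOf_pos x).ne' hxo
        obtain ⟨t, ht, ht1, hc⟩ := d.exists_commute hfix.m_ndvd (pow_mem hx (orderOf x / p))
          (orderOf_dvd_iff_pow_eq_one.1 (dvd_of_eq hye))
        have hC := hfree _ (pow_mem hx _) t ht ht1 hc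
        -- so the image of `x` has order prime to `p`
        have h1 : (QuotientGroup.mk' M₀ ⟨x, hx⟩) ^ (orderOf x / p) = 1 := by
          rw [← map_pow]
          exact (QuotientGroup.eq_one_iff _).2 (hM₀C (mem_subgroupOf.2 hC))
        have h2 : p ∣ orderOf x / p := by
          have h6 := orderOf_dvd_of_pow_eq_one h1
          rwa [show orderOf (QuotientGroup.mk' M₀ ⟨x, hx⟩) = p from hq] at h6
        have h3 := d.hyp.pow_eq (Or.inr hxo)
        have h4 : p * p ∣ 2 * p :=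
          ((Nat.mul_dvd_mul_right h2 p).trans (Nat.div_mul_cancel hxo).dvd).trans
            (orderOf_dvd_of_pow_eq_one h3)
        have h5 : p ∣ 2 := (Nat.mul_dvd_mul_iff_right d.hyp.prime.pos).1 h4
        exact d.hyp.ne_two ((Nat.prime_dvd_prime_iff_eq d.hyp.prime Nat.prime_two).1 h5)
    · exact d.X_eq_bot_fix hfix hfree

end Cfsg.Agent.Lib.TwoPEven
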