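import Mathlib
import Cfsg.Agent.Lib.TwoPEven.SE
import Cfsg.Agent.Lib.Gaschutz
import Cfsg.Agent.Lib.Coprime.Generation

/-!
The strongly embedded case with `C(E) = E` and an induced automorphism of order `p` fixing an
involution: counting on the cosets of `M = N(E)` and transfer.
-/

set_option autoImplicit false

namespace Cfsg.Agent.Lib.TwoPEven

open Subgroup
open Cfsg.Agent.Lib.CIT (twoPt mem_twoPt)

universe u

variable {G : Type u} [Group G] [Finite G] {p : ℕ} {E : Sylow 2 G}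

local notation "𝓜" => normalizer ((E : Subgroup G) : Set G)

/-! ### General facts -/

omit [Finite G] in
/-- Two subgroups of prime order `r` of `M` with `r² ∤ |M|` are conjugate in `M`. -/
theorem exists_conj_of_prime_card [Finite G] {M A B : Subgroup G} {r : ℕ} (hr : r.Prime)
    (hM : ¬ r * r ∣ Nat.card M) (hA : A ≤ M) (hB : B ≤ M) (hcA : Nat.card A = r)
    (hcB : Nat.card B = r) : ∃ m ∈ M, ∀ x : G, x ∈ B ↔ m⁻¹ * x * m ∈ A := by
  haveI := Fact.mk hr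
  have key : ∀ A' : Subgroup G, A' ≤ M → Nat.card A' = r →
      ∃ S : Sylow r ↥M, (S : Subgroup M) = A'.subgroupOf M := by
    intro A' hA' hc
    have hc' : Nat.card (A'.subgroupOf M) = r := by
      rw [Nat.card_congr (subgroupOfEquivOfLe hA').toEquiv, hc]
    obtain ⟨S, hS⟩ := (IsPGroup.of_card (n := 1) (by rw [hc', pow_one]) :
      IsPGroup r (A'.subgroupOf M)).exists_le_sylow
    obtain ⟨k, hk⟩ := IsPGroup.iff_card.1 S.isPGroup'
    refine ⟨S, (eq_of_le_of_card_ge hS ?_).symm⟩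
    rw [hc', hk]
    rcases k with _ | _ | k
    · simp [hr.one_le]
    · simp
    · exact absurd (((pow_two r ▸ pow_dvd_pow r (by omega : 2 ≤ k + 1 + 1) : r * r ∣ r ^ (k + 1 + 1))).trans
        (hk ▸ Subgroup.card_subgroup_dvd_card _)) hM
  obtain ⟨S, hS⟩ := key A hA hcA
  obtain ⟨T, hT⟩ := key B hB hcB
  obtain ⟨m, hm⟩ := MulAction.exists_smul_eq ↥M S T
  refine ⟨m, m.2, fun x => ?_⟩
  have hiff : ∀ y : M, y ∈ (T : Subgroup M) ↔ m⁻¹ * y * m ∈ (S : Subgroup M) := by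
    intro y
    rw [← hm, Sylow.coe_subgroup_smul, Subgroup.mem_pointwise_smul_iff_inv_smul_mem]
    simp [MulAut.smul_def, ← map_inv, mul_assoc]
  constructor
  · intro hx
    have := (hiff ⟨x, hB hx⟩).1 (by rw [hT]; exact mem_subgroupOf.2 hx)
    rw [hS] at this
    exact mem_subgroupOf.1 this
  · intro hx
    have hxM : x ∈ M := by
      have := mul_mem (mul_mem m.2 (hA hx)) (inv_mem m.2)
      simpa [mul_assoc] using this
    have := (hiff ⟨x, hxM⟩).2 (by rw [hS]; exact mem_subgroupOf.2 hx)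
    rw [hT] at this
    exact mem_subgroupOf.1 this

omit [Finite G] in
theorem twoPt_congr {M : Subgroup G} {k u : G} (h : k⁻¹ * u ∈ M) : twoPt M k = twoPt M u := by
  ext x
  simp only [mem_twoPt]
  refine and_congr_right fun _ => ⟨fun hx => ?_, fun hx => ?_⟩
  · have := mul_mem (mul_mem (inv_mem h) hx) h
    rwa [show (k⁻¹ * u)⁻¹ * (k⁻¹ * x * k) * (k⁻¹ * u) = u⁻¹ * x * u by group] at this
  · have := mul_mem (mul_mem h hx) (inv_mem h)
    rwa [show (k⁻¹ * u) * (u⁻¹ * x * u) * (k⁻¹ * u)⁻¹ = k⁻¹ * x * k by group] at this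

/-- The group induced by `M` on `E` is not free. -/
theorem Data.not_free (d : Data G p E ⊥) (hex : ∃ x : G, orderOf x = 2 * p) : ¬ FreeCase E := by
  intro hfree
  obtain ⟨x, hx⟩ := hex
  have hp := d.hyp.prime
  have hu : orderOf (x ^ p) = 2 := by
    rw [orderOf_pow' _ hp.ne_zero, hx, Nat.gcd_mul_left_left, Nat.mul_div_cancel _ hp.pos]
  obtain ⟨t, ht, ht1⟩ := d.exists_invo
  obtain ⟨w, hw⟩ := isConj_iff.1
    (SECount.isConj_invo d.stronglyEmbedded (d.order_two ht ht1) hu)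
  set z := w⁻¹ * x ^ 2 * w
  have hzt : z * t = t * z := by
    calc w⁻¹ * x ^ 2 * w * t = w⁻¹ * (x ^ 2 * (w * t * w⁻¹)) * w := by group
      _ = w⁻¹ * ((w * t * w⁻¹) * x ^ 2) * w := by rw [hw, (Commute.pow_pow_self x 2 p).eq]
      _ = _ := by simp only [z]; group
  have hzC := hfree z (d.cent t ht ht1 (mem_centralizer_singleton_iff.2 hzt)) t ht ht1 hzt
  obtain ⟨a, ha, y, hy, hay⟩ := d.X_dec z hzC
  rw [Subgroup.mem_bot.1 hy, mul_one] at hay
  have h2 : z * z = 1 := by rw [hay]; exact d.sq ha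
  have hzp : z ^ p = 1 := by
    conv_lhs => arg 1; rw [show z = w⁻¹ * x ^ 2 * w⁻¹⁻¹ by rw [inv_inv]]
    rw [conj_pow, ← pow_mul, ← hx, pow_orderOf_eq_one, mul_one, mul_inv_cancel]
  have hz1 : z = 1 := by
    obtain ⟨k, hk⟩ := d.hyp.odd
    rwa [hk, pow_succ, pow_mul, pow_two, h2, one_pow, one_mul] at hzp
  have hx2 : x ^ 2 = 1 := by
    rw [show x ^ 2 = w * z * w⁻¹ by simp only [z]; group, hz1, mul_one, mul_inv_cancel]
  have h5 := orderOf_dvd_of_pow_eq_one hx2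
  rw [hx] at h5
  have h6 := Nat.le_of_dvd Nat.two_pos h5
  have := hp.two_le
  omega

/-- The setting for the second case, with the subgroup `N₀` of index `p` of `M`. -/
structure Fixed (G : Type u) [Group G] (p : ℕ) (E : Sylow 2 G) (φ t : G) (N₀ : Subgroup G) :
    Prop where
  data : Data G p E ⊥
  fix : FixCase E p
  mem : φ ∈ normalizer ((E : Subgroup G) : Set G)
  pow : φ ^ p = 1
  notC : φ ∉ centralizer ((E : Subgroup G) : Set G)
  tE : t ∈ (E : Subgroup G)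
  t_one : t ≠ 1
  comm : φ * t = t * φ
  N₀_le : N₀ ≤ normalizer ((E : Subgroup G) : Set G)
  N₀_norm : normalizer ((E : Subgroup G) : Set G) ≤ normalizer (N₀ : Set G)
  N₀_index : N₀.relIndex (normalizer ((E : Subgroup G) : Set G)) = p
  N₀_p : ∀ x ∈ N₀, x ^ p = 1 → x = 1

theorem Data.exists_fixed (d : Data G p E ⊥) (hfix : FixCase E p) (hfree : ¬ FreeCase E) :
    ∃ φ t N₀, Fixed G p E φ t N₀ := by
  obtain ⟨φ, hφ, hφp, hφC, t, ht, ht1, hφt⟩ := d.exists_phi hfree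
  obtain ⟨M₀, hM₀n, hM₀i, -, hM₀p⟩ := hfix.quot
  haveI := hM₀n
  refine ⟨φ, t, M₀.map (𝓜).subtype, d, hfix, hφ, hφp, hφC, ht, ht1, hφt, map_subtype_le _, ?_, ?_, ?_⟩
  · intro g hg
    rw [mem_normalizer_iff]
    have key : ∀ g ∈ 𝓜, ∀ x ∈ M₀.map (𝓜).subtype, g * x * g⁻¹ ∈ M₀.map (𝓜).subtype := by
      rintro g hg _ ⟨x, hx, rfl⟩
      exact ⟨⟨g, hg⟩ * x * ⟨g, hg⟩⁻¹, hM₀n.conj_mem x hx _, rfl⟩
    exact fun x => ⟨key g hg x, fun hx => by simpa [mul_assoc] using key g⁻¹ (inv_mem hg) _ hx⟩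
  · rw [relIndex, subgroupOf, comap_map_eq_self_of_injective (subtype_injective _), hM₀i]
  · rintro _ ⟨x, hx, rfl⟩ hxp
    obtain ⟨a, ha, y, hy, hay⟩ := d.X_dec _ (hM₀p x hx hxp)
    rw [Subgroup.mem_bot.1 hy, mul_one] at hay
    obtain ⟨k, hk⟩ := d.hyp.odd
    rw [hk, pow_succ, pow_mul, pow_two] at hxp
    simp only [Subgroup.coe_subtype] at hxp hay ⊢
    rw [hay, d.sq ha, one_pow, one_mul] at hxp
    rw [hay, hxp]

variable {φ t : G} {N₀ : Subgroup G}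

local notation "𝐦" => Nat.card (E : Subgroup G) - 1

theorem Fixed.phi_ne_one (F : Fixed G p E φ t N₀) : φ ≠ 1 := fun e => F.notC (e ▸ one_mem _)

theorem Fixed.card_M (F : Fixed G p E φ t N₀) :
    Nat.card 𝓜 = Nat.card (E : Subgroup G) * (𝐦 * p) := by
  rw [card_normalizer_eq, F.fix.card, F.data.card_centralizer, Subgroup.card_bot, mul_one, mul_comm]

theorem Fixed.card_N₀ (F : Fixed G p E φ t N₀) :
    Nat.card N₀ = Nat.card (E : Subgroup G) * 𝐦 := by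
  have h := card_mul_index (N₀.subgroupOf 𝓜)
  rw [← relIndex, F.N₀_index, Nat.card_congr (subgroupOfEquivOfLe F.N₀_le).toEquiv, F.card_M,
    ← mul_assoc] at h
  exact Nat.eq_of_mul_eq_mul_right F.data.hyp.prime.pos h

theorem Fixed.p_ndvd_N₀ (F : Fixed G p E φ t N₀) : ¬ p ∣ Nat.card N₀ := by
  intro h
  haveI := F.data.hyp.fact
  obtain ⟨x, hx⟩ := exists_prime_orderOf_dvd_card' (G := N₀) p h
  rw [← Subgroup.orderOf_coe] at hx
  have := F.N₀_p x x.2 (by rw [← hx]; exact pow_orderOf_eq_one _)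
  rw [this, orderOf_one] at hx
  exact F.data.hyp.prime.ne_one hx.symm

theorem Fixed.sq_ndvd (F : Fixed G p E φ t N₀) : ¬ p * p ∣ Nat.card 𝓜 := by
  intro h
  apply F.p_ndvd_N₀
  rw [F.card_N₀]
  rw [F.card_M, ← mul_assoc] at h
  exact (Nat.mul_dvd_mul_iff_right F.data.hyp.prime.pos).1 h

theorem Fixed.mem_N₀ (F : Fixed G p E φ t N₀) {x : G} (hx : x ∈ 𝓜) (hxm : x ^ 𝐦 = 1) :
    x ∈ N₀ := by
  haveI : (N₀.subgroupOf 𝓜).Normal := normal_subgroupOf_of_le_normalizer F.N₀_norm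
  set q := QuotientGroup.mk' (N₀.subgroupOf 𝓜) ⟨x, hx⟩
  have h1 : q ^ p = 1 := by
    have : q ^ (N₀.subgroupOf 𝓜).index = 1 := by
      rw [index_eq_card]; exact pow_card_eq_one'
    rwa [← relIndex, F.N₀_index] at this
  have h2 : q ^ 𝐦 = 1 := by
    rw [← map_pow, show (⟨x, hx⟩ : 𝓜) ^ 𝐦 = 1 from Subtype.ext hxm, map_one]
  have h3 : q = 1 := by
    simpa [((Nat.Prime.coprime_iff_not_dvd F.data.hyp.prime).2 F.fix.m_ndvd).gcd_eq_one] using
      pow_gcd_eq_one.2 ⟨h1, h2⟩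
  exact mem_subgroupOf.1 ((QuotientGroup.eq_one_iff _).1 h3)

theorem Fixed.p_elem_eq (F : Fixed G p E φ t N₀) {a b : G} (ha : a ∈ 𝓜) (hb : b ∈ 𝓜) (ha1 : a ≠ 1)
    (hap : a ^ p = 1) (hbp : b ^ p = 1) (hab : a * b = b * a) : b ∈ zpowers a := by
  haveI := F.data.hyp.fact
  set Q := closure ({a, b} : Set G)
  have hQ : IsPGroup p Q := Coprime.isPGroup_closure_pair hab hap hbp
  have hQM : Q ≤ 𝓜 := (closure_le _).2 (by rintro z (rfl | rfl); exacts [ha, hb])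
  obtain ⟨k, hk⟩ := IsPGroup.iff_card.1 hQ
  have hle : zpowers a ≤ Q := zpowers_le.2 (subset_closure (Or.inl rfl))
  have hc : Nat.card Q ≤ Nat.card (zpowers a) := by
    rw [Nat.card_zpowers, orderOf_eq_prime hap ha1, hk]
    rcases k with _ | _ | k
    · simp [F.data.hyp.prime.one_le]
    · simp
    · refine absurd ?_ F.sq_ndvd
      refine (pow_two p ▸ pow_dvd_pow p (by omega : 2 ≤ k + 1 + 1) : p * p ∣ p ^ (k + 1 + 1)).trans ?_
      rw [← hk]; exact card_dvd_of_le hQM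
  rw [eq_of_le_of_card_ge hle hc]
  exact subset_closure (Or.inr rfl)

theorem Fixed.exists_conj_phi (F : Fixed G p E φ t N₀) {a : G} (ha : a ∈ 𝓜) (ha1 : a ≠ 1)
    (hap : a ^ p = 1) : ∃ m ∈ 𝓜, m * a * m⁻¹ ∈ zpowers φ := by
  haveI := F.data.hyp.fact
  obtain ⟨m, hm, hiff⟩ := exists_conj_of_prime_card F.data.hyp.prime F.sq_ndvd
    (zpowers_le.2 ha) (zpowers_le.2 F.mem)
    (by rw [Nat.card_zpowers, orderOf_eq_prime hap ha1])
    (by rw [Nat.card_zpowers, orderOf_eq_prime F.pow F.phi_ne_one])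
  exact ⟨m, hm, (hiff _).2 (by
    rw [show m⁻¹ * (m * a * m⁻¹) * m = a by group]; exact mem_zpowers a)⟩

/-- The centraliser of `φ`: the `p`-elements form a subgroup of index two. -/
theorem Fixed.cent_phi (F : Fixed G p E φ t N₀) :
    ∃ P1 : Subgroup G, IsPGroup p P1 ∧
      (∀ x, x ∈ P1 ↔ x ∈ centralizer ({φ} : Set G) ∧ x ^ p = 1) ∧
      (∀ x ∈ centralizer ({φ} : Set G), x ∈ P1 ∨ x * t ∈ P1) ∧
      Nat.card (centralizer ({φ} : Set G)) = 2 * Nat.card P1 := by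
  classical
  have d := F.data
  haveI := d.hyp.fact
  haveI := Fact.mk Nat.prime_two
  set C := centralizer ({φ} : Set G) with hC
  have hexp := d.hyp.cent_mem_p F.phi_ne_one F.pow
  have htC : t ∈ C := mem_centralizer_singleton_iff.2 F.comm.symm
  have ht2 := d.order_two F.tE F.t_one
  obtain ⟨S, hS⟩ := ((IsPGroup.of_card (n := 1) (by
    rw [Nat.card_zpowers, ht2, pow_one] : Nat.card (zpowers t) = 2 ^ 1)).comap_subtype
    (K := C)).exists_le_sylow
  have htS : (⟨t, htC⟩ : C) ∈ (S : Subgroup C) := hS (mem_subgroupOf.2 (mem_zpowers t))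
  have hStwo : ∀ a ∈ (S : Subgroup C), (a : G) = 1 ∨ (a : G) = t := by
    intro a ha
    have hsq : ∀ b ∈ (S : Subgroup C), (b : G) * b = 1 := fun b hb => by
      obtain ⟨k, hk⟩ := S.isPGroup' ⟨b, hb⟩
      refine d.hyp.mul_self (k := k) ?_
      simpa using congrArg (fun w : (S : Subgroup C) => ((w : C) : G)) hk
    have hcm : (a : G) * t = t * a := by
      have h1 := hsq _ (mul_mem ha htS)
      simp only [Subgroup.coe_mul] at h1
      calc (a : G) * t = a * ((a * t) * (a * t)) * t := by rw [h1, mul_one]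
        _ = (a * a) * (t * a) * (t * t) := by group
        _ = _ := by rw [hsq a ha, d.sq F.tE, one_mul, mul_one]
    have haE := invo_mem_of_mem_normalizer
      (d.cent t F.tE F.t_one (mem_centralizer_singleton_iff.2 hcm)) (hsq a ha)
    by_cases ha1 : (a : G) = 1
    · exact Or.inl ha1
    · exact Or.inr (F.fix.unique φ F.mem F.notC t F.tE _ haE F.t_one ha1 F.comm
        (mem_centralizer_singleton_iff.1 a.2).symm).symm
  have hSC : normalizer ((S : Subgroup C) : Set C) ≤ centralizer ((S : Subgroup C) : Set C) := by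
    intro x hx
    rw [mem_centralizer_iff]
    intro a ha
    by_cases ha1 : a = 1
    · simp [ha1]
    have hat : (a : G) = t := (hStwo a ha).resolve_left fun e => ha1 (Subtype.ext e)
    have hb := (mem_normalizer_iff.1 hx a).1 ha
    rcases hStwo _ hb with e | e
    · exact absurd (conj_eq_one_iff.1 (Subtype.ext e : x * a * x⁻¹ = 1)) ha1
    · have : x * a * x⁻¹ = a := Subtype.ext (e.trans hat.symm)
      exact (mul_inv_eq_iff_eq_mul.1 this).symm
  set f := MonoidHom.transferSylow S hSC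
  set P1 := f.ker.map C.subtype with hP1def
  have hP1 : IsPGroup p P1 := d.hyp.isPGroup_of_odd (by
    rw [card_map_of_injective C.subtype_injective]
    exact MonoidHom.not_dvd_card_ker_transferSylow S hSC) fun x hx => hexp x (map_subtype_le _ hx)
  have hmem : ∀ x ∈ C, x ^ p = 1 → x ∈ P1 := by
    intro x hx hxp
    refine ⟨⟨x, hx⟩, ?_, rfl⟩
    show f ⟨x, hx⟩ = 1
    have h1 : f ⟨x, hx⟩ ^ p = 1 := by
      rw [← map_pow, show (⟨x, hx⟩ : C) ^ p = 1 from Subtype.ext hxp, map_one]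
    have h2 : f ⟨x, hx⟩ ^ 2 = 1 := by
      have h3 := hStwo _ (f ⟨x, hx⟩).2
      apply Subtype.ext
      apply Subtype.ext
      rcases h3 with e | e
      · simp [e]
      · simp [e, pow_two, d.sq F.tE]
    simpa [d.hyp.coprime_two.symm.gcd_eq_one] using pow_gcd_eq_one.2 ⟨h1, h2⟩
  have hval : ∀ c : C, f c ≠ 1 → ((f c : C) : G) = t := fun c hc =>
    (hStwo _ (f c).2).resolve_left fun e => hc (Subtype.ext (Subtype.ext e))
  have hft : f ⟨t, htC⟩ ≠ 1 := by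
    intro e
    have h1 := d.hyp.pow_p hP1 (⟨_, e, rfl⟩ : t ∈ P1)
    have h2 : 2 ∣ p := ht2 ▸ orderOf_dvd_of_pow_eq_one h1
    exact d.hyp.ne_two ((Nat.prime_dvd_prime_iff_eq Nat.prime_two d.hyp.prime).1 h2).symm
  have hdec : ∀ x ∈ C, x ∈ P1 ∨ x * t ∈ P1 := by
    intro x hx
    by_cases h : f ⟨x, hx⟩ = 1
    · exact Or.inl ⟨_, h, rfl⟩
    · refine Or.inr ⟨⟨x, hx⟩ * ⟨t, htC⟩, ?_, rfl⟩
      show f _ = 1
      rw [map_mul]
      apply Subtype.ext
      apply Subtype.ext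
      simp [hval _ h, hval _ hft, d.sq F.tE]
  refine ⟨P1, hP1, fun x => ⟨fun hx => ⟨map_subtype_le _ hx, d.hyp.pow_p hP1 hx⟩,
    fun hx => hmem x hx.1 hx.2⟩, hdec, ?_⟩
  have hsurj : Function.Surjective f := by
    rintro ⟨a, ha⟩
    rcases hStwo a ha with e | e
    · exact ⟨1, by rw [map_one]; exact Subtype.ext (Subtype.ext e.symm)⟩
    · exact ⟨⟨t, htC⟩, Subtype.ext (Subtype.ext ((hval _ hft).trans e.symm))⟩
  have hc := card_mul_index f.ker
  rw [Subgroup.index_ker, MonoidHom.range_eq_top.2 hsurj, Subgroup.card_top] at hc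
  have hS2 : Nat.card S = 2 := by
    rw [Nat.card_eq_two_iff]
    refine ⟨⟨_, htS⟩, 1, fun e => F.t_one ?_, ?_⟩
    · simpa using congrArg (fun w : (S : Subgroup C) => ((w : C) : G)) e
    · ext ⟨a, ha⟩
      simp only [Set.mem_insert_iff, Set.mem_singleton_iff, Set.mem_univ, iff_true]
      rcases hStwo a ha with e | e
      · exact Or.inr (Subtype.ext (Subtype.ext e))
      · exact Or.inl (Subtype.ext (Subtype.ext e))
  rw [hP1def, card_map_of_injective C.subtype_injective, ← hc, hS2, mul_comm]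

theorem Fixed.P1_inf (F : Fixed G p E φ t N₀) {P1 : Subgroup G}
    (hP1 : ∀ x, x ∈ P1 ↔ x ∈ centralizer ({φ} : Set G) ∧ x ^ p = 1) {x : G} (hx : x ∈ P1)
    (hxM : x ∈ 𝓜) : x ∈ zpowers φ :=
  F.p_elem_eq F.mem hxM F.phi_ne_one F.pow ((hP1 x).1 hx).2
    (mem_centralizer_singleton_iff.1 ((hP1 x).1 hx).1).symm

/-- `P1` is transitive on the fixed points of `φ`. -/
theorem Fixed.fix_trans (F : Fixed G p E φ t N₀) {P1 : Subgroup G}
    (hP1 : ∀ x, x ∈ P1 ↔ x ∈ centralizer ({φ} : Set G) ∧ x ^ p = 1)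
    (hdec : ∀ x ∈ centralizer ({φ} : Set G), x ∈ P1 ∨ x * t ∈ P1) {g : G}
    (hg : g⁻¹ * φ * g ∈ 𝓜) : ∃ k ∈ P1, k⁻¹ * g ∈ 𝓜 := by
  have d := F.data
  set C := centralizer ({φ} : Set G)
  have htM : t ∈ 𝓜 := le_normalizer F.tE
  obtain ⟨m, hm, hmz⟩ := F.exists_conj_phi hg
    (fun e => F.phi_ne_one (by
      rw [show φ = g * (g⁻¹ * φ * g) * g⁻¹ by group, e, mul_one, mul_inv_cancel]))
    (by conv_lhs => arg 1; rw [show g⁻¹ * φ * g = g⁻¹ * φ * g⁻¹⁻¹ by rw [inv_inv]]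
        rw [conj_pow, F.pow, mul_one, mul_inv_cancel])
  set h := g * m⁻¹ with hh
  obtain ⟨i, hi⟩ := mem_zpowers_iff.1 hmz
  have hht : h * t * h⁻¹ * φ = φ * (h * t * h⁻¹) := by
    have h1 : φ = h * φ ^ i * h⁻¹ := by rw [hi, hh]; group
    have h2 := ((show Commute φ t from F.comm).zpow_left i).eq
    conv_lhs => arg 2; rw [h1]
    conv_rhs => arg 1; rw [h1]
    calc h * t * h⁻¹ * (h * φ ^ i * h⁻¹) = h * (t * φ ^ i) * h⁻¹ := by group
      _ = h * (φ ^ i * t) * h⁻¹ := by rw [h2]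
      _ = _ := by group
  set s := h * t * h⁻¹ with hs
  have htt := d.sq F.tE
  have hsC : s ∈ C := mem_centralizer_singleton_iff.2 hht
  have hs2 : s * s = 1 := by
    rw [hs, show h * t * h⁻¹ * (h * t * h⁻¹) = h * (t * t) * h⁻¹ by group, htt, mul_one,
      mul_inv_cancel]
  have hs1 : s ≠ 1 := fun e => F.t_one (by
    rw [show t = h⁻¹ * s * h by rw [hs]; group, e, mul_one, inv_mul_cancel])
  -- conjugate `s` to `t` inside `P1`
  have hy : s * t ∈ P1 := by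
    refine (hdec s hsC).resolve_left fun h' => hs1 ?_
    have := ((hP1 s).1 h').2
    obtain ⟨k, hk⟩ := d.hyp.odd
    rwa [hk, pow_succ, pow_mul, pow_two, hs2, one_pow, one_mul] at this
  obtain ⟨k, hk⟩ := d.hyp.odd
  set y := s * t
  have hyp : y ^ p = 1 := ((hP1 y).1 hy).2
  have hty : t * y * t⁻¹ = y⁻¹ := by
    rw [show y⁻¹ = t⁻¹ * s⁻¹ by simp [y], inv_eq_of_mul_eq_one_right hs2, inv_eq_of_mul_eq_one_right htt]
    simp only [y]
    rw [show t * (s * t) * t = t * s * (t * t) by group, htt, mul_one]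
  set z := y ^ (k + 1) with hz
  have hzz : z * z = y := by
    rw [hz, ← pow_add, show k + 1 + (k + 1) = p + 1 by omega, pow_succ, hyp, one_mul]
  have htz : t * z⁻¹ = z * t := by
    have : t * z * t⁻¹ = z⁻¹ := by rw [hz, ← conj_pow, hty, inv_pow]
    have h2 : t * z⁻¹ * t⁻¹ = z := by
      rw [show t * z⁻¹ * t⁻¹ = (t * z * t⁻¹)⁻¹ by group, this, inv_inv]
    exact mul_inv_eq_iff_eq_mul.1 h2
  have hst : z⁻¹ * s * z = t := by
    have h3 : s = z * z * t := by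
      rw [hzz]; simp only [y]; rw [mul_assoc, htt, mul_one]
    rw [h3, show z⁻¹ * (z * z * t) * z = z * t * z by group, ← htz, inv_mul_cancel_right]
  have hzP : z ∈ P1 := pow_mem hy _
  refine ⟨z, hzP, ?_⟩
  have hc : z⁻¹ * h ∈ centralizer ({t} : Set G) := mem_centralizer_singleton_iff.2 (by
    calc z⁻¹ * h * t = (z⁻¹ * s * z) * (z⁻¹ * h) := by rw [hs]; group
      _ = _ := by rw [hst])
  have := mul_mem (d.cent t F.tE F.t_one hc) hm
  rwa [hh, show z⁻¹ * (g * m⁻¹) * m = z⁻¹ * g by group] at this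

/-- The order of the `p'`-part of a two-point stabiliser. -/
theorem Fixed.card_kernel (F : Fixed G p E φ t N₀) {u : G} (hu : orderOf u = 2) (huM : u ∉ 𝓜) :
    Nat.card ↥(twoPt 𝓜 u ⊓ N₀) = 𝐦 := by
  have d := F.data
  haveI := d.hyp.fact
  set D := twoPt 𝓜 u
  have hDM : D ≤ 𝓜 := fun x hx => (mem_twoPt.1 hx).1
  obtain ⟨c, hc⟩ := IsPGroup.iff_card.1 (d.cu_isPGroup hu huM)
  have hD := d.card_twoPt hu huM
  rw [hc] at hD
  haveI : (N₀.subgroupOf 𝓜).Normal := normal_subgroupOf_of_le_normalizer F.N₀_norm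
  have hr : N₀.relIndex D ∣ p := by
    have h1 := (N₀.subgroupOf 𝓜).relIndex_dvd_index_of_normal (D.subgroupOf 𝓜)
    rwa [relIndex_subgroupOf hDM, ← relIndex, F.N₀_index] at h1
  have h2 : Nat.card ↥(D ⊓ N₀) * N₀.relIndex D = Nat.card D := by
    rw [inf_comm, ← inf_relIndex_right N₀ D,
      ← Nat.card_congr (subgroupOfEquivOfLe (inf_le_right : N₀ ⊓ D ≤ D)).toEquiv]
    exact card_mul_index _
  have hcop : (Nat.card ↥(D ⊓ N₀)).Coprime p :=
    ((Nat.Prime.coprime_iff_not_dvd d.hyp.prime).2 fun h =>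
      F.p_ndvd_N₀ (h.trans (card_dvd_of_le inf_le_right))).symm
  refine Nat.dvd_antisymm ?_ ?_
  · exact (hcop.pow_right c).dvd_of_dvd_mul_right (hD ▸ Dvd.intro _ h2)
  · refine (((Nat.Prime.coprime_iff_not_dvd d.hyp.prime).2 F.fix.m_ndvd).symm.coprime_dvd_right
      hr).dvd_of_dvd_mul_right ?_
    rw [h2, hD]
    exact Dvd.intro _ rfl

theorem Fixed.pow_kernel (F : Fixed G p E φ t N₀) {u : G} (hu : orderOf u = 2) (huM : u ∉ 𝓜)
    {x : G} (hx : x ∈ twoPt 𝓜 u ⊓ N₀) : x ^ 𝐦 = 1 := by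
  have := pow_card_eq_one' (x := (⟨x, hx⟩ : ↥(twoPt 𝓜 u ⊓ N₀)))
  rw [F.card_kernel hu huM] at this
  exact congrArg Subtype.val this

/-- The involution inverts the kernel. -/
theorem Fixed.inverts (F : Fixed G p E φ t N₀) {u : G} (hu : orderOf u = 2) (huM : u ∉ 𝓜)
    {x : G} (hx : x ∈ twoPt 𝓜 u ⊓ N₀) : u * x * u⁻¹ = x⁻¹ := by
  have d := F.data
  haveI := d.hyp.fact
  set K := twoPt 𝓜 u ⊓ N₀
  have huu := SECount.invo_sq hu
  have huinv := SECount.invo_inv hu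
  have hconj : ∀ a ∈ K, u * a * u⁻¹ ∈ K := by
    intro a ha
    obtain ⟨h1, h2⟩ := mem_twoPt.1 ha.1
    have h3 : u * a * u⁻¹ ∈ 𝓜 := by rw [huinv] at h2 ⊢; exact h2
    refine ⟨mem_twoPt.2 ⟨h3, ?_⟩, F.mem_N₀ h3 ?_⟩
    · rw [show u⁻¹ * (u * a * u⁻¹) * u = a by group]; exact h1
    · rw [conj_pow, F.pow_kernel hu huM ha, mul_one, mul_inv_cancel]
  have hfix : ∀ a ∈ K, u * a * u⁻¹ = a → a = 1 := by
    intro a ha e
    have hac : a ∈ twoPt 𝓜 u ⊓ centralizer ({u} : Set G) :=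
      ⟨ha.1, mem_centralizer_singleton_iff.2 (mul_inv_eq_iff_eq_mul.1 e).symm⟩
    have h1 := d.hyp.pow_p (d.cu_isPGroup hu huM) hac
    exact F.N₀_p a ha.2 h1
  let g : K → K := fun a => ⟨(a : G)⁻¹ * (u * a * u⁻¹), mul_mem (inv_mem a.2) (hconj _ a.2)⟩
  have hg : Function.Injective g := by
    intro a b e
    have e1 : (a : G)⁻¹ * (u * a * u⁻¹) = (b : G)⁻¹ * (u * b * u⁻¹) := congrArg Subtype.val e
    have e2 : u * ((b : G) * (a : G)⁻¹)⁻¹ * u⁻¹ = ((b : G) * (a : G)⁻¹)⁻¹ := by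
      calc u * ((b : G) * (a : G)⁻¹)⁻¹ * u⁻¹ = a * ((a : G)⁻¹ * (u * a * u⁻¹)) * (u * b * u⁻¹)⁻¹ := by
            group
        _ = _ := by rw [e1]; group
    have := hfix _ (inv_mem (mul_mem b.2 (inv_mem a.2))) e2
    exact (Subtype.ext (mul_inv_eq_one.1 (inv_eq_one.1 this))).symm
  obtain ⟨a, ha⟩ := (Finite.injective_iff_surjective.1 hg) ⟨x, hx⟩
  rw [← (show (a : G)⁻¹ * (u * a * u⁻¹) = x from congrArg Subtype.val ha)]
  simp only [huinv, mul_inv_rev, inv_inv]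
  calc u * ((a : G)⁻¹ * (u * a * u)) * u = u * (a : G)⁻¹ * u * a * (u * u) := by group
    _ = u * ((a : G)⁻¹ * u) * a := by rw [huu]; group

theorem Fixed.kernel_comm (F : Fixed G p E φ t N₀) {u : G} (hu : orderOf u = 2) (huM : u ∉ 𝓜)
    {x y : G} (hx : x ∈ twoPt 𝓜 u ⊓ N₀) (hy : y ∈ twoPt 𝓜 u ⊓ N₀) : x * y = y * x := by
  have h := F.inverts hu huM (mul_mem hx hy)
  rw [show u * (x * y) * u⁻¹ = u * x * u⁻¹ * (u * y * u⁻¹) by group, F.inverts hu huM hx,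
    F.inverts hu huM hy, ← mul_inv_rev, inv_inj] at h
  exact h.symm

theorem Fixed.exists_invo_coset (F : Fixed G p E φ t N₀) {g : G} (hg : g ∉ 𝓜) :
    ∃ u : G, orderOf u = 2 ∧ g⁻¹ * u ∈ 𝓜 ∧ u ∉ 𝓜 := by
  have d := F.data
  have h1 := SECount.card_coset_invo d.stronglyEmbedded hg
  haveI : Nonempty {s : G // orderOf s = 2 ∧ s ∈ 𝓜} :=
    ⟨⟨t, d.order_two F.tE F.t_one, le_normalizer F.tE⟩⟩
  have h2 := Nat.card_pos (α := {s : G // orderOf s = 2 ∧ s ∈ 𝓜})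
  rw [← h1] at h2
  obtain ⟨⟨u, hu⟩⟩ := (Nat.card_pos_iff.1 h2).1
  refine ⟨u, hu.1, hu.2, fun e => hg ?_⟩
  have := mul_mem e (inv_mem hu.2)
  rwa [mul_inv_rev, inv_inv, mul_inv_cancel_left] at this

/-- Facts about the stabiliser of `1` and a fixed point `k` of `φ`. -/
theorem Fixed.twoPt_phi (F : Fixed G p E φ t N₀) {k : G} (hk : k⁻¹ * φ * k ∈ 𝓜) (hkM : k ∉ 𝓜) :
    φ ∈ twoPt 𝓜 k ∧ Nat.card (twoPt 𝓜 k) = 𝐦 * p ∧ Nat.card ↥(twoPt 𝓜 k ⊓ N₀) = 𝐦 := by
  have d := F.data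
  haveI := d.hyp.fact
  obtain ⟨u, hu, hku, huM⟩ := F.exists_invo_coset hkM
  have hφD : φ ∈ twoPt 𝓜 k := mem_twoPt.2 ⟨F.mem, hk⟩
  refine ⟨hφD, ?_, by rw [twoPt_congr hku]; exact F.card_kernel hu huM⟩
  rw [twoPt_congr hku] at hφD ⊢
  rw [d.card_twoPt hu huM]
  obtain ⟨c, hc⟩ := IsPGroup.iff_card.1 (d.cu_isPGroup hu huM)
  rw [hc]
  have hp1 : p ∣ Nat.card (twoPt 𝓜 u) := by
    have h := Subgroup.orderOf_dvd_natCard _ hφD
    rwa [orderOf_eq_prime F.pow F.phi_ne_one] at h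
  rw [d.card_twoPt hu huM, hc] at hp1
  rcases c with _ | _ | c
  · exact absurd (by simpa using hp1) F.fix.m_ndvd
  · rw [pow_one]
  · exfalso
    refine F.sq_ndvd ?_
    refine (pow_two p ▸ pow_dvd_pow p (by omega : 2 ≤ c + 1 + 1) : p * p ∣ p ^ (c + 1 + 1)).trans ?_
    rw [← hc]
    exact card_dvd_of_le fun x hx => (mem_twoPt.1 hx.1).1

/-- Two complements of `E` in `M` through `φ`. -/
theorem Fixed.complement_cases (F : Fixed G p E φ t N₀) {H H' : Subgroup G} (hH : H ≤ 𝓜)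
    (hH' : H' ≤ 𝓜) (hc : Nat.card H = 𝐦 * p) (hc' : Nat.card H' = 𝐦 * p) (hφ : φ ∈ H)
    (hφ' : φ ∈ H') : H' = H ∨ ∀ x, x ∈ H' ↔ t * x * t ∈ H := by
  have d := F.data
  haveI := Fact.mk Nat.prime_two
  have hEn : ((E : Subgroup G).subgroupOf 𝓜).Normal := normal_subgroupOf_of_le_normalizer le_rfl
  haveI := hEn
  haveI : IsMulCommutative ((E : Subgroup G).subgroupOf 𝓜) :=
    ⟨⟨fun a b => Subtype.ext (Subtype.ext (d.comm a.2 b.2))⟩⟩
  have hE2 : Even (Nat.card (E : Subgroup G)) := by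
    obtain ⟨k, hk⟩ := IsPGroup.iff_card.1 E.isPGroup'
    rw [hk]
    refine (Nat.even_pow).2 ⟨even_two, fun e => ?_⟩
    have := d.four
    rw [hk, e] at this
    omega
  have hmp : Odd (𝐦 * p) := by
    refine Nat.odd_mul.2 ⟨?_, d.hyp.odd⟩
    exact Nat.Even.sub_odd Nat.card_pos hE2 odd_one
  have hcopE : (Nat.card (E : Subgroup G)).Coprime (𝐦 * p) := by
    obtain ⟨k, hk⟩ := IsPGroup.iff_card.1 E.isPGroup'
    conv_lhs => rw [hk]
    exact Nat.Coprime.pow_left k (Nat.coprime_two_left.2 hmp)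
  have hcE : Nat.card ((E : Subgroup G).subgroupOf 𝓜) = Nat.card (E : Subgroup G) :=
    Nat.card_congr (subgroupOfEquivOfLe le_normalizer).toEquiv
  have hEidx : ((E : Subgroup G).subgroupOf 𝓜).index = 𝐦 * p := by
    have h := card_mul_index ((E : Subgroup G).subgroupOf 𝓜)
    rw [hcE, F.card_M] at h
    exact Nat.eq_of_mul_eq_mul_left Nat.card_pos h
  have hcompl : ∀ L : Subgroup G, L ≤ 𝓜 → Nat.card L = 𝐦 * p →
      Subgroup.IsComplement' ((E : Subgroup G).subgroupOf 𝓜) (L.subgroupOf 𝓜) := by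
    intro L hL hLc
    refine isComplement'_of_coprime ?_ ?_
    · rw [hcE, Nat.card_congr (subgroupOfEquivOfLe hL).toEquiv, hLc, F.card_M]
    · rw [hcE, Nat.card_congr (subgroupOfEquivOfLe hL).toEquiv, hLc]; exact hcopE
  obtain ⟨g, hg⟩ := Gaschutz.conj_complements (K := (E : Subgroup G).subgroupOf 𝓜)
    (U := (E : Subgroup G).subgroupOf 𝓜) le_rfl (by rw [hcE, hEidx]; exact hcopE) _ _
    (hcompl H hH hc) (hcompl H' hH' hc') (by
      rw [inf_comm, (hcompl H hH hc).disjoint.eq_bot, inf_comm, (hcompl H' hH' hc').disjoint.eq_bot])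
  obtain ⟨⟨⟨e, he⟩, ⟨h, hh⟩⟩, hgeq⟩ := (hcompl H hH hc).2 g
  have hg' : (g : G) = (e : G) * (h : G) := (congrArg Subtype.val hgeq).symm
  have heE : (e : G) ∈ (E : Subgroup G) := mem_subgroupOf.1 he
  have hhH : (h : G) ∈ H := mem_subgroupOf.1 hh
  -- `H' = e H e⁻¹`
  have hiff : ∀ x : G, x ∈ H' ↔ (e : G)⁻¹ * x * e ∈ H := by
    intro x
    have key : ∀ y : 𝓜, y ∈ H'.subgroupOf 𝓜 ↔ g⁻¹ * y * g ∈ H.subgroupOf 𝓜 := by
      intro y
      rw [← hg, Subgroup.mem_pointwise_smul_iff_inv_smul_mem]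
      simp [MulAut.smul_def, ← map_inv, mul_assoc]
    constructor
    · intro hx
      have h1 : (g : G)⁻¹ * x * g ∈ H := (key ⟨x, hH' hx⟩).1 hx
      rw [hg'] at h1
      have := mul_mem (mul_mem hhH h1) (inv_mem hhH)
      simpa [mul_assoc] using this
    · intro hx
      have hxM : x ∈ 𝓜 := by
        have := mul_mem (mul_mem (le_normalizer heE) (hH hx)) (inv_mem (le_normalizer heE))
        simpa [mul_assoc] using this
      refine (key ⟨x, hxM⟩).2 ?_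
      show (g : G)⁻¹ * x * g ∈ H
      rw [hg', show ((e : G) * (h : G))⁻¹ * x * ((e : G) * h) = (h : G)⁻¹ * ((e : G)⁻¹ * x * e) * h by
        group]
      exact mul_mem (mul_mem (inv_mem hhH) hx) hhH
  -- `e` centralises `φ`
  have hee := d.sq heE
  have heinv : (e : G)⁻¹ = e := inv_eq_of_mul_eq_one_right hee
  have h1 : φ⁻¹ * ((e : G)⁻¹ * φ * e) ∈ H := mul_mem (inv_mem hφ) ((hiff φ).1 hφ')
  have h2 : φ⁻¹ * ((e : G)⁻¹ * φ * e) ∈ (E : Subgroup G) := by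
    rw [show φ⁻¹ * ((e : G)⁻¹ * φ * e) = φ⁻¹ * (e : G)⁻¹ * φ * e by group]
    exact mul_mem ((mem_normalizer_iff''.1 F.mem _).1 (inv_mem heE)) heE
  have h3 : φ⁻¹ * ((e : G)⁻¹ * φ * e) = 1 := by
    have h4 := (hcompl H hH hc).disjoint.eq_bot
    have : (⟨_, hH h1⟩ : 𝓜) ∈ (⊥ : Subgroup 𝓜) := by
      rw [← h4]; exact ⟨mem_subgroupOf.2 h2, mem_subgroupOf.2 h1⟩
    exact congrArg Subtype.val (Subgroup.mem_bot.1 this)
  have hce : φ * e = e * φ := by
    have h4 : (e : G)⁻¹ * φ * e = φ := (inv_mul_eq_one.1 h3).symm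
    calc φ * (e : G) = e * ((e : G)⁻¹ * φ * e) := by group
      _ = _ := by rw [h4]
  by_cases he1 : (e : G) = 1
  · left
    ext x
    simpa [he1] using hiff x
  · right
    have het : t = (e : G) := F.fix.unique φ F.mem F.notC t F.tE _ heE F.t_one he1 F.comm hce
    intro x
    rw [hiff x, heinv, ← het]

/-- An element of `P1` normalising such a complement lies in `⟨φ⟩`. -/
theorem Fixed.normalizing_mem (F : Fixed G p E φ t N₀) {P1 : Subgroup G} (hP : IsPGroup p P1)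
    (hP1 : ∀ x, x ∈ P1 ↔ x ∈ centralizer ({φ} : Set G) ∧ x ^ p = 1) {k x : G}
    (hk : k⁻¹ * φ * k ∈ 𝓜) (hkM : k ∉ 𝓜) (hx : x ∈ P1)
    (hn : ∀ y, y ∈ twoPt 𝓜 k ↔ x * y * x⁻¹ ∈ twoPt 𝓜 k) : x ∈ zpowers φ := by
  have d := F.data
  by_contra hxφ
  obtain ⟨hφD, -, hKc⟩ := F.twoPt_phi hk hkM
  set K := twoPt 𝓜 k ⊓ N₀
  have hKm : ∀ y ∈ K, y ^ 𝐦 = 1 := fun y hy => by
    have := pow_card_eq_one' (x := (⟨y, hy⟩ : K))
    rw [hKc] at this
    exact congrArg Subtype.val this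
  have hxK : x ∈ normalizer (K : Set G) := by
    have key : ∀ z, (∀ y, y ∈ twoPt 𝓜 k → z * y * z⁻¹ ∈ twoPt 𝓜 k) → ∀ y ∈ K, z * y * z⁻¹ ∈ K :=
      fun z hz y hy => ⟨hz y hy.1, F.mem_N₀ (mem_twoPt.1 (hz y hy.1)).1 (by
        rw [conj_pow, hKm y hy, mul_one, mul_inv_cancel])⟩
    rw [mem_normalizer_iff]
    refine fun y => ⟨key x (fun y => (hn y).1) y, fun hy => ?_⟩
    have := key x⁻¹ (fun y hy => (hn _).2 (by simpa [mul_assoc] using hy)) _ hy
    simpa [mul_assoc] using this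
  have hφK : φ ∈ normalizer (K : Set G) := by
    rw [mem_normalizer_iff]
    intro y
    have hN := (mem_normalizer_iff.1 (F.N₀_norm F.mem)) y
    refine ⟨fun hy => ⟨(twoPt 𝓜 k).mul_mem ((twoPt 𝓜 k).mul_mem hφD hy.1) ((twoPt 𝓜 k).inv_mem hφD), hN.1 hy.2⟩,
      fun hy => ⟨?_, hN.2 hy.2⟩⟩
    have := (twoPt 𝓜 k).mul_mem ((twoPt 𝓜 k).mul_mem ((twoPt 𝓜 k).inv_mem hφD) hy.1) hφD
    rwa [show φ⁻¹ * (φ * y * φ⁻¹) * φ = y by group] at this
  have hle : closure ({x, φ} : Set G) ≤ P1 := (closure_le _).2 (by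
    rintro z (rfl | rfl)
    · exact hx
    · exact (hP1 _).2 ⟨mem_centralizer_singleton_iff.2 rfl, F.pow⟩)
  have hK : K ≤ ⊥ := Coprime.le_of_pair d.hyp.prime
    ((Nat.Prime.coprime_iff_not_dvd d.hyp.prime).2 (hKc ▸ F.fix.m_ndvd))
    ((closure_le _).2 (by rintro z (rfl | rfl); exacts [hxK, hφK]))
    (mem_centralizer_singleton_iff.1 ((hP1 x).1 hx).1) ((hP1 x).1 hx).2 F.pow F.phi_ne_one hxφ
    fun z hz hz1 y hy => by
      rw [Subgroup.mem_bot]
      have h1 := d.hyp.cent_mem_p hz1 ((hP1 z).1 (hle hz)).2 y hy.2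
      obtain ⟨e1, e2, e3⟩ := d.hyp.odd_pow_p (g := y) fun r hr hrd => d.hyp.eq_or_eq_of_dvd h1 hr hrd
      have hym := hKm y hy.1
      have hcop : (2 * p).Coprime 𝐦 := by
        refine Nat.Coprime.mul_left (Nat.coprime_two_left.2 ?_)
          ((Nat.Prime.coprime_iff_not_dvd d.hyp.prime).2 F.fix.m_ndvd)
        haveI := Fact.mk Nat.prime_two
        obtain ⟨l, hl⟩ := IsPGroup.iff_card.1 E.isPGroup'
        rw [hl]
        refine Nat.Even.sub_odd (Nat.one_le_two_pow) ?_ odd_one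
        refine (Nat.even_pow).2 ⟨even_two, fun e => ?_⟩
        have := d.four
        rw [hl, e] at this
        omega
      simpa [hcop.gcd_eq_one] using pow_gcd_eq_one.2 ⟨h1, hym⟩
  have := hKc.symm.trans (by rw [le_bot_iff.1 hK, Subgroup.card_bot] : Nat.card K = 1)
  have := d.four
  omega

end Cfsg.Agent.Lib.TwoPEven
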