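import Mathlib
import Cfsg.Agent.Lib.TwoPEven.SECase
import Cfsg.Agent.Lib.SECount.TransferMod

/-!
The strongly embedded case is impossible: reduction to `|G| ∈ {1512, 17640}` and their exclusion.
-/

set_option autoImplicit false

namespace Cfsg.Agent.Lib.TwoPEven

open Subgroup
open Cfsg.Agent.Lib.CIT (twoPt mem_twoPt)

universe u

variable {G : Type u} [Group G] [Finite G] {p : ℕ} {E : Sylow 2 G} {φ t : G} {N₀ : Subgroup G}

local notation "𝓜" => normalizer ((E : Subgroup G) : Set G)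
local notation "𝐦" => Nat.card (E : Subgroup G) - 1

theorem Fixed.tt (F : Fixed G p E φ t N₀) : t * t = 1 := F.data.sq F.tE

theorem Fixed.phi_mem (F : Fixed G p E φ t N₀) {P1 : Subgroup G}
    (hP1 : ∀ x, x ∈ P1 ↔ x ∈ centralizer ({φ} : Set G) ∧ x ^ p = 1) : φ ∈ P1 :=
  (hP1 φ).2 ⟨mem_centralizer_singleton_iff.2 rfl, F.pow⟩

theorem Fixed.conj_phi_of_P1 (F : Fixed G p E φ t N₀) {P1 : Subgroup G}
    (hP1 : ∀ x, x ∈ P1 ↔ x ∈ centralizer ({φ} : Set G) ∧ x ^ p = 1) {k : G} (hk : k ∈ P1) :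
    k⁻¹ * φ * k ∈ 𝓜 := by
  rw [mul_assoc, ← mem_centralizer_singleton_iff.1 ((hP1 k).1 hk).1, ← mul_assoc, inv_mul_cancel,
    one_mul]
  exact F.mem

/-- `p = 3` and `|P1| = 9`. -/
theorem Fixed.eq_three (F : Fixed G p E φ t N₀) {P1 : Subgroup G} (hP : IsPGroup p P1)
    (hP1 : ∀ x, x ∈ P1 ↔ x ∈ centralizer ({φ} : Set G) ∧ x ^ p = 1) {k₀ : G} (hk₀ : k₀ ∈ P1)
    (hk₀M : k₀ ∉ 𝓜) : p = 3 ∧ Nat.card P1 = 9 := by
  classical
  have d := F.data
  haveI := d.hyp.fact
  let H : G → Subgroup G := fun k => twoPt 𝓜 k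
  have hinv : ∀ {k : G}, k ∉ 𝓜 → k⁻¹ ∉ 𝓜 := fun h e => h (inv_mem_iff.1 e)
  have hz : zpowers φ ≤ 𝓜 := zpowers_le.2 F.mem
  have hflip : ∀ k ∈ P1, k ∉ 𝓜 → ∀ x, k * x * k⁻¹ ∈ H k ↔ t * x * t ∈ H k := by
    intro k hk hkM x
    obtain ⟨h1, h2, -⟩ := F.twoPt_phi (F.conj_phi_of_P1 hP1 hk) hkM
    obtain ⟨h1', h2', -⟩ := F.twoPt_phi (F.conj_phi_of_P1 hP1 (inv_mem hk)) (hinv hkM)
    have hiff : ∀ y, y ∈ H k⁻¹ ↔ k * y * k⁻¹ ∈ H k := fun y => by
      simp only [H, mem_twoPt, inv_inv]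
      rw [show k⁻¹ * (k * y * k⁻¹) * k = y by group]
      exact and_comm
    rcases F.complement_cases (H := H k) (H' := H k⁻¹) (fun y hy => (mem_twoPt.1 hy).1)
      (fun y hy => (mem_twoPt.1 hy).1) h2 h2' h1 h1' with e | e
    · refine absurd (hz (F.normalizing_mem hP hP1 (F.conj_phi_of_P1 hP1 hk) hkM hk fun y => ?_)) hkM
      show y ∈ H k ↔ k * y * k⁻¹ ∈ H k
      rw [← hiff y, e]
    · exact (hiff x).symm.trans (e x)
  have hsame : ∀ k ∈ P1, k ∉ 𝓜 → ∀ k' ∈ P1, k' ∉ 𝓜 → H k = H k' → k⁻¹ * k' ∈ zpowers φ := by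
    intro k hk hkM k' hk' hk'M e
    have hmem : k' * k⁻¹ ∈ zpowers φ :=
      F.normalizing_mem hP hP1 (F.conj_phi_of_P1 hP1 hk) hkM (mul_mem hk' (inv_mem hk)) fun y => by
        show y ∈ H k ↔ k' * k⁻¹ * y * (k' * k⁻¹)⁻¹ ∈ H k
        have h1 := hflip k hk hkM (k⁻¹ * y * k)
        have h2 := hflip k' hk' hk'M (k⁻¹ * y * k)
        rw [← e] at h2
        rw [show k * (k⁻¹ * y * k) * k⁻¹ = y by group] at h1
        rw [h1, ← h2, show k' * k⁻¹ * y * (k' * k⁻¹)⁻¹ = k' * (k⁻¹ * y * k) * k'⁻¹ by group]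
    obtain ⟨i, hi⟩ := mem_zpowers_iff.1 hmem
    have hc : Commute (φ ^ i) k :=
      (show Commute φ k from (mem_centralizer_singleton_iff.1 ((hP1 k).1 hk).1).symm).zpow_left i
    rw [show k⁻¹ * k' = k⁻¹ * (k' * k⁻¹) * k by group, ← hi, mul_assoc, hc.eq, inv_mul_cancel_left]
    exact zpow_mem (mem_zpowers φ) i
  have hcases : ∀ k ∈ P1, k ∈ zpowers φ ∨ k₀⁻¹ * k ∈ zpowers φ ∨ k₀ * k ∈ zpowers φ := by
    intro k hk
    by_cases hkM : k ∈ 𝓜
    · exact Or.inl (F.P1_inf hP1 hk hkM)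
    obtain ⟨h1, h2, -⟩ := F.twoPt_phi (F.conj_phi_of_P1 hP1 hk) hkM
    obtain ⟨g1, g2, -⟩ := F.twoPt_phi (F.conj_phi_of_P1 hP1 hk₀) hk₀M
    rcases F.complement_cases (H := H k₀) (H' := H k) (fun y hy => (mem_twoPt.1 hy).1)
      (fun y hy => (mem_twoPt.1 hy).1) g2 h2 g1 h1 with e | e
    · exact Or.inr (Or.inl (hsame k₀ hk₀ hk₀M k hk hkM e.symm))
    · have e' : H k₀⁻¹ = H k := by
        ext y
        rw [e y, ← hflip k₀ hk₀ hk₀M y]
        simp only [H, mem_twoPt, inv_inv]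
        rw [show k₀⁻¹ * (k₀ * y * k₀⁻¹) * k₀ = y by group]
        exact and_comm
      have := hsame k₀⁻¹ (inv_mem hk₀) (hinv hk₀M) k hk hkM e'
      rw [inv_inv] at this
      exact Or.inr (Or.inr this)
  have hle : Nat.card P1 ≤ 3 * p := by
    let c : Fin 3 → G := ![1, k₀, k₀⁻¹]
    let S := {x : G // ∃ i, (c i)⁻¹ * x ∈ zpowers φ}
    have h1 : Nat.card P1 ≤ Nat.card S := Nat.card_le_card_of_injective
      (fun x => ⟨x.1, by
        rcases hcases x.1 x.2 with h | h | h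
        · exact ⟨0, by simpa [c] using h⟩
        · exact ⟨1, by simpa [c] using h⟩
        · exact ⟨2, by simpa [c] using h⟩⟩)
      (fun a b e => Subtype.ext (congrArg (fun w : S => w.1) e))
    have h2 : Nat.card S ≤ Nat.card (Fin 3 × zpowers φ) := Nat.card_le_card_of_surjective
      (fun x => (⟨c x.1 * x.2, x.1, by rw [inv_mul_cancel_left]; exact x.2.2⟩ : S))
      (fun s => by
        obtain ⟨i, hi⟩ := s.2
        exact ⟨(i, ⟨_, hi⟩), Subtype.ext (mul_inv_cancel_left (c i) s.1)⟩)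
    rw [Nat.card_prod, Nat.card_fin, Nat.card_zpowers, orderOf_eq_prime F.pow F.phi_ne_one] at h2
    exact h1.trans h2
  obtain ⟨j, hj⟩ := IsPGroup.iff_card.1 hP
  have hlt : p < Nat.card P1 := by
    have h1 : zpowers φ < P1 := lt_of_le_of_ne (zpowers_le.2 (F.phi_mem hP1))
      fun e => hk₀M (hz (e ▸ hk₀))
    refine lt_of_lt_of_le' ?_ (show p ≤ Nat.card (zpowers φ) by
      rw [Nat.card_zpowers, orderOf_eq_prime F.pow F.phi_ne_one])
    exact Set.ncard_lt_ncard h1 (Set.toFinite _)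
  have hp3 : 3 ≤ p := by
    have := d.hyp.prime.two_le
    have := d.hyp.ne_two
    omega
  rw [hj] at hle hlt
  have hj2 : 2 ≤ j := by
    by_contra h
    have := Nat.pow_le_pow_right d.hyp.prime.pos (show j ≤ 1 by omega)
    rw [pow_one] at this
    omega
  have hsq := Nat.pow_le_pow_right d.hyp.prime.pos hj2
  have hp : p = 3 := by nlinarith
  subst hp
  refine ⟨rfl, ?_⟩
  rcases j with _ | _ | _ | j
  · omega
  · omega
  · exact hj
  · exfalso
    have := Nat.pow_le_pow_right (show 0 < 3 by norm_num) (show 3 ≤ j + 1 + 1 + 1 by omega)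
    omega

/-- `|E| = 8`. -/
theorem Fixed.card_eight (F : Fixed G p E φ t N₀) (hp : p = 3) {k₀ : G}
    (hk₀ : k₀⁻¹ * φ * k₀ ∈ 𝓜) (hk₀M : k₀ ∉ 𝓜) : Nat.card (E : Subgroup G) = 8 := by
  classical
  subst hp
  have d := F.data
  haveI := Fact.mk Nat.prime_two
  letI : CommGroup (E : Subgroup G) :=
    { (inferInstance : Group (E : Subgroup G)) with
      mul_comm := fun a b => Subtype.ext (d.comm a.2 b.2) }
  obtain ⟨u, hu, hku, huM⟩ := F.exists_invo_coset hk₀M
  obtain ⟨hφD, -, -⟩ := F.twoPt_phi hk₀ hk₀M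
  rw [twoPt_congr hku] at hφD
  set K := twoPt 𝓜 u ⊓ N₀
  have hKM : K ≤ 𝓜 := fun x hx => (mem_twoPt.1 hx.1).1
  set ψ := Subgroup.normalizerMonoidHom (E : Subgroup G)
  set K' : Subgroup (MulAut ↥(E : Subgroup G)) := (K.subgroupOf 𝓜).map ψ
  have hfix : ∀ (x : G) (hx : x ∈ 𝓜) (v : ↥(E : Subgroup G)), ψ ⟨x, hx⟩ v = v ↔ x * v = (v : G) * x :=
    fun x hx v => by
      rw [Subtype.ext_iff, show ((ψ ⟨x, hx⟩ v : ↥(E : Subgroup G)) : G) = x * v * x⁻¹ from rfl, mul_inv_eq_iff_eq_mul]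
  have hcop : (2 * 3).Coprime 𝐦 := by
    refine Nat.Coprime.mul_left (Nat.coprime_two_left.2 ?_)
      ((Nat.Prime.coprime_iff_not_dvd Nat.prime_three).2 F.fix.m_ndvd)
    obtain ⟨l, hl⟩ := IsPGroup.iff_card.1 E.isPGroup'
    rw [hl]
    refine Nat.Even.sub_odd (Nat.one_le_two_pow) ?_ odd_one
    refine (Nat.even_pow).2 ⟨even_two, fun e => ?_⟩
    have := d.four
    rw [hl, e] at this
    omega
  have hkill : ∀ x ∈ K, x ^ (2 * 3) = 1 → x = 1 := fun x hx h => by
    simpa [hcop.gcd_eq_one] using pow_gcd_eq_one.2 ⟨h, F.pow_kernel hu huM hx⟩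
  have hfree : ∀ x ∈ K, ∀ v : ↥(E : Subgroup G), v ≠ 1 → x * v = (v : G) * x → x = 1 := fun x hx v hv hc =>
    hkill x hx (d.exp_of_commute v.2 (fun e => hv (Subtype.ext e)) hc)
  have hV : ∀ v : ↥(E : Subgroup G), v * v = 1 := fun v => Subtype.ext (d.sq v.2)
  set φ' : MulAut ↥(E : Subgroup G) := ψ ⟨φ, F.mem⟩
  set t' : ↥(E : Subgroup G) := ⟨t, F.tE⟩
  have ht' : t' ≠ 1 := fun e => F.t_one (congrArg Subtype.val e)
  have hφK : ∀ x ∈ K, φ * x * φ⁻¹ ∈ K := fun x hx =>
    ⟨(twoPt 𝓜 u).mul_mem ((twoPt 𝓜 u).mul_mem hφD hx.1) ((twoPt 𝓜 u).inv_mem hφD),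
      ((mem_normalizer_iff.1 (F.N₀_norm F.mem)) x).1 hx.2⟩
  have hres := card_le_of_cubic hV (K := K') ?_ ?_ (φ := φ') ?_ ?_ ?_ (t := t') ht' ?_ ?_ ?_
  · obtain ⟨l, hl⟩ := IsPGroup.iff_card.1 E.isPGroup'
    have h4 := d.four
    have hm := F.fix.m_ndvd
    change Nat.card (E : Subgroup G) ≤ 13 at hres
    rw [hl] at hres h4 hm ⊢
    have hl4 : l < 4 := by
      by_contra h
      have := Nat.pow_le_pow_right Nat.two_pos (show 4 ≤ l by omega)
      omega
    interval_cases l <;> omega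
  · rintro _ ⟨x, hx, rfl⟩ _ ⟨y, hy, rfl⟩
    rw [← map_mul, ← map_mul]
    exact congrArg ψ (Subtype.ext (F.kernel_comm hu huM hx hy))
  · rintro _ ⟨x, hx, rfl⟩ v hv e
    rw [show x = 1 from Subtype.ext (hfree x hx v hv ((hfix x x.2 v).1 e)), map_one]
  · rw [← map_pow, show (⟨φ, F.mem⟩ : 𝓜) ^ 3 = 1 from Subtype.ext F.pow, map_one]
  · rintro _ ⟨x, hx, rfl⟩
    refine ⟨⟨φ, F.mem⟩ * x * ⟨φ, F.mem⟩⁻¹, hφK x hx, ?_⟩
    rw [map_mul, map_mul, map_inv]
  · rintro _ ⟨x, hx, rfl⟩ e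
    have e' : ψ (⟨φ, F.mem⟩ * x * ⟨φ, F.mem⟩⁻¹ * x⁻¹) = 1 := by
      simp only [map_mul, map_inv]
      show φ' * ψ x * φ'⁻¹ * (ψ x)⁻¹ = 1
      rw [e, mul_inv_cancel_right, mul_inv_cancel]
    have h2 : φ * (x : G) * φ⁻¹ * (x : G)⁻¹ ∈ K := mul_mem (hφK x hx) (inv_mem hx)
    have h3 : φ * (x : G) * φ⁻¹ * (x : G)⁻¹ = 1 := by
      refine hfree _ h2 t' ht' ?_
      refine (hfix _ (hKM h2) t').1 ?_
      rw [show (⟨_, hKM h2⟩ : 𝓜) = ⟨φ, F.mem⟩ * x * ⟨φ, F.mem⟩⁻¹ * x⁻¹ from rfl, e']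
      rfl
    have h4 : (x : G) ∈ centralizer ({φ} : Set G) := mem_centralizer_singleton_iff.2
      (mul_inv_eq_iff_eq_mul.1 (mul_inv_eq_one.1 h3)).symm
    rw [show x = 1 from Subtype.ext
      (hkill x hx (d.hyp.cent_mem_p F.phi_ne_one F.pow x h4)), map_one]
  · intro v hv
    haveI := d.hyp.fact
    have hKc : Nat.card K = 𝐦 := F.card_kernel hu huM
    let g : K → {w : ↥(E : Subgroup G) // w ≠ 1} := fun x => ⟨ψ ⟨x, hKM x.2⟩ t', fun e => ht'
      ((map_eq_one_iff _ (ψ ⟨x, hKM x.2⟩).injective).1 e)⟩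
    have hg : Function.Bijective g := by
      refine (Nat.bijective_iff_injective_and_card g).2 ⟨fun a b e => ?_, ?_⟩
      · have e1 : ψ ⟨a, hKM a.2⟩ t' = ψ ⟨b, hKM b.2⟩ t' := congrArg Subtype.val e
        have e2 : ψ ⟨(b : G)⁻¹ * a, hKM (mul_mem (inv_mem b.2) a.2)⟩ t' = t' := by
          rw [show (⟨(b : G)⁻¹ * a, hKM (mul_mem (inv_mem b.2) a.2)⟩ : 𝓜) =
            (⟨b, hKM b.2⟩ : 𝓜)⁻¹ * ⟨a, hKM a.2⟩ from rfl, map_mul, map_inv, MulAut.mul_apply, e1,
            MulAut.inv_apply_self]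
        exact Subtype.ext (inv_mul_eq_one.1 (hfree _ (mul_mem (inv_mem b.2) a.2) t' ht'
          ((hfix _ _ t').1 e2))).symm
      · rw [hKc]
        have : {w : ↥(E : Subgroup G) | w ≠ 1}.ncard = 𝐦 := by
          rw [show {w : ↥(E : Subgroup G) | w ≠ 1} = ({1} : Set ↥(E : Subgroup G))ᶜ from rfl, Set.ncard_compl, Set.ncard_singleton]
        rw [← this, ← Nat.card_coe_set_eq]
        rfl
    obtain ⟨x, hx⟩ := hg.2 ⟨v, hv⟩
    exact ⟨ψ ⟨x, hKM x.2⟩, ⟨⟨x, hKM x.2⟩, x.2, rfl⟩, congrArg Subtype.val hx⟩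
  · exact (hfix φ F.mem t').2 F.comm
  · intro v hv
    by_cases hv1 : v = 1
    · exact Or.inl hv1
    · refine Or.inr (Subtype.ext (F.fix.unique φ F.mem F.notC _ v.2 t F.tE
        (fun e => hv1 (Subtype.ext e)) F.t_one ((hfix φ F.mem v).1 hv) F.comm))

/-- The kernel of a two-point stabiliser through `φ`, with its normaliser. -/
structure Seven (G : Type u) [Group G] (E : Sylow 2 G) (φ : G) (K : Subgroup G) : Prop where
  le : K ≤ normalizer ((E : Subgroup G) : Set G)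
  card : Nat.card K = 7
  cardE : Nat.card (E : Subgroup G) = 8
  cardM : Nat.card (normalizer ((E : Subgroup G) : Set G)) = 168
  stab : Nat.card ↥(normalizer (K : Set G) ⊓ normalizer ((E : Subgroup G) : Set G)) = 21
  phi : φ ∈ normalizer (K : Set G)
  free : φ ∉ centralizer (K : Set G)
  inverting : ∃ u : G, orderOf u = 2 ∧ ∀ x ∈ K, u * x * u⁻¹ = x⁻¹
  point : ∀ g : G, g ∉ normalizer ((E : Subgroup G) : Set G) → ∀ A : Subgroup G,
    Nat.card A = 7 → A ≤ twoPt (normalizer ((E : Subgroup G) : Set G)) g →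
    ∀ B : Subgroup G, Nat.card B = 7 → B ≤ twoPt (normalizer ((E : Subgroup G) : Set G)) g → A = B
  kernel : ∀ g : G, g ∉ normalizer ((E : Subgroup G) : Set G) → ∃ A : Subgroup G,
    Nat.card A = 7 ∧ A ≤ twoPt (normalizer ((E : Subgroup G) : Set G)) g

theorem Fixed.exists_seven (F : Fixed G p E φ t N₀) (hp : p = 3) {k₀ : G}
    (hk₀ : k₀⁻¹ * φ * k₀ ∈ 𝓜) (hk₀M : k₀ ∉ 𝓜) : ∃ K, Seven G E φ K := by
  classical
  have hE := F.card_eight hp hk₀ hk₀M
  subst hp
  have d := F.data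
  obtain ⟨u, hu, hku, huM⟩ := F.exists_invo_coset hk₀M
  obtain ⟨hφD, hDc, hKc⟩ := F.twoPt_phi hk₀ hk₀M
  rw [twoPt_congr hku] at hφD hDc hKc
  have hM := F.card_M
  rw [hE] at hM hDc hKc
  norm_num at hM hDc
  rw [show 8 - 1 = 7 from rfl] at hKc
  set K := twoPt 𝓜 u ⊓ N₀
  have hKM : K ≤ 𝓜 := fun x hx => (mem_twoPt.1 hx.1).1
  have hkill : ∀ x ∈ K, x ^ (2 * 3) = 1 → x = 1 := fun x hx h => by
    have h7 := F.pow_kernel hu huM hx
    rw [hE] at h7
    simpa using pow_gcd_eq_one.2 ⟨h, h7⟩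
  have hone : ∀ x ∈ twoPt 𝓜 u, ∀ y ∈ K, x * y * x⁻¹ ∈ K := fun x hx y hy =>
    ⟨(twoPt 𝓜 u).mul_mem ((twoPt 𝓜 u).mul_mem hx hy.1) ((twoPt 𝓜 u).inv_mem hx),
      ((mem_normalizer_iff.1 (F.N₀_norm (mem_twoPt.1 hx).1)) y).1 hy.2⟩
  have hDN : twoPt 𝓜 u ≤ normalizer (K : Set G) := fun x hx => mem_normalizer_iff.2 fun y =>
    ⟨hone x hx y, fun hy => by simpa [mul_assoc] using hone x⁻¹ (inv_mem hx) _ hy⟩
  refine ⟨K, hKM, hKc, hE, hM, ?_, hDN hφD, ?_, ⟨u, hu, fun x hx => F.inverts hu huM hx⟩, ?_, ?_⟩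
  · set N := normalizer (K : Set G) ⊓ 𝓜
    have h21 : 21 ∣ Nat.card N := hDc ▸ card_dvd_of_le (le_inf hDN fun x hx => (mem_twoPt.1 hx).1)
    have h168 : Nat.card N ∣ 168 := hM ▸ card_dvd_of_le inf_le_right
    have h2 : ¬ 2 ∣ Nat.card N := by
      intro h2
      haveI := Fact.mk Nat.prime_two
      obtain ⟨e, he⟩ := exists_prime_orderOf_dvd_card' (G := N) 2 h2
      rw [← Subgroup.orderOf_coe] at he
      have hee := SECount.invo_sq he
      have heE := invo_mem_of_mem_normalizer e.2.2 hee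
      obtain ⟨x, hx, hx1⟩ : ∃ x ∈ K, x ≠ 1 := by
        have : K ≠ ⊥ := fun e => by rw [e, Subgroup.card_bot] at hKc; omega
        obtain ⟨⟨x, hx⟩, hx1⟩ := K.ne_bot_iff_exists_ne_one.1 this
        exact ⟨x, hx, fun e => hx1 (Subtype.ext e)⟩
      have h1 : (e : G) * x * (e : G)⁻¹ * x⁻¹ ∈ K :=
        mul_mem ((mem_normalizer_iff.1 e.2.1 x).1 hx) (inv_mem hx)
      have h3 : (e : G) * x * (e : G)⁻¹ * x⁻¹ ∈ (E : Subgroup G) := by
        rw [show (e : G) * x * (e : G)⁻¹ * x⁻¹ = (e : G) * (x * (e : G)⁻¹ * x⁻¹) by group]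
        exact mul_mem heE ((mem_normalizer_iff.1 (hKM hx) _).1 (inv_mem heE))
      have h4 := hkill _ h1 (by
        rw [pow_mul, pow_two, d.sq h3, one_pow])
      refine hx1 (hkill x hx (d.exp_of_commute heE (SECount.invo_ne_one he) ?_))
      exact (mul_inv_eq_iff_eq_mul.1 (mul_inv_eq_one.1 h4)).symm
    have hcop : (Nat.card N).Coprime 8 := by
      rw [show 8 = 2 ^ 3 by norm_num]
      exact (((Nat.Prime.coprime_iff_not_dvd Nat.prime_two).2 h2).pow_left 3).symm
    exact Nat.dvd_antisymm (hcop.dvd_of_dvd_mul_left (by simpa using h168)) h21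
  · intro hC
    obtain ⟨x, hx⟩ := exists_prime_orderOf_dvd_card' (G := K) 7 (by rw [hKc])
      (hp := ⟨by norm_num⟩)
    rw [← Subgroup.orderOf_coe] at hx
    have h1 : (x : G) = 1 := hkill x x.2 (d.hyp.cent_mem_p F.phi_ne_one F.pow x
      (mem_centralizer_singleton_iff.2 (mem_centralizer_iff.1 hC x x.2)))
    rw [h1, orderOf_one] at hx
    omega
  all_goals intro g hg
  all_goals obtain ⟨v, hv, hgv, hvM⟩ := F.exists_invo_coset hg
  all_goals rw [twoPt_congr hgv]
  · intro A hA hAle B hB hBle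
    have key : ∀ A : Subgroup G, Nat.card A = 7 → A ≤ twoPt 𝓜 v → A = twoPt 𝓜 v ⊓ N₀ := by
      intro A hA hle
      refine eq_of_le_of_card_ge (fun x hx => ⟨hle hx, F.mem_N₀ (mem_twoPt.1 (hle hx)).1 ?_⟩) ?_
      · have := pow_card_eq_one' (x := (⟨x, hx⟩ : A))
        rw [hA] at this
        rw [hE]
        exact congrArg Subtype.val this
      · rw [hA, F.card_kernel hv hvM, hE]
    rw [key A hA hAle, key B hB hBle]
  · exact ⟨_, by rw [F.card_kernel hv hvM, hE], inf_le_left⟩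

theorem Seven.conj {K : Subgroup G} (s : Seven G E φ K) {A : Subgroup G} (hA : A ≤ 𝓜) (hc : Nat.card A = 7) :
    ∃ m ∈ 𝓜, ∀ x, x ∈ A ↔ m⁻¹ * x * m ∈ K :=
  exists_conj_of_prime_card (by norm_num) (by rw [s.cardM]; norm_num) s.le hA s.card hc

/-- The fixed points of `K`. -/
theorem Seven.card_index {K : Subgroup G} (s : Seven G E φ K) :
    (𝓜).index = 8 * ((𝓜).relIndex (normalizer (K : Set G)) - 1) + 1 ∧
      Nat.card (normalizer (K : Set G)) = 21 * (𝓜).relIndex (normalizer (K : Set G)) := by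
  classical
  set N := normalizer (K : Set G)
  refine ⟨?_, ?_⟩
  swap
  · rw [← s.stab, ← card_mul_index ((𝓜).subgroupOf N), ← inf_subgroupOf_left,
      Nat.card_congr (subgroupOfEquivOfLe (inf_le_left : N ⊓ 𝓜 ≤ N)).toEquiv, relIndex,
      inf_subgroupOf_left]
  let o : G ⧸ 𝓜 := QuotientGroup.mk 1
  let Fx : Set (G ⧸ 𝓜) := {q | ∀ x ∈ K, x • q = q}
  have hFx : ∀ g : G, (QuotientGroup.mk g : G ⧸ 𝓜) ∈ Fx ↔ ∀ x ∈ K, g⁻¹ * x * g ∈ 𝓜 := fun g =>
    forall₂_congr fun x _ => CIT.smul_mk_eq_iff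
  have ho : o ∈ Fx := fun x hx => CIT.smul_one_eq_iff.2 (s.le hx)
  have hconjK : ∀ a ∈ N, ∀ x ∈ K, a⁻¹ * x * a ∈ K := fun a ha x hx =>
    (mem_normalizer_iff''.1 ha x).1 hx
  -- transitivity of `N(K)`
  have hcardFx : Nat.card Fx = (𝓜).relIndex N := by
    rw [relIndex, index_eq_card]
    refine (Nat.card_eq_of_bijective (fun q : N ⧸ (𝓜).subgroupOf N =>
      (⟨QuotientGroup.mk (q.out : G), (hFx _).2 fun x hx => s.le (hconjK _ q.out.2 x hx)⟩ : Fx))
      ⟨?_, ?_⟩).symm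
    · intro a b e
      have e1 : (QuotientGroup.mk (a.out : G) : G ⧸ 𝓜) = QuotientGroup.mk (b.out : G) :=
        congrArg Subtype.val e
      rw [← QuotientGroup.out_eq' a, ← QuotientGroup.out_eq' b]
      exact QuotientGroup.eq.2 (QuotientGroup.eq.1 e1 : _)
    · rintro ⟨q, hq⟩
      obtain ⟨g, rfl⟩ := QuotientGroup.mk_surjective q
      have h1 := (hFx g).1 hq
      set A := K.map (MulAut.conj g⁻¹).toMonoidHom
      have hA : A ≤ 𝓜 := by
        rintro _ ⟨x, hx, rfl⟩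
        simpa using h1 x hx
      obtain ⟨m, hm, hiff⟩ := s.conj hA (by
        rw [card_map_of_injective (MulAut.conj g⁻¹).injective, s.card])
      have hgm : g * m ∈ N := by
        have key : ∀ x, x ∈ K ↔ (g * m)⁻¹ * x * (g * m) ∈ K := fun x => by
          rw [show (g * m)⁻¹ * x * (g * m) = m⁻¹ * (g⁻¹ * x * g) * m by group, ← hiff]
          constructor
          · intro hx; exact ⟨x, hx, by simp⟩
          · rintro ⟨y, hy, e⟩
            have : y = x := by simpa using e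
            rwa [← this]
        exact mem_normalizer_iff''.2 key
      refine ⟨QuotientGroup.mk ⟨g * m, hgm⟩, Subtype.ext (QuotientGroup.eq.2 ?_)⟩
      obtain ⟨w, hw⟩ := QuotientGroup.mk_out_eq_mul ((𝓜).subgroupOf N) ⟨g * m, hgm⟩
      show ((QuotientGroup.mk ⟨g * m, hgm⟩ : N ⧸ (𝓜).subgroupOf N).out : G)⁻¹ * g ∈ 𝓜
      rw [hw]
      show (g * m * (w : G))⁻¹ * g ∈ 𝓜
      rw [show (g * m * (w : G))⁻¹ * g = (w : G)⁻¹ * m⁻¹ by group]
      exact mul_mem (inv_mem (mem_subgroupOf.1 w.2)) (inv_mem hm)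
  have hidx : Nat.card (↥𝓜 ⧸ N.subgroupOf 𝓜) = 8 := by
    have h := card_mul_index (N.subgroupOf 𝓜)
    rw [← inf_subgroupOf_right,
      Nat.card_congr (subgroupOfEquivOfLe (inf_le_right : N ⊓ 𝓜 ≤ 𝓜)).toEquiv, s.stab, s.cardM,
      inf_subgroupOf_right, index_eq_card] at h
    omega
  -- every other point is fixed by exactly one conjugate of `K`
  have hpts : Nat.card {q : G ⧸ 𝓜 // q ≠ o} = 8 * ((𝓜).relIndex N - 1) := by
    rw [← hidx, ← hcardFx]
    have hF1 : Nat.card ↥(Fx \ {o}) = Nat.card Fx - 1 := by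
      rw [Nat.card_coe_set_eq, Set.ncard_diff_singleton_of_mem ho, Nat.card_coe_set_eq]
    rw [← hF1, ← Nat.card_prod]
    refine (Nat.card_eq_of_bijective (fun z : (↥𝓜 ⧸ N.subgroupOf 𝓜) × ↥(Fx \ {o}) =>
      (⟨(z.1.out : G) • z.2.1, fun e => z.2.2.2 (by
        rw [← inv_smul_smul (z.1.out : G) z.2.1, e]
        exact CIT.smul_one_eq_iff.2 (inv_mem z.1.out.2))⟩ : {q : G ⧸ 𝓜 // q ≠ o})) ⟨?_, ?_⟩).symm
    · rintro ⟨a, q, hq⟩ ⟨b, r, hr⟩ e
      have e1 : (a.out : G) • q = (b.out : G) • r := congrArg Subtype.val e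
      obtain ⟨g, rfl⟩ := QuotientGroup.mk_surjective q
      set c := ((a.out : G))⁻¹ * b.out with hc
      have hcM : c ∈ 𝓜 := mul_mem (inv_mem a.out.2) b.out.2
      have hgM : g ∉ 𝓜 := fun h => hq.2 (QuotientGroup.eq.2 (by simpa using inv_mem h))
      have hrq : c • r = QuotientGroup.mk g := by
        rw [hc, mul_smul, ← e1, inv_smul_smul]
      have h7 : Nat.card (K.map (MulAut.conj c).toMonoidHom) = 7 := by
        rw [card_map_of_injective (MulAut.conj c).injective, s.card]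
      have hKle : K ≤ twoPt 𝓜 g := fun x hx => mem_twoPt.2 ⟨s.le hx, (hFx g).1 hq.1 x hx⟩
      have hcle : K.map (MulAut.conj c).toMonoidHom ≤ twoPt 𝓜 g := by
        rintro _ ⟨x, hx, rfl⟩
        refine mem_twoPt.2 ⟨mul_mem (mul_mem hcM (s.le hx)) (inv_mem hcM), ?_⟩
        refine CIT.smul_mk_eq_iff.1 ?_
        show (c * x * c⁻¹) • _ = _
        rw [← hrq, ← mul_smul, inv_mul_cancel_right, mul_smul, hr.1 x hx]
      have hcN : c ∈ N := Transfer.map_conj_eq_iff.1 (s.point g hgM _ h7 hcle K s.card hKle)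
      have hab : a = b := by
        rw [← QuotientGroup.out_eq' a, ← QuotientGroup.out_eq' b]
        exact QuotientGroup.eq.2 (mem_subgroupOf.2 hcN)
      subst hab
      exact Prod.ext rfl (Subtype.ext (smul_left_cancel _ e1))
    · rintro ⟨q, hq⟩
      obtain ⟨g, rfl⟩ := QuotientGroup.mk_surjective q
      have hgM : g ∉ 𝓜 := fun h => hq (QuotientGroup.eq.2 (by simpa using inv_mem h))
      obtain ⟨A, hA, hAle⟩ := s.kernel g hgM
      obtain ⟨m, hm, hiff⟩ := s.conj (fun x hx => (mem_twoPt.1 (hAle hx)).1) hA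
      set a : ↥𝓜 ⧸ N.subgroupOf 𝓜 := QuotientGroup.mk ⟨m, hm⟩ with ha
      obtain ⟨w, hw⟩ := QuotientGroup.mk_out_eq_mul (N.subgroupOf 𝓜) (⟨m, hm⟩ : ↥𝓜)
      have hout : (a.out : G) = m * (w : G) := congrArg Subtype.val hw
      have hwN : (w : G) ∈ N := mem_subgroupOf.1 w.2
      have hmem : (a.out : G)⁻¹ • (QuotientGroup.mk g : G ⧸ 𝓜) ∈ Fx := by
        intro x hx
        have h1 : (a.out : G) * x * (a.out : G)⁻¹ ∈ A := by
          rw [hiff, hout, show m⁻¹ * (m * (w : G) * x * (m * (w : G))⁻¹) * m =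
            (w : G) * x * (w : G)⁻¹ by group]
          exact (mem_normalizer_iff.1 hwN x).1 hx
        have h2 : ((a.out : G) * x * (a.out : G)⁻¹) • (QuotientGroup.mk g : G ⧸ 𝓜) =
            QuotientGroup.mk g := CIT.smul_mk_eq_iff.2 (mem_twoPt.1 (hAle h1)).2
        conv_rhs => rw [← h2]
        rw [← mul_smul, ← mul_smul]
        group
      refine ⟨(a, ⟨_, hmem, fun e => hq ?_⟩), Subtype.ext (smul_inv_smul _ _)⟩
      rw [← smul_inv_smul (a.out : G) (QuotientGroup.mk g : G ⧸ 𝓜), show _ = o from e]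
      exact CIT.smul_one_eq_iff.2 a.out.2
  have hsplit : Nat.card {q : G ⧸ 𝓜 // q ≠ o} = (𝓜).index - 1 := by
    change Nat.card ↥({q : G ⧸ 𝓜 | q ≠ o}) = _
    rw [Nat.card_coe_set_eq, show {q : G ⧸ 𝓜 | q ≠ o} = ({o} : Set _)ᶜ from rfl, Set.ncard_compl,
      Set.ncard_singleton, index_eq_card]
  have hpos : 0 < (𝓜).index := Nat.pos_of_ne_zero index_ne_zero_of_finite
  omega

/-- The order of `G`. -/
theorem Seven.card_group {K : Subgroup G} (s : Seven G E φ K) (d : Data G p E ⊥) (hp : p = 3)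
    (hφ : φ ^ 3 = 1) :
    (Nat.card G = 1512 ∨ (Nat.card G = 17640 ∧ Nat.card (centralizer (K : Set G)) = 49 ∧
      Nat.card (normalizer (K : Set G)) = 294)) := by
  classical
  subst hp
  obtain ⟨hN, hNK⟩ := s.card_index
  set N := normalizer (K : Set G)
  set C := centralizer (K : Set G)
  have hG : Nat.card G = 168 * (𝓜).index := by rw [← s.cardM, card_mul_index]
  haveI : Fact (Nat.Prime 7) := ⟨by norm_num⟩
  haveI : IsCyclic K := isCyclic_of_prime_card (p := 7) s.card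
  set ψ := Subgroup.normalizerMonoidHom K
  have hA : Nat.card (MulAut K) = 6 := by
    rw [IsCyclic.card_mulAut, s.card, Nat.totient_prime (by norm_num)]
  have hker : ∀ (x : G) (hx : x ∈ N), ψ ⟨x, hx⟩ = 1 ↔ x ∈ C := fun x hx => by
    rw [← MonoidHom.mem_ker, Subgroup.normalizerMonoidHom_ker, mem_subgroupOf]
  have hr6 : Nat.card ψ.range = 6 := by
    refine Nat.dvd_antisymm (hA ▸ Subgroup.card_subgroup_dvd_card _) ?_
    rw [show 6 = 2 * 3 by norm_num]
    refine Nat.Coprime.mul_dvd_of_dvd_of_dvd (by norm_num) ?_ ?_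
    · obtain ⟨u, hu, hinv⟩ := s.inverting
      have huN : u ∈ N := by
        rw [mem_normalizer_iff]
        refine fun x => ⟨fun hx => by rw [hinv x hx]; exact inv_mem hx, fun hx => ?_⟩
        have h1 := hinv _ hx
        rw [show u * (u * x * u⁻¹) * u⁻¹ = (u * u) * x * (u * u)⁻¹ by group, SECount.invo_sq hu,
          inv_one, mul_one, one_mul] at h1
        rw [h1]; exact inv_mem hx
      have h1 : orderOf (ψ ⟨u, huN⟩) = 2 := orderOf_eq_prime
        (by rw [← map_pow, show (⟨u, huN⟩ : N) ^ 2 = 1 from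
          Subtype.ext (by simp [pow_two, SECount.invo_sq hu]), map_one]) (fun e => by
          have hc := (hker u huN).1 e
          obtain ⟨x, hx⟩ := exists_prime_orderOf_dvd_card' (G := K) 7 (by rw [s.card])
          rw [← Subgroup.orderOf_coe] at hx
          have h1 := hinv x x.2
          rw [← mem_centralizer_iff.1 hc x x.2, mul_inv_cancel_right] at h1
          have h2 : orderOf (x : G) ∣ 2 := orderOf_dvd_of_pow_eq_one (by
            rw [pow_two]; exact eq_inv_iff_mul_eq_one.1 h1)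
          rw [hx] at h2
          exact absurd h2 (by norm_num))
      exact h1 ▸ Subgroup.orderOf_dvd_natCard _ ⟨_, rfl⟩
    · haveI : Fact (Nat.Prime 3) := ⟨Nat.prime_three⟩
      have h1 : orderOf (ψ ⟨φ, s.phi⟩) = 3 := orderOf_eq_prime
        (by rw [← map_pow, show (⟨φ, s.phi⟩ : N) ^ 3 = 1 from Subtype.ext hφ, map_one])
        (fun e => s.free ((hker φ s.phi).1 e))
      exact h1 ▸ Subgroup.orderOf_dvd_natCard _ ⟨_, rfl⟩
  have hN6 : Nat.card N = 6 * Nat.card C := by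
    rw [← hr6, ← Nat.card_congr (QuotientGroup.quotientKerEquivRange ψ).toEquiv,
      card_eq_card_quotient_mul_card_subgroup ψ.ker, Subgroup.normalizerMonoidHom_ker,
      Nat.card_congr (subgroupOfEquivOfLe (centralizer_le_normalizer _)).toEquiv]
  have h7 : 7 ∣ Nat.card C := s.card ▸ card_dvd_of_le (fun x hx => mem_centralizer_iff.2
    fun y hy => congrArg Subtype.val (mul_comm' (⟨y, hy⟩ : K) ⟨x, hx⟩))
  obtain ⟨c, hc⟩ := h7
  have hsmall : ∀ q, q.Prime → q ∣ Nat.card C → q ≠ 2 ∧ q ≠ 3 := by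
    intro q hq hd
    haveI := Fact.mk hq
    obtain ⟨y, hy⟩ := exists_prime_orderOf_dvd_card' (G := C) q hd
    rw [← Subgroup.orderOf_coe] at hy
    obtain ⟨x, hx⟩ := exists_prime_orderOf_dvd_card' (G := K) 7 (by rw [s.card])
    rw [← Subgroup.orderOf_coe] at hx
    by_contra hne
    have hdvd : orderOf (x : G) ∣ 2 * 3 := by
      refine orderOf_dvd_of_pow_eq_one (d.hyp.cent_mem (x := (y : G)) ?_ x
        (mem_centralizer_singleton_iff.2 (mem_centralizer_iff.1 y.2 x x.2)))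
      rw [hy]
      rcases not_and_or.1 hne with h | h
      · exact Or.inl (by rw [not_not.1 h])
      · exact Or.inr (by rw [not_not.1 h])
    rw [hx] at hdvd
    exact absurd hdvd (by norm_num)
  set f := (𝓜).relIndex N
  have hf : f = 2 * c := by omega
  have hdvdG : Nat.card N ∣ Nat.card G := Subgroup.card_subgroup_dvd_card _
  have hcpos : 0 < c := by
    rcases Nat.eq_zero_or_pos c with e | e
    · rw [e, mul_zero] at hc; exact absurd hc Nat.card_pos.ne'
    · exact e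
  have hidx : (𝓜).index + 7 = 16 * c := by omega
  have hc28 : c ∣ 28 := by
    rw [hN6, hc, hG, show 6 * (7 * c) = 42 * c by ring,
      show 168 * (𝓜).index = 42 * (4 * (𝓜).index) by ring] at hdvdG
    have h1 := (Nat.mul_dvd_mul_iff_left (by norm_num : 0 < 42)).1 hdvdG
    have h2 : c ∣ 4 * (𝓜).index + 28 := by
      rw [show 4 * (𝓜).index + 28 = c * 64 by omega]; exact Dvd.intro _ rfl
    exact (Nat.dvd_add_right h1).1 h2
  have hc2 : ¬ 2 ∣ c := fun h => (hsmall 2 Nat.prime_two (hc ▸ h.mul_left 7)).1 rfl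
  have : c = 1 ∨ c = 7 := by
    have hle := Nat.le_of_dvd (by norm_num) hc28
    interval_cases c <;> first | omega | norm_num at hc28
  rcases this with rfl | rfl
  · exact Or.inl (by omega)
  · exact Or.inr ⟨by omega, by omega, by omega⟩

theorem not_card_17640 {K : Subgroup G} (d : Data G p E ⊥) (hp : p = 3)
    (hG : Nat.card G = 17640) (hC : Nat.card (centralizer (K : Set G)) = 49)
    (hN : Nat.card (normalizer (K : Set G)) = 294) : False := by
  classical
  subst hp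
  haveI := d.simple
  haveI : Fact (Nat.Prime 7) := ⟨by norm_num⟩
  haveI := Fact.mk Nat.prime_two
  set C := centralizer (K : Set G)
  obtain ⟨U, hU⟩ := (IsPGroup.of_card (n := 2) (by rw [hC]; norm_num) : IsPGroup 7 C).exists_le_sylow
  have hUc : Nat.card (U : Subgroup G) = 49 := by
    obtain ⟨k, hk⟩ := IsPGroup.iff_card.1 U.isPGroup'
    have h1 : 49 ∣ Nat.card (U : Subgroup G) := hC ▸ card_dvd_of_le hU
    have h2 : Nat.card (U : Subgroup G) ∣ 17640 := hG ▸ Subgroup.card_subgroup_dvd_card _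
    rw [hk] at h1 h2 ⊢
    rcases k with _ | _ | _ | k
    · norm_num at h1
    · norm_num at h1
    · norm_num
    · exact absurd ((pow_dvd_pow 7 (show 3 ≤ k + 1 + 1 + 1 by omega)).trans h2) (by norm_num)
  have hUC : (U : Subgroup G) = C := (eq_of_le_of_card_ge hU (by rw [hUc, hC])).symm
  set NU := normalizer ((U : Subgroup G) : Set G)
  have hNK : normalizer (K : Set G) ≤ NU := by
    intro g hg
    rw [show NU = normalizer (C : Set G) by simp only [NU, hUC], mem_normalizer_iff]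
    have key : ∀ g ∈ normalizer (K : Set G), ∀ x ∈ C, g * x * g⁻¹ ∈ C := by
      intro g hg x hx
      refine mem_centralizer_iff.2 fun k hk => ?_
      have h1 := mem_centralizer_iff.1 hx _ ((mem_normalizer_iff''.1 hg k).1 hk)
      calc k * (g * x * g⁻¹) = g * (g⁻¹ * k * g * x) * g⁻¹ := by group
        _ = g * x * g⁻¹ * k := by rw [h1]; group
    exact fun x => ⟨key g hg x, fun hx => by simpa [mul_assoc] using key g⁻¹ (inv_mem hg) _ hx⟩
  have h294 : 294 ∣ Nat.card NU := hN ▸ card_dvd_of_le hNK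
  have hidx : NU.index ∣ 60 := by
    have h := card_mul_index NU
    rw [hG] at h
    obtain ⟨a, ha⟩ := h294
    rw [ha, show 17640 = 294 * 60 by norm_num, mul_assoc] at h
    exact Dvd.intro_left a (Nat.eq_of_mul_eq_mul_left (by norm_num) h)
  have hmod : NU.index ≡ 1 [MOD 7] := U.card_eq_index_normalizer ▸ card_sylow_modEq_one 7 G
  have hne : NU.index ≠ 1 := by
    intro e
    haveI : (U : Subgroup G).Normal := normalizer_eq_top_iff.1 (index_eq_one.1 e)
    rcases ‹(U : Subgroup G).Normal›.eq_bot_or_eq_top with e' | e'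
    · rw [e', Subgroup.card_bot] at hUc; omega
    · rw [e', Subgroup.card_top, hG] at hUc; omega
  have h15 : NU.index = 15 := by
    have hle := Nat.le_of_dvd (by norm_num) hidx
    have hmod' : NU.index % 7 = 1 := hmod
    generalize NU.index = i at hidx hle hmod' hne ⊢
    interval_cases i <;> first | omega | norm_num at hidx
  have h8 : 2 ^ 3 ∣ Nat.card NU := by
    have h := card_mul_index NU
    rw [hG, h15] at h
    exact ⟨147, by omega⟩
  obtain ⟨S, hS⟩ := Sylow.exists_subgroup_card_pow_prime 2 h8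
  set A := S.map NU.subtype
  have hA8 : Nat.card A = 8 := by rw [card_map_of_injective NU.subtype_injective, hS]; norm_num
  have hsq : ∀ a ∈ A, a * a = 1 := fun a ha => by
    obtain ⟨k, hk⟩ := (IsPGroup.of_card (n := 3) (by rw [hA8]; norm_num) : IsPGroup 2 A) ⟨a, ha⟩
    exact d.hyp.mul_self (k := k) (congrArg Subtype.val hk)
  have hcomm : ∀ a ∈ A, ∀ b ∈ A, a * b = b * a := by
    intro a ha b hb
    have h := hsq _ (mul_mem ha hb)
    calc a * b = a * (a * b * (a * b)) * b := by rw [h, mul_one]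
      _ = (a * a) * (b * a) * (b * b) := by group
      _ = _ := by rw [hsq a ha, hsq b hb, one_mul, mul_one]
  have h3 := d.hyp.isPGroup_invariant hcomm hsq (by omega) (map_subtype_le _ : A ≤ NU)
    (by rw [hUc]; norm_num)
  obtain ⟨k, hk⟩ := IsPGroup.iff_card.1 h3
  rw [hUc] at hk
  rcases k with _ | _ | _ | _ | k
  all_goals norm_num at hk
  have h5 := Nat.pow_le_pow_right (show 0 < 3 by norm_num) (show 4 ≤ k + 1 + 1 + 1 + 1 by omega)
  omega

theorem card_centralizer_conj (g x : G) :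
    Nat.card (centralizer ({g * x * g⁻¹} : Set G)) = Nat.card (centralizer ({x} : Set G)) := by
  have key : centralizer ({g * x * g⁻¹} : Set G) =
      (centralizer ({x} : Set G)).map (MulAut.conj g).toMonoidHom := by
    ext y
    rw [mem_centralizer_singleton_iff, SECount.mem_map_conj, mem_centralizer_singleton_iff]
    constructor
    · intro h
      calc g⁻¹ * y * g * x = g⁻¹ * (y * (g * x * g⁻¹)) * g := by group
        _ = g⁻¹ * ((g * x * g⁻¹) * y) * g := by rw [h]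
        _ = x * (g⁻¹ * y * g) := by group
    · intro h
      calc y * (g * x * g⁻¹) = g * (g⁻¹ * y * g * x) * g⁻¹ := by group
        _ = g * (x * (g⁻¹ * y * g)) * g⁻¹ := by rw [h]
        _ = g * x * g⁻¹ * y := by group
  rw [key, card_map_of_injective (MulAut.conj g).injective]

theorem Fixed.centralizer_zpow (F : Fixed G p E φ t N₀) {x : G} (hx : x ∈ zpowers φ) (hx1 : x ≠ 1) :
    centralizer ({x} : Set G) = centralizer ({φ} : Set G) := by
  haveI := F.data.hyp.fact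
  have h : zpowers x = zpowers φ := by
    refine eq_of_le_of_card_ge (zpowers_le.2 hx) ?_
    rw [Nat.card_zpowers, Nat.card_zpowers, orderOf_eq_prime F.pow F.phi_ne_one]
    obtain ⟨i, rfl⟩ := mem_zpowers_iff.1 hx
    rw [orderOf_eq_prime (by
      rw [← zpow_natCast, ← zpow_mul, mul_comm, zpow_mul, zpow_natCast, F.pow, one_zpow]) hx1]
  ext y
  rw [mem_centralizer_singleton_iff, mem_centralizer_singleton_iff]
  obtain ⟨i, hi⟩ := mem_zpowers_iff.1 hx
  obtain ⟨j, hj⟩ := mem_zpowers_iff.1 (h ▸ mem_zpowers φ : φ ∈ zpowers x)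
  constructor
  · intro e
    rw [← hj]
    exact ((show Commute y x from e).zpow_right j).eq
  · intro e
    rw [← hi]
    exact ((show Commute y φ from e).zpow_right i).eq

theorem Fixed.not_card_1512 (F : Fixed G p E φ t N₀) (hp : p = 3) {P1 : Subgroup G}
    (hP1 : ∀ x, x ∈ P1 ↔ x ∈ centralizer ({φ} : Set G) ∧ x ^ p = 1) (h9 : Nat.card P1 = 9)
    (h18 : Nat.card (centralizer ({φ} : Set G)) = 18) (hG : Nat.card G = 1512) : False := by
  classical
  subst hp
  have d := F.data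
  haveI := d.simple
  haveI := d.hyp.fact
  haveI := Fact.mk Nat.prime_two
  have hS : ∀ P : Sylow 3 G, Nat.card (P : Subgroup G) = 27 := by
    intro P
    obtain ⟨k, hk⟩ := IsPGroup.iff_card.1 P.isPGroup'
    have h := card_mul_index (P : Subgroup G)
    rw [hG, hk] at h
    have hn := P.not_dvd_index
    rw [hk]
    rcases k with _ | _ | _ | _ | k
    · omega
    · omega
    · omega
    · norm_num
    · exfalso
      have h1 : 3 ^ 4 ∣ 1512 := (pow_dvd_pow 3 (show 4 ≤ k + 1 + 1 + 1 + 1 by omega)).trans (Dvd.intro _ h)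
      norm_num at h1
  have h18' : ∀ x ∈ zpowers φ, x ≠ 1 → ¬ 27 ∣ Nat.card (centralizer ({x} : Set G)) := by
    intro x hx hx1
    rw [F.centralizer_zpow hx hx1, h18]
    norm_num
  -- a Sylow 3-subgroup through `φ` contains `P1` and is the centraliser of a point of `P1`
  have key : ∀ P : Sylow 3 G, φ ∈ (P : Subgroup G) → P1 ≤ P ∧
      ∃ z ∈ P1, z ≠ 1 ∧ z ∉ zpowers φ ∧ centralizer ({z} : Set G) = P := by
    intro P hφP
    haveI : Nontrivial (P : Subgroup G) := Finite.one_lt_card_iff_nontrivial.1 (by rw [hS P]; norm_num)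
    haveI := P.isPGroup'.center_nontrivial
    obtain ⟨⟨⟨z, hzP⟩, hzc⟩, hz1⟩ := exists_ne (1 : center (P : Subgroup G))
    have hz1' : z ≠ 1 := fun e => hz1 (Subtype.ext (Subtype.ext e))
    have hzcomm : ∀ q ∈ (P : Subgroup G), q * z = z * q := fun q hq =>
      congrArg Subtype.val (Subgroup.mem_center_iff.1 hzc ⟨q, hq⟩)
    have hz3 := d.hyp.pow_p P.isPGroup' hzP
    have hzP1 : z ∈ P1 := (hP1 z).2 ⟨mem_centralizer_singleton_iff.2 (hzcomm φ hφP).symm, hz3⟩
    have hPC : (P : Subgroup G) ≤ centralizer ({z} : Set G) := fun q hq =>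
      mem_centralizer_singleton_iff.2 (hzcomm q hq)
    have h27 : 27 ∣ Nat.card (centralizer ({z} : Set G)) := hS P ▸ card_dvd_of_le hPC
    have hzφ : z ∉ zpowers φ := fun h => h18' z h hz1' h27
    have hP1P : P1 ≤ P := by
      set Q := closure ({φ, z} : Set G)
      have hQ1 : Q ≤ P1 := (closure_le _).2 (by rintro w (rfl | rfl); exacts [F.phi_mem hP1, hzP1])
      have hQP : Q ≤ P := (closure_le _).2 (by rintro w (rfl | rfl); exacts [hφP, hzP])
      refine (eq_of_le_of_card_ge hQ1 ?_).ge.trans hQP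
      have hlt : zpowers φ < Q := lt_of_le_of_ne (zpowers_le.2 (subset_closure (Or.inl rfl)))
        fun e => hzφ (e ▸ subset_closure (Or.inr rfl))
      have h1 : 3 < Nat.card Q := by
        refine lt_of_lt_of_le' (Set.ncard_lt_ncard hlt (Set.toFinite _)) ?_
        show 3 ≤ Nat.card (zpowers φ)
        rw [Nat.card_zpowers, orderOf_eq_prime F.pow F.phi_ne_one]
      have h2 : Nat.card Q ∣ 9 := h9 ▸ card_dvd_of_le hQ1
      have h3 := Nat.le_of_dvd (by norm_num) h2
      rw [h9]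
      generalize Nat.card Q = c at h1 h2 h3 ⊢
      interval_cases c <;> omega
    refine ⟨hP1P, z, hzP1, hz1', hzφ, ?_⟩
    refine P.is_maximal' (d.hyp.isPGroup_of_odd ?_ (d.hyp.cent_mem_p hz1' hz3)) hPC
    intro h2
    obtain ⟨⟨s, hsC⟩, hs⟩ := exists_prime_orderOf_dvd_card' (G := centralizer ({z} : Set G)) 2 h2
    rw [Subgroup.orderOf_mk] at hs
    obtain ⟨w, hw⟩ := isConj_iff.1
      (SECount.isConj_invo d.stronglyEmbedded (d.order_two F.tE F.t_one) hs)
    set z' := w⁻¹ * z * w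
    have hc : z' * t = t * z' := by
      have h3 := (mem_centralizer_singleton_iff.1 hsC).symm
      calc w⁻¹ * z * w * t = w⁻¹ * (z * (w * t * w⁻¹)) * w := by group
        _ = w⁻¹ * ((w * t * w⁻¹) * z) * w := by rw [hw, h3]
        _ = _ := by simp only [z']; group
    have hz'M := d.cent t F.tE F.t_one (mem_centralizer_singleton_iff.2 hc)
    have hz'1 : z' ≠ 1 := fun e => hz1' (by
      rw [show z = w * z' * w⁻¹ by simp only [z']; group, e, mul_one, mul_inv_cancel])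
    have hz'p : z' ^ 3 = 1 := by
      conv_lhs => arg 1; rw [show z' = w⁻¹ * z * w⁻¹⁻¹ by rw [inv_inv]]
      rw [conj_pow, hz3, mul_one, mul_inv_cancel]
    obtain ⟨m, hm, hmz⟩ := F.exists_conj_phi hz'M hz'1 hz'p
    refine h18' _ hmz (fun e => hz'1 (conj_eq_one_iff.1 e)) ?_
    rw [card_centralizer_conj, show z' = w⁻¹ * z * w⁻¹⁻¹ by rw [inv_inv], card_centralizer_conj]
    exact h27
  obtain ⟨P, hP⟩ := (IsPGroup.of_card (n := 1) (by
    rw [Nat.card_zpowers, orderOf_eq_prime F.pow F.phi_ne_one, pow_one]) :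
      IsPGroup 3 (zpowers φ)).exists_le_sylow
  have hφP : φ ∈ (P : Subgroup G) := hP (mem_zpowers φ)
  obtain ⟨hP1P, z, hz, hz1, hzφ, hCz⟩ := key P hφP
  have hz3 : z ^ 3 = 1 := ((hP1 z).1 hz).2
  have hzc : ∀ q ∈ (P : Subgroup G), q * z = z * q := fun q hq => by
    rw [← hCz] at hq; exact mem_centralizer_singleton_iff.1 hq
  have hφC : ¬ (P : Subgroup G) ≤ centralizer ({φ} : Set G) := fun h => by
    have := card_dvd_of_le h
    rw [hS, h18] at this
    norm_num at this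
  -- the abelian quotient `P / ⟨z⟩`
  set Z : Subgroup (P : Subgroup G) := (zpowers z).subgroupOf (P : Subgroup G)
  have hzP : z ∈ (P : Subgroup G) := hP1P hz
  haveI hZn : Z.Normal := ⟨fun a ha g => by
    have h1 : (a : G) ∈ zpowers z := mem_subgroupOf.1 ha
    obtain ⟨i, hi⟩ := mem_zpowers_iff.1 h1
    refine mem_subgroupOf.2 ?_
    have h2 := ((show Commute (g : G) z from hzc g g.2).zpow_right i).eq
    rw [Subgroup.coe_mul, Subgroup.coe_mul, Subgroup.coe_inv, ← hi, h2, mul_inv_cancel_right]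
    exact zpow_mem (mem_zpowers z) i⟩
  have hZ3 : Nat.card Z = 3 := by
    rw [Nat.card_congr (subgroupOfEquivOfLe (zpowers_le.2 hzP)).toEquiv, Nat.card_zpowers,
      orderOf_eq_prime hz3 hz1]
  have hQ9 : Nat.card ((P : Subgroup G) ⧸ Z) = 3 ^ 2 := by
    have h := card_eq_card_quotient_mul_card_subgroup Z
    rw [hS, hZ3] at h
    omega
  letI : CommGroup ((P : Subgroup G) ⧸ Z) := IsPGroup.commGroupOfCardEqPrimeSq hQ9
  set π := QuotientGroup.mk' Z
  have hcomm : ∀ q : (P : Subgroup G), (q : G) * φ * (q : G)⁻¹ * φ⁻¹ ∈ zpowers z := by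
    intro q
    have h1 : π (q * ⟨φ, hφP⟩ * q⁻¹ * ⟨φ, hφP⟩⁻¹) = 1 := by
      simp only [map_mul, map_inv]
      rw [mul_comm (π q), mul_inv_cancel_right, mul_inv_cancel]
    exact mem_subgroupOf.1 ((QuotientGroup.eq_one_iff _).1 h1)
  -- every `φ w` with `w ∈ ⟨z⟩` is conjugate to `φ`
  have hconj : ∀ w ∈ zpowers z, ∃ q : G, q * φ * q⁻¹ = φ * w := by
    intro w hw
    obtain ⟨q, hq, hqC⟩ := SetLike.not_le_iff_exists.1 hφC
    obtain ⟨a, ha⟩ := mem_zpowers_iff.1 (hcomm ⟨q, hq⟩)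
    have ha1 : z ^ a ≠ 1 := fun e => hqC (mem_centralizer_singleton_iff.2
      (mul_inv_eq_iff_eq_mul.1 (mul_inv_eq_one.1 (ha.symm.trans e))))
    have hzq : Commute (z ^ a) φ :=
      ((show Commute φ z from hzc φ hφP).zpow_right a).symm
    have hq1 : q * φ * q⁻¹ = φ * z ^ a := by
      rw [← hzq.eq, ha]
      simp only [inv_mul_cancel_right]
    have hqn : ∀ n : ℕ, q ^ n * φ * (q ^ n)⁻¹ = φ * (z ^ a) ^ n := by
      intro n
      induction n with
      | zero => simp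
      | succ n ih =>
        have hqz : Commute q ((z ^ a) ^ n) := ((show Commute q z from hzc q hq).zpow_right a).pow_right n
        calc q ^ (n + 1) * φ * (q ^ (n + 1))⁻¹ = q * (q ^ n * φ * (q ^ n)⁻¹) * q⁻¹ := by
              rw [pow_succ']; group
          _ = q * φ * ((z ^ a) ^ n * q⁻¹) := by rw [ih]; group
          _ = q * φ * q⁻¹ * (z ^ a) ^ n := by rw [(hqz.inv_left).eq.symm]; group
          _ = _ := by rw [hq1, mul_assoc, ← pow_succ']
    have hgen : zpowers (z ^ a) = zpowers z := by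
      refine eq_of_le_of_card_ge (zpowers_le.2 (zpow_mem (mem_zpowers z) a)) ?_
      rw [Nat.card_zpowers, Nat.card_zpowers, orderOf_eq_prime hz3 hz1, orderOf_eq_prime (by
        rw [← zpow_natCast, ← zpow_mul, mul_comm, zpow_mul, zpow_natCast, hz3, one_zpow]) ha1]
    obtain ⟨n, hn⟩ : ∃ n : ℕ, (z ^ a) ^ n = w := by
      have h1 : w ∈ zpowers (z ^ a) := hgen ▸ hw
      rw [← (isOfFinOrder_of_finite _).mem_powers_iff_mem_zpowers] at h1
      exact h1
    exact ⟨q ^ n, by rw [hqn, hn]⟩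
  -- `P` is the only Sylow subgroup through `φ`
  have huniq : ∀ P' : Sylow 3 G, φ ∈ (P' : Subgroup G) → P' = P := by
    intro P' hφP'
    obtain ⟨-, z', hz', hz'1, hz'φ, hCz'⟩ := key P' hφP'
    have hmem : z' ∈ zpowers z := by
      by_contra hne
      -- write `z' = φ^i w`
      have hsurj : Function.Surjective (fun x : zpowers φ × zpowers z =>
          (⟨(x.1 : G) * x.2, mul_mem (zpowers_le.2 (F.phi_mem hP1) x.1.2)
            (zpowers_le.2 hz x.2.2)⟩ : P1)) := by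
        refine ((Nat.bijective_iff_injective_and_card _).2 ⟨?_, ?_⟩).2
        · rintro ⟨a, b⟩ ⟨a', b'⟩ e
          have e1 : (a : G) * b = a' * b' := congrArg Subtype.val e
          have e2 : (a' : G)⁻¹ * a = b' * (b : G)⁻¹ := by
            rw [inv_mul_eq_iff_eq_mul, ← mul_assoc, ← e1, mul_inv_cancel_right]
          have hmem : (b' : G) * (b : G)⁻¹ ∈ zpowers φ := e2 ▸ mul_mem (inv_mem a'.2) a.2
          have h1 : (b' : G) * (b : G)⁻¹ = 1 := by
            by_contra hne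
            obtain ⟨i, hi⟩ := mem_zpowers_iff.1 (mul_mem b'.2 (inv_mem b.2))
            have hgen : zpowers ((b' : G) * (b : G)⁻¹) = zpowers z := by
              refine eq_of_le_of_card_ge (zpowers_le.2 (mul_mem b'.2 (inv_mem b.2))) ?_
              rw [Nat.card_zpowers, Nat.card_zpowers, orderOf_eq_prime hz3 hz1, orderOf_eq_prime (by
                rw [← hi, ← zpow_natCast, ← zpow_mul, mul_comm, zpow_mul, zpow_natCast, hz3,
                  one_zpow]) hne]
            exact hzφ ((hgen ▸ zpowers_le.2 hmem : zpowers z ≤ zpowers φ) (mem_zpowers z))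
          have eb : b = b' := Subtype.ext (mul_inv_eq_one.1 h1).symm
          subst eb
          exact Prod.ext (Subtype.ext (mul_right_cancel e1)) rfl
        · rw [Nat.card_prod, Nat.card_zpowers, Nat.card_zpowers, orderOf_eq_prime F.pow F.phi_ne_one,
            orderOf_eq_prime hz3 hz1, h9]
      obtain ⟨⟨⟨a, ha⟩, ⟨w, hw⟩⟩, e⟩ := hsurj ⟨z', hz'⟩
      have e1 : a * w = z' := congrArg Subtype.val e
      have ha1 : a ≠ 1 := fun e2 => hne (by rw [← e1, e2, one_mul]; exact hw)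
      obtain ⟨i, hi⟩ : ∃ i : ℕ, φ ^ i = a := by
        rw [← (isOfFinOrder_of_finite _).mem_powers_iff_mem_zpowers] at ha
        exact ha
      have hi3 : ¬ 3 ∣ i := fun ⟨j, hj⟩ => ha1 (by rw [← hi, hj, pow_mul, F.pow, one_pow])
      -- a root `w'` of `w`
      obtain ⟨w', hw', hwi⟩ : ∃ w' ∈ zpowers z, w' ^ i = w := by
        refine ⟨w ^ i, pow_mem hw i, ?_⟩
        obtain ⟨r, hr⟩ := mem_zpowers_iff.1 hw
        have hw3 : w ^ 3 = 1 := by
          rw [← hr, ← zpow_natCast, ← zpow_mul, mul_comm, zpow_mul, zpow_natCast, hz3, one_zpow]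
        have h1 : i * i % 3 = 1 := by
          have h2 : i % 3 = 1 ∨ i % 3 = 2 := by omega
          rw [Nat.mul_mod]
          rcases h2 with h | h <;> rw [h]
        rw [← pow_mul, ← Nat.mod_add_div (i * i) 3, h1, pow_add, pow_mul, hw3, one_pow, pow_one,
          mul_one]
      obtain ⟨q, hq⟩ := hconj w' hw'
      have hz'eq : z' = q * a * q⁻¹ := by
        obtain ⟨r, hr⟩ := mem_zpowers_iff.1 hw'
        have hc : Commute φ w' := hr ▸ (show Commute φ z from hzc φ hφP).zpow_right r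
        rw [← e1, ← hi, ← hwi, ← hc.mul_pow, ← hq, conj_pow]
      refine h18' a ha ha1 ?_
      rw [← card_centralizer_conj q, ← hz'eq, hCz', hS]
    have hgen : zpowers z' = zpowers z := by
      refine eq_of_le_of_card_ge (zpowers_le.2 hmem) ?_
      rw [Nat.card_zpowers, Nat.card_zpowers, orderOf_eq_prime hz3 hz1,
        orderOf_eq_prime ((hP1 z').1 hz').2 hz'1]
    refine Sylow.ext ?_
    rw [← hCz', ← hCz]
    obtain ⟨i, hi⟩ := mem_zpowers_iff.1 hmem
    obtain ⟨j, hj⟩ := mem_zpowers_iff.1 (hgen ▸ mem_zpowers z : z ∈ zpowers z')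
    ext y
    rw [mem_centralizer_singleton_iff, mem_centralizer_singleton_iff]
    exact ⟨fun e => by rw [← hj]; exact ((show Commute y z' from e).zpow_right j).eq,
      fun e => by rw [← hi]; exact ((show Commute y z from e).zpow_right i).eq⟩
  have hfixN : ∀ g : G, g⁻¹ * φ * g ∈ (P : Subgroup G) →
      g ∈ normalizer ((P : Subgroup G) : Set G) := by
    intro g hg
    rw [← Transfer.map_conj_eq_iff]
    have h1 : φ ∈ ((g • P : Sylow 3 G) : Subgroup G) := by
      rw [Sylow.coe_subgroup_smul, Subgroup.mem_pointwise_smul_iff_inv_smul_mem]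
      simpa [MulAut.smul_def, ← map_inv, mul_assoc] using hg
    exact congrArg (fun S : Sylow 3 G => (S : Subgroup G)) (huniq _ h1)
  set NP := normalizer ((P : Subgroup G) : Set G)
  have htN : t ∈ NP := hfixN t (by
    rw [mul_assoc, F.comm, ← mul_assoc, inv_mul_cancel, one_mul]; exact hφP)
  have htP : t ∉ (P : Subgroup G) := fun h => by
    have h2 := orderOf_dvd_of_pow_eq_one (d.hyp.pow_p P.isPGroup' h)
    rw [d.order_two F.tE F.t_one] at h2
    norm_num at h2
  -- `|N(P)| = 54`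
  have hidx2 : (P : Subgroup G).relIndex NP = 2 := by
    have hn : Nat.card (Sylow 3 G) = NP.index := P.card_eq_index_normalizer
    have hmod : NP.index % 3 = 1 := hn ▸ card_sylow_modEq_one 3 G
    have hdec : (P : Subgroup G).relIndex NP * NP.index = 56 := by
      rw [relIndex_mul_index le_normalizer]
      have h := card_mul_index (P : Subgroup G)
      rw [hS, hG] at h
      omega
    have hne : (P : Subgroup G).relIndex NP ≠ 1 := fun e => htP (relIndex_eq_one.1 e htN)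
    have hbig : 7 < NP.index := by
      by_contra hle
      have hk : (MulAction.toPermHom G (Sylow 3 G)).ker = ⊥ := by
        refine (MonoidHom.normal_ker _).eq_bot_or_eq_top.resolve_right fun e => ?_
        have hn' : (P : Subgroup G).Normal := normalizer_eq_top_iff.1 ((eq_top_iff' _).2 fun g => by
          have h1 : g • P = P := by
            have h2 : MulAction.toPermHom G (Sylow 3 G) g = 1 := by
              rw [← MonoidHom.mem_ker, e]; exact mem_top g
            simpa using congrArg (fun σ : Equiv.Perm (Sylow 3 G) => σ P) h2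
          exact Sylow.smul_eq_iff_mem_normalizer.1 h1)
        rcases hn'.eq_bot_or_eq_top with e' | e'
        · have := hS P; rw [e', Subgroup.card_bot] at this; omega
        · have := hS P; rw [e', Subgroup.card_top, hG] at this; omega
      have h1 : 1512 ∣ (Nat.card (Sylow 3 G)).factorial := by
        rw [← hG, ← Nat.card_perm]
        exact card_dvd_of_injective _ ((MonoidHom.ker_eq_bot_iff _).1 hk)
      have h2 : 1512 ∣ Nat.factorial 7 := h1.trans (Nat.factorial_dvd_factorial (by omega))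
      norm_num [Nat.factorial] at h2
    generalize (P : Subgroup G).relIndex NP = r at hdec hne ⊢
    generalize NP.index = i at hdec hmod hbig ⊢
    have hr : r ≤ 7 := by
      by_contra h
      have := Nat.mul_le_mul (show 8 ≤ r by omega) (show 8 ≤ i by omega)
      omega
    interval_cases r <;> omega
  -- transfer
  have htr : MonoidHom.transfer π φ = π ⟨φ, hφP⟩ ^ (P : Subgroup G).index := by
    refine SECount.transfer_eq_map_pow π hφP fun k g hk => ?_
    by_cases h3 : 3 ∣ k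
    · obtain ⟨j, rfl⟩ := h3
      rw [show (⟨g⁻¹ * φ ^ (3 * j) * g, hk⟩ : (P : Subgroup G)) = 1 from Subtype.ext (by
        simp [pow_mul, F.pow]), map_one, ← map_pow,
        show (⟨φ, hφP⟩ : (P : Subgroup G)) ^ (3 * j) = 1 from Subtype.ext (by simp [pow_mul, F.pow]),
        map_one]
    · have hcop : k.Coprime (orderOf φ) := by
        rw [orderOf_eq_prime F.pow F.phi_ne_one]
        exact ((Nat.Prime.coprime_iff_not_dvd Nat.prime_three).2 h3).symm
      obtain ⟨i, hi⟩ := exists_pow_eq_self_of_coprime hcop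
      have hg : g⁻¹ * φ * g ∈ (P : Subgroup G) := by
        have := pow_mem hk i
        conv at this => arg 2; rw [show g⁻¹ * φ ^ k * g = g⁻¹ * φ ^ k * g⁻¹⁻¹ by rw [inv_inv],
          conj_pow, hi, inv_inv]
        exact this
      have e1 : π ⟨g⁻¹ * φ * g, hg⟩ = π ⟨φ, hφP⟩ := by
        have hgN := hfixN g hg
        by_cases hgP : g ∈ (P : Subgroup G)
        · rw [show (⟨g⁻¹ * φ * g, hg⟩ : (P : Subgroup G)) =
            (⟨g, hgP⟩ : (P : Subgroup G))⁻¹ * ⟨φ, hφP⟩ * ⟨g, hgP⟩ from rfl, map_mul, map_mul, map_inv,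
            mul_comm, mul_inv_cancel_left]
        · have hq : t * g ∈ (P : Subgroup G) := by
            have h := (mul_mem_iff_of_index_two (H := (P : Subgroup G).subgroupOf NP) hidx2
              (a := ⟨t, htN⟩) (b := ⟨g, hgN⟩)).2 (by simp [mem_subgroupOf, htP, hgP])
            exact mem_subgroupOf.1 h
          rw [show (⟨g⁻¹ * φ * g, hg⟩ : (P : Subgroup G)) =
            (⟨t * g, hq⟩ : (P : Subgroup G))⁻¹ * ⟨φ, hφP⟩ * ⟨t * g, hq⟩ from Subtype.ext ?_, map_mul,
            map_mul, map_inv, mul_comm, mul_inv_cancel_left]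
          show g⁻¹ * φ * g = (t * g)⁻¹ * φ * (t * g)
          rw [mul_inv_rev, inv_eq_of_mul_eq_one_right F.tt,
            show g⁻¹ * t * φ * (t * g) = g⁻¹ * (t * φ * t) * g by group, ← F.comm, mul_assoc φ, F.tt,
            mul_one]
      rw [show (⟨g⁻¹ * φ ^ k * g, hk⟩ : (P : Subgroup G)) = ⟨g⁻¹ * φ * g, hg⟩ ^ k from Subtype.ext (by
        show g⁻¹ * φ ^ k * g = (g⁻¹ * φ * g) ^ k
        conv_rhs => rw [show g⁻¹ * φ * g = g⁻¹ * φ * g⁻¹⁻¹ by rw [inv_inv], conj_pow, inv_inv]),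
        map_pow, e1]
  rw [SmallGroups.hom_commGroup_eq_one d.nonab] at htr
  have h56 : (P : Subgroup G).index = 56 := by
    have h := card_mul_index (P : Subgroup G)
    rw [hS, hG] at h
    omega
  have hπ3 : π ⟨φ, hφP⟩ ^ 3 = 1 := by
    rw [← map_pow, show (⟨φ, hφP⟩ : (P : Subgroup G)) ^ 3 = 1 from Subtype.ext F.pow, map_one]
  have hπ : π ⟨φ, hφP⟩ = 1 := by
    have h1 : π ⟨φ, hφP⟩ ^ 56 = 1 := by rw [← h56, ← htr]
    simpa using pow_gcd_eq_one.2 ⟨h1, hπ3⟩
  have hφz : φ ∈ zpowers z := mem_subgroupOf.1 ((QuotientGroup.eq_one_iff _).1 hπ)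
  obtain ⟨i, hi⟩ := mem_zpowers_iff.1 hφz
  exact hφC fun q hq => mem_centralizer_singleton_iff.2 (by
    rw [← hi]; exact ((show Commute q z from hzc q hq).zpow_right i).eq)

/-- The strongly embedded configuration is impossible. -/
theorem Data.false_bot (d : Data G p E ⊥) (hex : ∃ x : G, orderOf x = 2 * p) : False := by
  classical
  haveI := d.hyp.fact
  haveI := d.simple
  have hfree := d.not_free hex
  have hfix : FixCase E p := d.dichotomy.resolve_left fun h => hfree h.1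
  obtain ⟨φ, t, N₀, F⟩ := d.exists_fixed hfix hfree
  obtain ⟨P1, hP, hP1, hdec, hC⟩ := F.cent_phi
  by_cases hu : ∀ g : G, g⁻¹ * φ * g ∈ normalizer ((E : Subgroup G) : Set G) →
      g ∈ normalizer ((E : Subgroup G) : Set G)
  · obtain ⟨M₀, hM₀n, hM₀i, -, hM₀p⟩ := hfix.quot
    haveI := hM₀n
    exact false_of_unique_fixed d.nonab M₀ hM₀i F.mem F.pow
      (fun h => F.notC (hM₀p _ h F.pow)) hu
  push Not at hu
  obtain ⟨g, hg, hgM⟩ := hu
  obtain ⟨k₀, hk₀, hk₀g⟩ := F.fix_trans hP1 hdec hg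
  have hk₀M : k₀ ∉ normalizer ((E : Subgroup G) : Set G) := fun h => hgM (by
    have := mul_mem h hk₀g
    rwa [mul_inv_cancel_left] at this)
  obtain ⟨hp, h9⟩ := F.eq_three hP hP1 hk₀ hk₀M
  have hk := F.conj_phi_of_P1 hP1 hk₀
  obtain ⟨K, hK⟩ := F.exists_seven hp hk hk₀M
  rcases hK.card_group d hp (hp ▸ F.pow) with h | ⟨h, hc, hn⟩
  · exact F.not_card_1512 hp hP1 h9 (by rw [hC, h9]) h
  · exact not_card_17640 d hp h hc hn

end Cfsg.Agent.Lib.TwoPEven
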