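import Mathlib
import Cfsg.Agent.Lib.TwoPEven.Local
import Cfsg.Agent.Lib.TwoPEven.SEFinal

/-!
A finite simple group with an element of order `2p` (`p` an odd prime) in which every element of
order divisible by `2` or `p` has order `2`, `p` or `2p` is some `PSL(2, F)`, `F` finite of odd
order.
-/

set_option autoImplicit false

namespace Cfsg.Agent.Lib.TwoPEven

open Subgroup

universe u

variable {G : Type u} [Group G] [Finite G] {p : ℕ}

theorem Hyp.four_le (h : Hyp G p) [IsSimpleGroup G] (hG : ¬ IsMulCommutative G)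
    (hex : ∃ x : G, orderOf x = 2 * p) (E : Sylow 2 G) : 4 ≤ Nat.card (E : Subgroup G) := by
  haveI := Fact.mk Nat.prime_two
  obtain ⟨x, hx⟩ := hex
  have h2 : 2 ∣ Nat.card G := (Dvd.intro p hx.symm).trans (orderOf_dvd_natCard x)
  obtain ⟨k, hk⟩ := IsPGroup.iff_card.1 E.isPGroup'
  have h2E : 2 ∣ Nat.card (E : Subgroup G) := E.dvd_card_of_dvd_card h2
  rw [hk] at h2E ⊢
  rcases k with _ | _ | k
  · norm_num at h2E
  · exfalso
    have hc : Nat.card (E : Subgroup G) = 2 := by rw [hk]; norm_num
    have hNC : normalizer ((E : Subgroup G) : Set G) ≤ centralizer ((E : Subgroup G) : Set G) := by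
      intro n hn
      rw [mem_centralizer_iff]
      intro a ha
      by_cases ha1 : a = 1
      · simp [ha1]
      obtain ⟨y, z, -, huniv⟩ := Nat.card_eq_two_iff.1 hc
      have hall : ∀ b ∈ (E : Subgroup G), b ≠ 1 → b = a := by
        intro b hb hb1
        have hmem : ∀ w : (E : Subgroup G), w = y ∨ w = z := fun w => by
          have := Set.mem_univ w
          rw [← huniv] at this
          simpa using this
        rcases hmem ⟨1, one_mem _⟩ with e1 | e1 <;> rcases hmem ⟨a, ha⟩ with e2 | e2 <;>
          rcases hmem ⟨b, hb⟩ with e3 | e3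
        all_goals first
          | exact congrArg Subtype.val (e3.trans e2.symm)
          | exact absurd (congrArg Subtype.val (e2.trans e1.symm)) ha1
          | exact absurd (congrArg Subtype.val (e3.trans e1.symm)) hb1
      have h1 := hall _ ((mem_normalizer_iff.1 hn a).1 ha) fun e => ha1 (conj_eq_one_iff.1 e)
      exact (mul_inv_eq_iff_eq_mul.1 h1).symm
    have hK := MonoidHom.ker_transferSylow_isComplement' E hNC
    rcases (MonoidHom.normal_ker (MonoidHom.transferSylow E hNC)).eq_bot_or_eq_top with e | e
    · rw [e] at hK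
      have hE : (E : Subgroup G) = ⊤ := by simpa using hK.sup_eq_top
      have hb := E.isPGroup'
      rw [hE] at hb
      exact SmallGroups.not_isPGroup hG (hb.of_equiv Subgroup.topEquiv)
    · rw [e] at hK
      have hE : (E : Subgroup G) = ⊥ := by simpa using hK.disjoint.eq_bot
      rw [hE, Subgroup.card_bot] at hc
      omega
  · rw [pow_succ, pow_succ]
    have := Nat.one_le_two_pow (n := k)
    omega

/-- The recognition theorem. -/
theorem exists_psl2 [IsSimpleGroup G] (hG : ¬ IsMulCommutative G) (h : Hyp G p)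
    (hex : ∃ x : G, orderOf x = 2 * p) :
    ∃ (F : Type) (_ : Field F) (_ : Fintype F), Odd (Fintype.card F) ∧
      Nonempty (G ≃* Matrix.ProjectiveSpecialLinearGroup (Fin 2) F) := by
  obtain ⟨E⟩ := (inferInstance : Nonempty (Sylow 2 G))
  have h4 := h.four_le hG hex E
  rcases h.stronglyEmbedded_or_psl hG hex E h4 with hse | hpsl
  · exfalso
    obtain ⟨X, hXC, hXp, hXmem, hXdec, hXN⟩ := h.exists_centP E
      (fun e => by rw [e, Subgroup.card_bot] at h4; omega)
    have d : Data G p E X :=
      ⟨h, inferInstance, hG, h4, hse, hXC, hXp, hXmem, hXdec, hXN⟩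
    obtain rfl := d.X_eq_bot
    exact d.false_bot hex
  · exact hpsl

end Cfsg.Agent.Lib.TwoPEven
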